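import Cfsg.Agent.Sp4F.Defs

/-! Groups acting on a plane whose Sylow subgroup is the group of transvections with a given axis. -/

set_option autoImplicit false

namespace Cfsg.Lib.Sp4F

open Cfsg Cfsg.FusionSystem Subgroup Equiv Cfsg.Lib.Fus

universe u

variable {K : Type u} [Field K] [Finite K] {p : ℕ} [Fact p.Prime]

namespace LemB

variable {G : Type*} [Group G] [Finite G] {ρ : G →* Perm (K × K)} {T : Subgroup G}

omit [Finite K] in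
theorem ti (hadd : ∀ g u v, ρ g (u + v) = ρ g u + ρ g v) (hT : SylIn p T ⊤)
    (h1 : ∀ s ∈ T, ∃ t, ∀ x y, ρ s (x, y) = (x, y + t * x))
    (h2 : ∀ t, ∃ s ∈ T, ∀ x y, ρ s (x, y) = (x, y + t * x)) {g : G} {y₀ y₁ : K}
    (h3 : (ρ g (0, y₀)).1 ≠ 0) (h4 : (ρ g (0, y₁)).1 = 0) : y₁ = 0 := by
  let A : G → (K × K →+ K × K) := fun g => AddMonoidHom.mk' (ρ g) (hadd g)
  have zs : ∀ g (n : ℤ) v, ρ g (n • v) = n • ρ g v := fun g => map_zsmul (A g)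
  set u := ρ g (0, y₀) with hu
  set d := ρ g (0, y₁) with hd
  obtain ⟨s, hs, es⟩ := h2 (d.2 / u.1)
  let H : Subgroup G :=
    { carrier := {h | ρ h d = d ∧ ∃ n : ℤ, ρ h u = u + n • d}
      one_mem' := ⟨by simp, 0, by simp⟩
      mul_mem' := fun {a b} ⟨a1, m, a2⟩ ⟨b1, n, b2⟩ => ⟨by rw [map_mul, Perm.mul_apply, b1, a1],
        m + n, by rw [map_mul, Perm.mul_apply, b2, hadd, zs, a1, a2, add_smul, add_assoc]⟩
      inv_mem' := fun {a} ⟨a1, m, a2⟩ => ⟨by rw [map_inv, Perm.inv_eq_iff_eq, a1], -m, by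
        rw [map_inv, Perm.inv_eq_iff_eq, hadd, zs, a1, a2, neg_smul, add_neg_cancel_right]⟩ }
  have fx : ∀ r ∈ T.map (MulAut.conj g).toMonoidHom, ∀ y, ρ r (ρ g (0, y)) = ρ g (0, y) := by
    rintro _ ⟨r, hr, rfl⟩ y
    obtain ⟨t, e⟩ := h1 r hr
    show ρ (g * r * g⁻¹) _ = _
    rw [← Perm.mul_apply, ← map_mul, inv_mul_cancel_right, map_mul, Perm.mul_apply, e, mul_zero,
      add_zero]
  have sH : s ∈ H := ⟨by rw [← Prod.mk.eta (p := d), es, h4, mul_zero, add_zero], 1, by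
    rw [← Prod.mk.eta (p := u), es, div_mul_cancel₀ _ h3]
    exact Prod.ext (by simp [h4]) (by simp)⟩
  obtain ⟨h, hh, hm⟩ := ((hT.conj (g := g) (le_normalizer (mem_top g))).mono (B := H)
    (fun r hr => ⟨fx r hr _, 0, (fx r hr _).trans (by simp [hu])⟩) le_top).exists_conj (zpowers_le_of_mem sH)
    (hT.pgroup.to_le (zpowers_le_of_mem hs))
  have e1 := fx _ (hm s (mem_zpowers s)) y₀
  obtain ⟨-, n, e2⟩ := H.inv_mem hh
  rw [← hu, mul_assoc, map_mul, Perm.mul_apply, ← Perm.eq_inv_iff_eq, ← map_inv, map_mul,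
    Perm.mul_apply, ← Prod.mk.eta (p := ρ h⁻¹ u), es, Prod.mk.injEq, add_eq_left, e2] at e1
  have e3 : d = 0 := Prod.ext h4 (by simpa [h4, h3] using e1.2)
  exact congrArg Prod.snd ((ρ g).injective (e3.trans (map_zero (A g)).symm))

end LemB

theorem lemB [CharP K p] {G : Type*} [Group G] [Finite G] (ρ : G →* Perm (K × K))
    (hadd : ∀ g u v, ρ g (u + v) = ρ g u + ρ g v) {T : Subgroup G} (hT : SylIn p T ⊤)
    (h1 : ∀ s ∈ T, ∃ t, ∀ x y, ρ s (x, y) = (x, y + t * x))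
    (h2 : ∀ t, ∃ s ∈ T, ∀ x y, ρ s (x, y) = (x, y + t * x))
    (h3 : ∃ g y, (ρ g (0, y)).1 ≠ 0) :
    ∃ (α : G) (φ : K →+ K), (∀ x, ∃ y, ρ α (0, y) = (x, φ x)) ∧
      (∀ c, ∃ s ∈ T, ∀ x y,
        ρ (α * s * α⁻¹) (x, y + φ x) = (x + c * y, y + φ (x + c * y))) ∧
      (∀ g, (∀ y, (ρ g (0, y)).1 = 0) ∨
        ∃ t, ∀ y, (ρ g (0, y)).2 = t * (ρ g (0, y)).1 + φ (ρ g (0, y)).1) ∧
      ∀ a : K, a ≠ 0 → ∃ h ∈ normalClosure (T : Set G), ∀ x y,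
        ρ h (x, y + φ x) = (a⁻¹ * x, a * y + φ (a⁻¹ * x)) := by
  have ti := fun g y₀ y₁ => LemB.ti hadd hT h1 h2 (g := g) (y₀ := y₀) (y₁ := y₁)
  have mul : ∀ a b v, ρ (a * b) v = ρ a (ρ b v) := fun a b v => by rw [map_mul, Perm.mul_apply]
  have inv : ∀ a v, ρ a (ρ a⁻¹ v) = v := fun a v => by rw [← mul, mul_inv_cancel, map_one]; rfl
  have inv' : ∀ a v, ρ a⁻¹ (ρ a v) = v := fun a v => by rw [← mul, inv_mul_cancel, map_one]; rfl
  let B : G → (K →+ K × K) := fun g => (AddMonoidHom.mk' (ρ g) (hadd g)).comp (.inr K K)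
  have bij : ∀ g y, (ρ g (0, y)).1 ≠ 0 →
      Function.Bijective ((AddMonoidHom.fst K K).comp (B g)) := fun g y h =>
    Finite.injective_iff_bijective.1 ((injective_iff_map_eq_zero _).2 fun z hz => ti g y z h hz)
  obtain ⟨α, y₀, h0⟩ := h3
  let e := AddEquiv.ofBijective _ (bij α y₀ h0)
  let φ : K →+ K := ((AddMonoidHom.snd K K).comp (B α)).comp e.symm.toAddMonoidHom
  have ha : ∀ x, ∃ y, ρ α (0, y) = (x, φ x) := fun x =>
    ⟨e.symm x, Prod.ext (e.apply_symm_apply x) rfl⟩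
  have hb : ∀ y, ∃ x, ρ α (0, y) = (x, φ x) := fun y =>
    ⟨e y, Prod.ext rfl (congrArg (fun z => (ρ α (0, z)).2) (e.symm_apply_apply y).symm)⟩
  clear_value φ
  have hc : ∀ g, (∀ y, (ρ g (0, y)).1 = 0) ∨
      ∃ t, ∀ y, (ρ g (0, y)).2 = t * (ρ g (0, y)).1 + φ (ρ g (0, y)).1 := fun g => by
    refine or_iff_not_imp_left.2 fun h => ?_
    obtain ⟨y, hy⟩ := not_forall.1 h
    obtain ⟨y₁, e1⟩ : ∃ y₁, (ρ g (0, y₁)).1 = 1 := (bij g y hy).2 1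
    obtain ⟨s, hs, es⟩ := h2 ((ρ g (0, y₁)).2 - φ 1)
    obtain ⟨y₂, e2⟩ := ha 1
    have e3 : ρ ((s * α)⁻¹ * g) (0, y₁) = (0, y₂) := by
      rw [mul, ← inv' (s * α) (0, y₂), mul, e2, es, mul_one, add_sub_cancel, ← e1]
    refine ⟨(ρ g (0, y₁)).2 - φ 1, fun z => ?_⟩
    have e4 : (ρ ((s * α)⁻¹ * g) (0, z)).1 = 0 := by_contra fun n => by
      rw [ti _ _ y₁ n (by rw [e3])] at e1
      exact zero_ne_one ((congrArg Prod.fst (map_zero (B g))).symm.trans e1)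
    obtain ⟨x, e5⟩ := hb (ρ ((s * α)⁻¹ * g) (0, z)).2
    rw [← inv (s * α) (ρ g (0, z)), ← mul (s * α)⁻¹, ← Prod.mk.eta (p := ρ (_ * g) (0, z)), e4, mul,
      e5, es, add_comm]
  have hd : ∀ c, ∃ s ∈ T, ∀ x y,
      ρ (α * s * α⁻¹) (x, y + φ x) = (x + c * y, y + φ (x + c * y)) := fun c => by
    obtain ⟨y₁, e1⟩ := ha c
    have w0 : (ρ α⁻¹ (0, 1)).1 ≠ 0 := fun n => by
      have e2 := inv α (0, 1)
      rw [← Prod.mk.eta (p := ρ α⁻¹ (0, 1)), n] at e2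
      rw [ti α _ _ h0 (congrArg Prod.fst e2)] at e2
      exact zero_ne_one (congrArg Prod.snd ((map_zero (B α)).symm.trans e2))
    obtain ⟨s, hs, es⟩ := h2 (y₁ / (ρ α⁻¹ (0, 1)).1)
    have mv : ∀ v, ρ (α * s * α⁻¹) v =
        v + ρ α (0, y₁ / (ρ α⁻¹ (0, 1)).1 * (ρ α⁻¹ v).1) := fun v => by
      rw [mul, mul, ← Prod.mk.eta (p := ρ α⁻¹ v), es]
      conv_rhs => rw [← inv α v, ← hadd, inv']
      exact congrArg _ (Prod.ext (add_zero _).symm rfl)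
    obtain ⟨b, eb⟩ : ∃ b : K → K, ∀ x y,
        ρ (α * s * α⁻¹) (x, y + φ x) = (x + b y, y + φ (x + b y)) := by
      choose b hb' using fun y => hb (y₁ / (ρ α⁻¹ (0, 1)).1 * (ρ α⁻¹ (0, y)).1)
      refine ⟨b, fun x y => ?_⟩
      obtain ⟨z, ez⟩ := ha x
      rw [mv, show (x, y + φ x) = ρ α (0, z) + (0, y) by rw [ez]; simp [add_comm], hadd, inv',
        Prod.fst_add, zero_add, hb', ez, map_add]
      exact Prod.ext (by simp) (by simp only [Prod.snd_add]; ring)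
    have b1 : b 1 = c := by
      have e2 := congrArg Prod.fst (eb 0 1)
      rw [mv, map_zero, add_zero, div_mul_cancel₀ _ w0, e1] at e2
      simpa using e2.symm
    obtain ⟨s₁, -, e3⟩ := h2 1
    have e4 : ∀ x, ∃ y, ρ (α * s * α⁻¹ * (s₁ * α)) (0, y) = (x + b x, x + φ (x + b x)) := fun x => by
      obtain ⟨y, ey⟩ := ha x
      exact ⟨y, by rw [mul, mul s₁, ey, e3, one_mul, add_comm (φ x), eb]⟩
    have e5 : ∀ x, b x = c * x := fun x => by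
      obtain ⟨y, ey⟩ := e4 x
      obtain ⟨y', ey'⟩ := e4 1
      rcases hc (α * s * α⁻¹ * (s₁ * α)) with h | ⟨t, h⟩
      all_goals
        have h5 := h y
        have h6 := h y'
        simp only [ey, ey', b1, add_left_inj] at h5 h6
      · linear_combination h5 - x * h6
      · linear_combination (x + b x) * h6 - (1 + c) * h5
    exact ⟨s, hs, fun x y => by rw [eb, e5]⟩
  refine ⟨α, φ, ha, hd, hc, fun a a0 => ?_⟩
  have ht : ∀ t, ∃ s ∈ T, ∀ x y, ρ s (x, y + φ x) = (x, y + t * x + φ x) := fun t =>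
    let ⟨s, hs, es⟩ := h2 t
    ⟨s, hs, fun x y => by rw [es, add_right_comm]⟩
  obtain ⟨s₁, m₁, e₁⟩ := hd (a⁻¹ - 1)
  obtain ⟨s₂, m₂, e₂⟩ := ht 1
  obtain ⟨s₃, m₃, e₃⟩ := hd (a - 1)
  obtain ⟨s₄, m₄, e₄⟩ := ht (-a⁻¹)
  have nc : ∀ s ∈ T, α * s * α⁻¹ ∈ normalClosure (T : Set G) := fun s hs =>
    normalClosure_normal.conj_mem _ (subset_normalClosure hs) α
  refine ⟨α * s₁ * α⁻¹ * (s₂ * (α * s₃ * α⁻¹ * s₄)), mul_mem (nc _ m₁) (mul_mem
    (subset_normalClosure m₂) (mul_mem (nc _ m₃) (subset_normalClosure m₄))), fun x y => ?_⟩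
  rw [mul, mul s₂, mul _ s₄, e₄, e₃, e₂, e₁]
  have e6 : x + (a - 1) * (y + -a⁻¹ * x) + (a⁻¹ - 1) *
      (y + -a⁻¹ * x + 1 * (x + (a - 1) * (y + -a⁻¹ * x))) = a⁻¹ * x := by field_simp; ring
  rw [e6]
  congr 2
  field_simp; ring

omit [Finite K] in
/-- projection of an additive group of permutations of `K³` preserving `x = y = 0` -/
theorem exists_proj {G : Subgroup (Perm (K × K × K))} (ha : Ad G) (hd : Dv G) :
    ∃ ρ : G →* Perm (K × K), (∀ g u v, ρ g (u + v) = ρ g u + ρ g v) ∧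
      ∀ (g : G) x y z, ρ g (x, y) = ((g.1 (x, y, z)).1, (g.1 (x, y, z)).2.1) := by
  have key : ∀ (g : G) x y z, ((g.1 (x, y, 0)).1, (g.1 (x, y, 0)).2.1) =
      ((g.1 (x, y, z)).1, (g.1 (x, y, z)).2.1) := fun g x y z => by
    obtain ⟨z', e⟩ := hd g g.2 z
    rw [show (x, y, z) = (x, y, 0) + (0, 0, z) by simp, ha g g.2, e]
    simp
  refine ⟨MonoidHom.toHomPerm
    { toFun := fun g v => ((g.1 (v.1, v.2, 0)).1, (g.1 (v.1, v.2, 0)).2.1)
      map_one' := rfl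
      map_mul' := fun g h => funext fun v => (key g _ _ (h.1 (v.1, v.2, 0)).2.2).symm },
    fun g u v => ?_, key⟩
  show ((g.1 (u.1 + v.1, u.2 + v.2, 0)).1, (g.1 (u.1 + v.1, u.2 + v.2, 0)).2.1) = _
  rw [show (u.1 + v.1, u.2 + v.2, (0 : K)) = (u.1, u.2, 0) + (v.1, v.2, 0) by simp, ha g g.2]
  rfl

end Cfsg.Lib.Sp4F
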