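import Cfsg.Agent.Sp4F.LemA0
import Cfsg.Agent.FT.BG1.Coprime

/-! Groups acting on the symmetric square of a plane with the full unipotent group as a Sylow
subgroup and with a fixed vector: the Sylow subgroup is normal. -/

set_option autoImplicit false

namespace Cfsg.Lib.Sp4F

open Subgroup Cfsg.Lib.Fus Cfsg.Lib.Trans Equiv

namespace LA

variable {K : Type*} [Field K] {Γ V : Type*} [Group Γ] [AddCommGroup V] [DistribMulAction Γ V]

/-- `P` has coordinates. -/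
def Pt (p : ℕ) (K V : Type*) [Field K] [AddCommGroup V] [DistribMulAction Γ V] (P : Subgroup Γ) :
    Prop := ∃ (X Y W : V →+ K) (σ : K → Γ), Co p P X Y W σ

/-- `D` is a maximal intersection of fixed spaces of Sylow subgroups. -/
structure Cx (p : ℕ) (K Γ : Type*) [Field K] [Group Γ] [DistribMulAction Γ V]
    (D : AddSubgroup V) : Prop where
  all : ∀ P : Subgroup Γ, SylIn p P ⊤ → Pt p K V P
  ne : ∃ d ∈ D, d ≠ 0
  max : ∀ P P' : Subgroup Γ, SylIn p P ⊤ → SylIn p P' ⊤ → D ≤ Zs V P → D ≤ Zs V P' → P ≠ P' →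
    ∀ v ∈ Zs V P, v ∈ Zs V P' → v ∈ D

/-- Sylow subgroups centralising `D`. -/
def Pn (p : ℕ) (D : AddSubgroup V) (P : Subgroup Γ) : Prop := SylIn p P ⊤ ∧ D ≤ Zs V P

/-- Elements centralising `D` and fixing `u` modulo `D`. -/
def Hs (Γ : Type*) [Group Γ] [DistribMulAction Γ V] (D : AddSubgroup V) (u : V) : Subgroup Γ where
  carrier := {g | (∀ d ∈ D, g • d = d) ∧ g • u - u ∈ D}
  one_mem' := ⟨fun d _ => one_smul _ d, by simp⟩
  mul_mem' := fun {a b} ha hb => ⟨fun d hd => by rw [mul_smul, hb.1 d hd, ha.1 d hd], by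
    have := ha.1 _ hb.2
    rw [smul_sub, sub_eq_iff_eq_add] at this
    rw [mul_smul, this, add_sub_assoc]
    exact add_mem hb.2 ha.2⟩
  inv_mem' := fun {a} ha => ⟨fun d hd => by rw [inv_smul_eq_iff, ha.1 d hd], by
    have := inv_smul_eq_iff.2 (ha.1 _ ha.2).symm
    rw [smul_sub, inv_smul_smul] at this
    rw [← neg_sub, this]
    exact neg_mem ha.2⟩

variable {p : ℕ} {D : AddSubgroup V} {P P' : Subgroup Γ} {g s w w' : Γ} {u y : V}

theorem Pn.cj (h : Pn p D P) (hg : ∀ d ∈ D, g • d = d) : Pn p D (cj g P) :=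
  ⟨h.1.conj (by rw [normalizer_eq_top]; trivial), fun d hd => hg d hd ▸ Zs_cj.2 (h.2 hd)⟩

theorem mem_of_norm (h : SylIn p P ⊤) (h' : SylIn p P' ⊤) (hs : s ∈ P') (e : cj s P = P) : s ∈ P :=
  h.le_of_normalizes le_top (h'.pgroup.to_le (zpowers_le_of_mem hs))
    (zpowers_le_of_mem (cj_eq_self_iff.1 e)) (mem_zpowers s)

theorem Co.exists_int {X Y W : V →+ K} {σ : K → Γ} (k : Co p P X Y W σ) {d₀ : V}
    (h : Zs V P = AddSubgroup.zmultiples d₀) (hy : y ∈ Z2 V P) (hy' : y ∉ Zs V P)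
    (hu : u ∈ Z2 V P) : ∃ n : ℤ, u - n • y ∈ Zs V P := by
  have key : ∀ a : K, ∃ n : ℤ, n * W d₀ = a := fun a => by
    obtain ⟨v, h1, h2, rfl⟩ := k.surj 0 0 a
    obtain ⟨n, rfl⟩ := h.le (k.mem_Zs.2 ⟨h1, h2⟩)
    exact ⟨n, by simp⟩
  obtain ⟨m, hm⟩ := key 1
  obtain ⟨n, hn⟩ := key (Y u / Y y * W d₀)
  rw [k.mem_Z2] at hy hu
  have h0 : Y y ≠ 0 := fun e => hy' (k.mem_Zs.2 ⟨hy, e⟩)
  have := mul_right_cancel₀ (right_ne_zero_of_mul_eq_one hm) hn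
  exact ⟨n, k.mem_Zs.2 ⟨by simp [hy, hu], by simp [this, h0]⟩⟩

variable [Finite Γ] [Finite K] [FaithfulSMul Γ V] [CharP K p] [hp : Fact p.Prime]

namespace Cx

variable (c : Cx p K Γ D)
include c

omit hp [Finite K] in
theorem ti (h : SylIn p P ⊤) (h' : SylIn p P' ⊤) (hs : s ∈ P) (hs' : s ∈ P') (h1 : s ≠ 1) :
    P = P' := by
  obtain ⟨_, _, _, _, k⟩ := c.all P h
  obtain ⟨_, _, _, _, k'⟩ := c.all P' h'
  exact h'.max P (fun g hg => mem_of_norm h h' hg (k.cent hs h1 (k'.comm hg hs'))) le_top h.pgroup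

omit [Finite K] in
theorem b1 (h : Pn p D P) (h' : Pn p D P') (hne : P ≠ P') (hu : u ∈ Zs V P') (hu2 : u ∈ Z2 V P) :
    u ∈ D := by
  obtain ⟨_, _, _, _, k⟩ := c.all P h.1
  by_contra hD
  have hZ : u ∉ Zs V P := fun e => hD (c.max _ _ h.1 h'.1 h.2 h'.2 hne u e hu)
  obtain ⟨d, hd, hd0⟩ := c.ne
  obtain ⟨s, hs, e⟩ := k.tr hu2 hZ (h.2 hd)
  have hsH : s ∈ Hs Γ D u := ⟨fun d hd => h.2 hd s hs, by simpa [e] using hd⟩
  obtain ⟨a, ha, e2⟩ := (h'.1.mono (B := Hs Γ D u) (fun g hg => ⟨fun d hd => h'.2 hd g hg, by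
    simp [hu g hg]⟩) le_top).exists_conj (zpowers_le_of_mem hsH)
      (h.1.pgroup.to_le (zpowers_le_of_mem hs))
  have e3 := c.ti h.1 (h'.cj (inv_mem ha).1).1 hs (mem_cj_inv.2 (e2 s (mem_zpowers s)))
    fun e1 => hd0 (by simpa [e1] using e)
  have h4 : a⁻¹ • u ∈ Zs V P := e3 ▸ Zs_cj.2 hu
  exact hZ (by simpa using sub_mem h4 (h.2 (inv_mem ha).2))

omit [Finite K] in
theorem b2a (h : Pn p D P) (h' : Pn p D P') (hw : Inv V P w) (hn : cj w P' = P') :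
    Inv V P' w := by
  by_cases hne : P = P'
  · exact hne ▸ hw
  obtain ⟨_, _, _, _, k⟩ := c.all P h.1
  obtain ⟨_, _, _, _, k'⟩ := c.all P' h'.1
  refine (k'.inv_or hn (fun z hz => ?_) (k.inv_sq hw)).resolve_left (k.inv_ne hw)
  have h1 := hw.z _ (h.2 (c.b1 h h' hne (sub_mem ((Zs_norm hn).2 hz) hz) (hw.x z)))
  rw [smul_sub, ← mul_smul, k.inv_sq hw, one_smul] at h1
  refine sub_eq_zero.1 (AddSubgroup.mem_bot.1 (k.half ?_))
  nth_rw 1 [← h1]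
  simp

omit hp [Finite K] in
theorem uniq (h : Pn p D P) (h' : Pn p D P') (hne : P ≠ P') (h1 : Inv V P w) (h2 : Inv V P w')
    (h3 : Inv V P' w) (h4 : Inv V P' w') : w = w' := by
  obtain ⟨_, _, _, _, k⟩ := c.all P h.1
  obtain ⟨_, _, _, _, k'⟩ := c.all P' h'.1
  by_contra e
  exact hne (c.ti h.1 h'.1 (k.inv_mul_mem h1 h2) (k'.inv_mul_mem h3 h4)
    fun e1 => e (inv_mul_eq_one.1 e1))

omit [Finite K] in
theorem b3 (h : Pn p D P) (h' : Pn p D P') (hne : P ≠ P') (hy : y ∈ Z2 V P) (hy' : y ∈ Z2 V P')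
    (hZ : y ∉ Zs V P) : ∃ d₀ : V, D = AddSubgroup.zmultiples d₀ := by
  obtain ⟨_, _, _, _, k⟩ := c.all P h.1
  obtain ⟨_, _, _, _, k'⟩ := c.all P' h'.1
  have hZ' : ∀ {Q}, Pn p D Q → y ∉ Zs V Q := fun {Q} hQ e => by
    by_cases e1 : P = Q
    · exact hZ (e1 ▸ e)
    · exact hZ (h.2 (c.b1 h hQ e1 e hy))
  have hH : ∀ {Q s d}, Pn p D Q → s ∈ Q → d ∈ D → s • y = y + d → s ∈ Hs Γ D y :=
    fun hQ hs hd e => ⟨fun d hd => hQ.2 hd _ hs, by simpa [e] using hd⟩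
  by_cases hc : IsCyclic (P ⊓ Hs Γ D y : Subgroup Γ)
  · obtain ⟨s, hs⟩ := (Subgroup.isCyclic_iff_exists_zpowers_eq_top _).1 hc
    have hs1 : s ∈ P ⊓ Hs Γ D y := hs ▸ mem_zpowers s
    refine ⟨s • y - y, le_antisymm (fun d hd => ?_) (AddSubgroup.zmultiples_le_of_mem hs1.2.2)⟩
    obtain ⟨r, hr, e⟩ := k.tr hy hZ (h.2 hd)
    obtain ⟨n, rfl⟩ := mem_powers_iff_mem_zpowers.2 (hs.ge ⟨hr, hH h hr hd e⟩)
    have := pow_smul_sub (B := ⊥) hs1.2.2
      (fun u hu => by rw [hs1.2.1 u hu, sub_self]; exact zero_mem _)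
      (fun u hu => by rw [AddSubgroup.mem_bot.1 hu, smul_zero]; exact zero_mem _) n
    rw [show s ^ n • y = y + d from e, add_sub_cancel_left, AddSubgroup.mem_bot, sub_eq_zero] at this
    exact this ▸ nsmul_mem (AddSubgroup.mem_zmultiples _) n
  exfalso
  obtain ⟨d, hd, hd0⟩ := c.ne
  obtain ⟨s, hs, e⟩ := k.tr hy hZ (h.2 hd)
  obtain ⟨s', hs', e'⟩ := k'.tr hy' (hZ' h') (h'.2 hd)
  have hJ : Hs Γ D y ⊓ MulAction.stabilizer Γ y ≤ normalizer (P : Set Γ) := by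
    refine FT.coprime_abelian_gen_cent1 (A := P ⊓ Hs Γ D y)
      ⟨⟨fun a b => Subtype.ext (k.comm a.2.1 b.2.1)⟩⟩ hc (fun a ha => mem_normalizer_fintype
        fun j hj => ⟨(Hs Γ D y).mul_mem ((Hs Γ D y).mul_mem ha.2 hj.1) ((Hs Γ D y).inv_mem ha.2), ?_⟩) ?_
      fun a ha a1 j hj => cj_eq_self_iff.1 (k.cent ha.1 a1 (mem_centralizer_singleton_iff.1 hj.2))
    · have := hj.1.1 _ ((Hs Γ D y).inv_mem ha.2).2
      rw [smul_sub, show j • y = y from hj.2, sub_left_inj] at this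
      show (a * j * a⁻¹) • y = y
      rw [mul_smul, mul_smul, this, smul_inv_smul]
    · obtain ⟨n, hn⟩ := (h.1.pgroup.to_inf_left (K := Hs Γ D y)).exists_card_eq
      rw [hn]
      refine Nat.Coprime.pow_right _ (hp.out.coprime_iff_not_dvd.2 fun hd => ?_).symm
      obtain ⟨j, hj⟩ := exists_prime_orderOf_dvd_card' p hd
      have j1 : (j : Γ) ≠ 1 := fun e => hp.out.ne_one (by rw [← hj, ← orderOf_coe, e, orderOf_one])
      obtain ⟨Q, hQ, hjQ⟩ := exists_sylIn_ge (le_top : zpowers (j : Γ) ≤ ⊤)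
        (isPGroup_zpowers_of_pow (p := p) (j := 1) (by
          rw [pow_one, ← hj, ← orderOf_coe, pow_orderOf_eq_one]))
      obtain ⟨_, _, _, _, k2⟩ := c.all Q hQ
      have f := fun v => k2.fix (v := v) (hjQ (mem_zpowers _)) j1
      exact hZ' ⟨hQ, fun d hd => f d (j.2.1.1 d hd)⟩ (f y j.2.2)
  have h1 := hJ (x := s⁻¹ * s') ⟨(Hs Γ D y).mul_mem ((Hs Γ D y).inv_mem (hH h hs hd e)) (hH h' hs' hd e'), by
    show (s⁻¹ * s') • y = y
    rw [mul_smul, e', ← e, inv_smul_smul]⟩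
  have h2 : s' ∈ normalizer (P : Set Γ) := by simpa using mul_mem (le_normalizer hs) h1
  exact hne (c.ti h.1 h'.1 (mem_of_norm h.1 h'.1 hs' (cj_eq_self_iff.2 h2)) hs'
    fun e1 => hd0 (by simpa [e1] using e'))

theorem exists_not_mem (h : Pn p D P) (h' : Pn p D P') (hne : P ≠ P') : ∃ u ∈ Zs V P', u ∉ D := by
  by_contra hc
  push Not at hc
  obtain ⟨_, _, _, _, k⟩ := c.all P h.1
  obtain ⟨_, _, _, _, k'⟩ := c.all P' h'.1
  have hD : ∀ {Q : Subgroup Γ}, Pn p D Q → Zs V Q = D := fun {Q} hQ => by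
    obtain ⟨_, _, _, _, k2⟩ := c.all Q hQ.1
    have : Finite (Zs V Q) := Nat.finite_of_card_ne_zero (k2.card_Zs ▸ Nat.card_pos.ne')
    exact (AddSubgroup.eq_of_le_of_card_ge hQ.2
      (by rw [← le_antisymm hc h'.2, k2.card_Zs, k'.card_Zs])).symm
  have key : ∀ {Q R : Subgroup Γ} {y}, Pn p D Q → Pn p D R → y ∈ Z2 V Q → y ∈ Z2 V R → y ∉ D →
      Q = R := fun {Q R y} hQ hR h1 h2 h3 => by
    by_contra e
    obtain ⟨d₀, hd⟩ := c.b3 hQ hR e h1 h2 (hD hQ ▸ h3)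
    have le : ∀ {Q R : Subgroup Γ}, Pn p D Q → Pn p D R → y ∈ Z2 V Q → y ∈ Z2 V R →
        Z2 V Q ≤ Z2 V R := fun {Q R} hQ hR h1 h2 v hv => by
      obtain ⟨_, _, _, _, k2⟩ := c.all Q hQ.1
      obtain ⟨n, hn⟩ := k2.exists_int ((hD hQ).trans hd) h1 (hD hQ ▸ h3) hv
      exact sub_add_cancel v (n • y) ▸ add_mem (Zs_le (hR.2 (hD hQ ▸ hn))) (zsmul_mem h2 n)
    obtain ⟨_, _, _, _, k2⟩ := c.all R hR.1
    refine e (hQ.1.max R (fun s hs => mem_of_norm hR.1 hQ.1 hs (k2.norm (fun v hv => le hQ hR h1 h2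
      ((Z2_norm (cj_eq_of_mem hs)).2 (le hR hQ h2 h1 hv))) fun v hv => ?_)) le_top hR.1.pgroup).symm
    rwa [hQ.2 (hD hR ▸ hv) s hs]
  obtain ⟨u, hu, hu'⟩ := k'.exists_Z2
  have hu2 : u ∉ D := fun e => hu' (h'.2 e)
  obtain ⟨w, hw, e⟩ := k.exists_inv_fix fun e => hne (key h h' e hu hu2)
  have := (c.b2a h h' hw (key (h'.cj fun d hd => hw.z d (h.2 hd)) h' (e ▸ Z2_cj.2 hu) hu hu2)).y u hu
  exact hu' (k.half (by rwa [e] at this))

theorem b2 (h : Pn p D P) (h' : Pn p D P') (hne : P ≠ P') : ∃ w, Inv V P w ∧ Inv V P' w := by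
  obtain ⟨_, _, _, _, k⟩ := c.all P h.1
  obtain ⟨u, hu, hD⟩ := c.exists_not_mem h h' hne
  obtain ⟨w, hw, e⟩ := k.exists_inv_fix fun e => hD (c.b1 h h' hne hu e)
  refine ⟨w, hw, c.b2a h h' hw (by_contra fun e1 => hD ?_)⟩
  have h2 := h'.cj (g := w) fun d hd => hw.z d (h.2 hd)
  exact c.max _ _ h2.1 h'.1 h2.2 h'.2 e1 u (e ▸ Zs_cj.2 hu) hu

omit [Finite Γ] [Finite K] [FaithfulSMul Γ V] in
theorem card_D {d₀ : V} (hd : D = AddSubgroup.zmultiples d₀) (h : Pn p D P) : Nat.card D = p := by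
  obtain ⟨_, _, _, _, k⟩ := c.all P h.1
  obtain ⟨d, h1, h2⟩ := c.ne
  rw [hd, Nat.card_zmultiples]
  refine addOrderOf_eq_prime (k.p_smul _) fun e => h2 ?_
  simpa [hd, e] using h1

theorem pow_four {X Y W : V →+ K} {σ : K → Γ} (k : Co p P X Y W σ) (h : Pn p D P) (h' : Pn p D P')
    (hne : P ≠ P') (hw : Inv V P w) (hw' : Inv V P' w) (hD : Nat.card D = p) {e : K}
    (hg : Sc X Y g e) (hn : cj g P' = P') : e ^ 4 = 1 := by
  obtain ⟨_, _, _, _, k'⟩ := c.all P' h'.1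
  have i1 : ((Zs V P').map X).index = p := by
    have h1 := (X.ker.addSubgroupOf (Zs V P')).card_mul_index
    have h2 : X.ker.addSubgroupOf (Zs V P') = D.addSubgroupOf (Zs V P') := AddSubgroup.ext fun v =>
      ⟨fun hv => c.b1 h h' hne v.2 (k.mem_Z2.2 hv), fun hv => (k.mem_Zs.1 (h.2 hv)).1⟩
    rw [← AddSubgroup.relIndex, AddSubgroup.relIndex_ker, h2,
      Nat.card_congr (AddSubgroup.addSubgroupOfEquivOfLe h'.2).toEquiv, hD, k'.card_Zs,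
      ← ((Zs V P').map X).index_mul_card] at h1
    exact (Nat.eq_of_mul_eq_mul_right Nat.card_pos h1).symm
  obtain ⟨n, hn2⟩ : ∃ n : ℤ, e * e = n := by
    have i2 : ∀ a ∈ (Zs V P').map X, e * e * a ∈ (Zs V P').map X := by
      rintro _ ⟨v, hv, rfl⟩
      exact ⟨_, (Zs_norm hn).2 hv, by rw [hg.x, sq]⟩
    generalize (Zs V P').map X = A at i1 i2
    obtain ⟨b, hb⟩ : ∃ b, b ∉ A := by
      by_contra h3
      push Not at h3
      exact hp.out.ne_one (by rw [← i1, AddSubgroup.index_eq_one, eq_top_iff]; exact fun x _ => h3 x)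
    have : Fact (Nat.card (K ⧸ A)).Prime := ⟨by rw [← AddSubgroup.index, i1]; exact hp.out⟩
    have i3 : ∀ a : K, ∃ m : ℤ, a - m * b ∈ A := fun a => by
      obtain ⟨m, hm⟩ := ((AddSubgroup.zmultiples (b : K ⧸ A)).eq_bot_or_eq_top_of_prime_card.resolve_left
        fun e => hb (by simpa using e)).ge (AddSubgroup.mem_top (a : K ⧸ A))
      refine ⟨m, ?_⟩
      rw [← QuotientAddGroup.eq_iff_sub_mem, ← hm, ← zsmul_eq_mul]
      simp
    obtain ⟨n, i4⟩ := i3 (e * e * b)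
    refine ⟨n, by_contra fun e1 => hb ?_⟩
    obtain ⟨m, i5⟩ := i3 (b / (e * e - n))
    have := add_mem (sub_mem (i2 _ i5) (zsmul_mem i5 n)) (zsmul_mem i4 m)
    have e2 := sub_ne_zero.2 e1
    convert this using 1
    simp only [zsmul_eq_mul]
    linear_combination -mul_div_cancel₀ b e2
  have hg2 := hg.mul hg
  have hn3 : cj (g * g) P' = P' := by rw [cj_mul, hn, hn]
  obtain ⟨d, hd, hd0⟩ := c.ne
  have h4 := k'.cent_of_scal hn3 (k := n) (fun v hv => k.half ?_) (h'.2 hd) hd0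
    (hg2.z d (k.mem_Zs.1 (h.2 hd)).1 (k.mem_Zs.1 (h.2 hd)).2)
  · obtain ⟨u, hu, hD⟩ := c.exists_not_mem h h' hne
    have := hg2.x u
    rw [h4 u hu] at this
    exact mul_right_cancel₀ (fun e => hD (c.b1 h h' hne hu (k.mem_Z2.2 e)))
      (by linear_combination -this)
  have h1 := k.mem_Z2.1 (hw.x v)
  have h2 := h'.2 (c.b1 h' h hne.symm (u := (g * g) • (w • v - v) - n • (w • v - v))
    (k.mem_Zs.2 ⟨by rw [map_sub, hg2.x, map_zsmul, h1]; simp, by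
      rw [map_sub, hg2.y _ h1, map_zsmul, hn2]; simp⟩)
    (sub_mem ((Z2_norm hn3).2 (hw'.x v)) (zsmul_mem (hw'.x v) n)))
  have h3 := sub_mem (sub_mem ((Zs_norm hn3).2 (hw'.y v hv)) (zsmul_mem (hw'.y v hv) n)) h2
  convert h3 using 1
  simp only [smul_add, smul_sub]
  abel

omit [Finite K] [FaithfulSMul Γ V] [Finite Γ] in
theorem mem_of_neg (h : Pn p D P) (hw : Inv V P w) (e : w • y = -y) : y ∈ Z2 V P := by
  obtain ⟨_, _, _, _, k⟩ := c.all P h.1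
  exact k.half (by simpa [e, add_comm] using neg_mem (hw.x y))

theorem exists_psi (h : Pn p D P) (h' : Pn p D P') (hne : P ≠ P') (hw : Inv V P w)
    (hw' : Inv V P' w) (e : w • y = -y) (hy : y ∉ Zs V P) {d : V} (hd : d ∈ D) (hd0 : d ≠ 0) :
    ∃ Ψ : Subgroup Γ → V, (∀ Q, Pn p D Q → Inv V Q w → Ψ Q ∈ D ∧ Ψ Q ≠ d) ∧
      ∀ Q R, Pn p D Q → Inv V Q w → Pn p D R → Inv V R w → Ψ Q = Ψ R → Q = R := by
  obtain ⟨_, _, _, _, k⟩ := c.all P h.1
  obtain ⟨_, _, _, _, k'⟩ := c.all P' h'.1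
  have y0 := c.mem_of_neg h hw e
  have hZ : ∀ {Q}, Pn p D Q → P ≠ Q → y ∉ Zs V Q := fun hQ e1 e2 => hy (h.2 (c.b1 h hQ e1 e2 y0))
  obtain ⟨s, hs, es⟩ := k'.tr (c.mem_of_neg h' hw' e) (hZ h' hne) (h'.2 hd)
  have ng : ∀ r : Γ, (r * w * r⁻¹) • r • y = -(r • y) := fun r => by
    rw [mul_smul, inv_smul_smul, mul_smul, e, smul_neg]
  have n0 : ¬ Inv V P (s * w * s⁻¹) := fun e1 => by
    have := ng s
    rw [← c.uniq h h' hne hw e1 hw' (by simpa only [cj_eq_of_mem hs] using hw'.cj s), es, smul_add,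
      e, hw.z d (h.2 hd), neg_add, add_right_inj, eq_neg_iff_add_eq_zero] at this
    exact hd0 (AddSubgroup.mem_bot.1 (k.half (AddSubgroup.mem_bot.2 this)))
  have pn : ∀ {Q}, Pn p D Q → Pn p D (cj s Q) := fun hQ => hQ.cj fun d hd => h'.2 hd s hs
  have ne : ∀ {Q}, Inv V Q w → P ≠ cj s Q := fun hQ e1 => n0 (e1 ▸ hQ.cj s)
  have ex : ∀ Q, Pn p D Q → Inv V Q w → ∃ r ∈ P, Inv V P (r * w * r⁻¹) ∧
      Inv V (cj s Q) (r * w * r⁻¹) := fun Q hQ hQw => by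
    obtain ⟨w1, h1, h2⟩ := c.b2 h (pn hQ) (ne hQw)
    obtain ⟨r, hr, rfl⟩ := k.exists_inv_conj hw h1
    exact ⟨r, hr, h1, h2⟩
  choose! r r1 r2 r3 using ex
  refine ⟨fun Q => r Q • y - y, fun Q hQ hQw => ?_, fun Q R hQ hQw hR hRw e1 => ?_⟩
  · obtain ⟨_, _, _, _, k2⟩ := c.all _ (pn hQ).1
    have y1 : y ∈ Z2 V (cj s Q) := by
      simpa [es] using sub_mem (c.mem_of_neg (pn hQ) (hQw.cj s) (ng s)) (Zs_le ((pn hQ).2 hd))
    refine ⟨c.b1 (pn hQ) h (ne hQw).symm (y0 _ (r1 Q hQ hQw))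
      (sub_mem (c.mem_of_neg (pn hQ) (r3 Q hQ hQw) (ng _)) y1), fun e1 => n0 ?_⟩
    rw [sub_eq_iff_eq_add', ← es] at e1
    by_cases e2 : (r Q * w * (r Q)⁻¹)⁻¹ * (s * w * s⁻¹) = 1
    · exact inv_mul_eq_one.1 e2 ▸ r2 Q hQ hQw
    have := k2.fix (v := s • y) (k2.inv_mul_mem (r3 Q hQ hQw) (hQw.cj s)) e2
      (by rw [mul_smul, ng, inv_smul_eq_iff, ← e1, ng])
    exact (hZ (pn hQ) (ne hQw) (by simpa [es] using sub_mem this ((pn hQ).2 hd))).elim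
  · have e2 : r Q = r R := by_contra fun e2 => hy (k.fix (mul_mem (inv_mem (r1 Q hQ hQw))
      (r1 R hR hRw)) (fun e3 => e2 (inv_mul_eq_one.1 e3))
      (by rw [mul_smul, ← sub_left_inj.1 e1, inv_smul_smul]))
    exact cj_inj.1 (by_contra fun e3 => n0 (c.uniq (pn hQ) (pn hR) e3 (r3 Q hQ hQw) (hQw.cj s)
      (e2 ▸ r3 R hR hRw) (hRw.cj s) ▸ r2 Q hQ hQw))

theorem eq (h : Pn p D P) (h' : Pn p D P') : P = P' := by
  classical
  by_contra hne
  obtain ⟨X, Y, W, σ, k⟩ := c.all P h.1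
  obtain ⟨_, _, _, _, k'⟩ := c.all P' h'.1
  obtain ⟨w, hw, hw'⟩ := c.b2 h h' hne
  obtain ⟨v, hv, hv'⟩ := k.exists_Z2
  have e : w • (w • v - v) = -(w • v - v) := by
    rw [smul_sub, ← mul_smul, k.inv_sq hw, one_smul, neg_sub]
  have hy : w • v - v ∉ Zs V P := fun e1 => hv' (k.half (by simpa using sub_mem (hw.y v hv) e1))
  obtain ⟨d₀, hd₀⟩ := c.b3 h h' hne (hw.x v) (hw'.x v) hy
  have hD := c.card_D hd₀ h
  obtain ⟨d, hd, hd0⟩ := c.ne
  obtain ⟨Ψ, p1, p2⟩ := c.exists_psi h h' hne hw hw' e hy hd hd0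
  have ex : ∀ a : K, a ≠ 0 → ∃ g : Γ, Sc X Y g a ∧ g * w * g⁻¹ = w := fun a ha => by
    obtain ⟨g, hg⟩ := k.hh a ha
    obtain ⟨r, hr, e1⟩ := k.exists_inv_conj hw (by simpa only [k.norm_sc hg] using hw.cj g)
    exact ⟨r⁻¹ * g, by simpa using (k.sc_mem (inv_mem hr)).mul hg, by
      rw [mul_inv_rev, mul_assoc r⁻¹, mul_assoc r⁻¹, ← mul_assoc (g * w), e1]; group⟩
  choose! g g1 g2 using ex
  have pn : ∀ a ≠ 0, Pn p D (cj (g a) P') := fun a ha => h'.cj fun d hd =>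
    (g1 a ha).z d (k.mem_Zs.1 (h.2 hd)).1 (k.mem_Zs.1 (h.2 hd)).2
  have iv : ∀ a ≠ 0, Inv V (cj (g a) P') w := fun a ha => by simpa only [g2 a ha] using hw'.cj (g a)
  have := Fintype.ofFinite K
  have fD : (D : Set V).Finite := Nat.finite_of_card_ne_zero (hD ▸ hp.out.ne_zero)
  have cD : fD.toFinset.card = p := by rw [← Set.ncard_eq_toFinset_card _ fD, ← hD]; rfl
  have key := Finset.card_le_mul_card_image_of_maps_to (f := fun a => Ψ (cj (g a) P'))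
    (s := Finset.univ.erase (0 : K)) (t := (fD.toFinset.erase d).erase (Ψ P)) (fun a ha => by
      have ha := Finset.ne_of_mem_erase ha
      refine Finset.mem_erase.2 ⟨fun e1 => hne (cj_inj.1 ((k.norm_sc (g1 a ha)).trans
        (p2 _ _ (pn a ha) (iv a ha) h hw e1).symm)), Finset.mem_erase.2 ⟨(p1 _ (pn a ha) (iv a ha)).2,
        fD.mem_toFinset.2 (p1 _ (pn a ha) (iv a ha)).1⟩⟩) 4 fun b _ => by
      rcases Finset.eq_empty_or_nonempty {a ∈ Finset.univ.erase (0 : K) | Ψ (cj (g a) P') = b} with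
        e1 | ⟨a, ha⟩
      · simp only [e1, Finset.card_empty, Nat.zero_le]
      refine (Finset.card_le_card (t := Polynomial.nthRootsFinset 4 (a ^ 4)) fun a' ha' => ?_).trans
        ((Multiset.toFinset_card_le _).trans (Polynomial.card_nthRoots _ _))
      rw [Finset.mem_filter, Finset.mem_erase] at ha ha'
      have a0 := ha.1.1
      have := c.pow_four k h h' hne hw hw' hD (((g1 a a0).inv a0).mul (g1 a' ha'.1.1)) (by
        rw [cj_mul, p2 _ _ (pn a' ha'.1.1) (iv a' ha'.1.1) (pn a a0) (iv a a0) (ha'.2.trans ha.2.symm),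
          cj_inv_cj])
      rw [Polynomial.mem_nthRootsFinset (by norm_num)]
      field_simp at this
      exact this
  rw [Finset.card_erase_of_mem (Finset.mem_univ _), Finset.card_erase_of_mem (Finset.mem_erase.2
    ⟨(p1 P h hw).2, fD.mem_toFinset.2 (p1 P h hw).1⟩), Finset.card_erase_of_mem
    (fD.mem_toFinset.2 hd), cD, Finset.card_univ] at key
  obtain ⟨u, hu, hu'⟩ := c.exists_not_mem h h' hne
  obtain ⟨n, -, hn⟩ := FiniteField.card K p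
  have : Finite (Zs V P') := Nat.finite_of_card_ne_zero (k'.card_Zs ▸ Nat.card_pos.ne')
  have lt : p < p ^ (n : ℕ) := by
    rw [← hn, ← Nat.card_eq_fintype_card, ← k'.card_Zs]
    exact hD ▸ lt_of_not_ge fun e1 => hu' (AddSubgroup.eq_of_le_of_card_ge h'.2 e1 ▸ hu)
  have l2 : p ^ 2 ≤ p ^ (n : ℕ) := Nat.pow_le_pow_right hp.out.pos
    ((Nat.pow_lt_pow_iff_right hp.out.one_lt).1 ((pow_one p).symm ▸ lt))
  obtain ⟨m, rfl⟩ := Nat.exists_eq_add_of_le hp.out.two_le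
  rw [hn] at key
  have : 2 + m - 1 - 1 = m := by omega
  rw [this] at key
  have : (2 + m) ^ 2 = 4 + 4 * m + m ^ 2 := by ring
  omega

end Cx

end LA

open LA in
theorem lemA {K : Type*} [Field K] [Finite K] {p : ℕ} [Fact p.Prime] [CharP K p] (hp : p ≠ 2)
    {G : Subgroup (Perm (K × K × K))} (ha : Ad G) (hT : SylIn p (UT K) G)
    (hh : ∀ a : K, a ≠ 0 → ∃ h ∈ G, (∀ z, h (0, 0, z) = (0, 0, z)) ∧
      (∀ y, ∃ z, h (0, y, 0) = (0, a * y, z)) ∧ ∀ x, (h (x, 0, 0)).1 = a ^ 2 * x)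
    {d : K} (hd : d ≠ 0) (hR : ∀ g ∈ G, ∃ z, g (0, 0, d) = (0, 0, z)) :
    G ≤ normalizer (UT K : Set (Perm (K × K × K))) := by
  let _ : DistribMulAction G (K × K × K) :=
    { (inferInstance : MulAction G (K × K × K)) with
      smul_zero := fun g => show g.1 0 = 0 by simpa using ha g g.2 0 0
      smul_add := fun g => ha g g.2 }
  have k : Co p ((UT K).subgroupOf G) (AddMonoidHom.fst _ _)
      ((AddMonoidHom.fst _ _).comp (AddMonoidHom.snd K (K × K)))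
      ((AddMonoidHom.snd _ _).comp (AddMonoidHom.snd K (K × K))) fun t => ⟨u3 t, hT.le (u3_mem t)⟩ :=
    { syl := hT.subgroupOf_top
      mem := fun s => exists_congr fun t => ⟨fun e => Subtype.ext e, congrArg Subtype.val⟩
      ext := fun v h1 h2 h3 => Prod.ext h1 (Prod.ext h2 h3)
      surj := fun x y z => ⟨(x, y, z), rfl, rfl, rfl⟩
      aX := fun _ _ => rfl
      aY := fun _ _ => rfl
      aW := fun _ _ => rfl
      two := fun e => hp ((Nat.prime_dvd_prime_iff_eq Fact.out Nat.prime_two).1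
        ((CharP.cast_eq_zero_iff K p 2).1 e))
      hh := fun a a0 => by
        obtain ⟨h, hG, h1, h2, h3⟩ := hh a a0
        have e : ∀ x y z, h (x, y, z) = h (x, 0, 0) + (h (0, y, 0) + h (0, 0, z)) := fun x y z => by
          rw [← ha h hG, ← ha h hG]; simp
        have e0 : h (0, 0, 0) = 0 := h1 0
        refine ⟨⟨h, hG⟩, ?_, ?_, ?_⟩ <;> rintro ⟨x, y, z⟩
        · rintro (rfl : x = 0) (rfl : y = 0)
          exact h1 z
        · rintro (rfl : x = 0)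
          obtain ⟨z', h4⟩ := h2 y
          show (h (0, y, z)).2.1 = a * y
          simp [e 0 y z, e0, h1, h4]
        · obtain ⟨z', h4⟩ := h2 y
          show (h (x, y, z)).1 = a ^ 2 * x
          simp [e x y z, h1, h3, h4] }
  have cn : ∀ P : Subgroup G, SylIn p P ⊤ → ∃ g, P = cj g ((UT K).subgroupOf G) := fun P hP => by
    obtain ⟨g, -, e⟩ := hP.exists_conj le_top k.syl.pgroup
    exact ⟨g, ((k.cj g).syl.max P (cj_le_iff.2 e) le_top hP.pgroup)⟩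
  intro g hg
  by_contra hn
  obtain ⟨⟨⟨P, P'⟩, h1, h2, h3⟩, hm⟩ := @Finite.exists_max
    {x : Subgroup G × Subgroup G // SylIn p x.1 ⊤ ∧ SylIn p x.2 ⊤ ∧ x.1 ≠ x.2} _ _
    ⟨⟨(_, _), (k.cj ⟨g, hg⟩).syl, k.syl, fun e => hn (mem_normalizer_fintype fun s hs =>
      e.le (conj_mem_cj.2 (show (⟨s, hT.le hs⟩ : G) ∈ (UT K).subgroupOf G from hs)))⟩⟩ _
    fun x => Nat.card (Zs (K × K × K) x.1.1 ⊓ Zs (K × K × K) x.1.2 : AddSubgroup _)
  have h0 : ∀ P : Subgroup G, SylIn p P ⊤ → ((0, 0, d) : K × K × K) ∈ Zs _ P := fun P hP => by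
    obtain ⟨g, rfl⟩ := cn P hP
    obtain ⟨z, e⟩ := hR _ (g⁻¹).2
    rw [← smul_inv_smul g ((0, 0, d) : K × K × K), Zs_cj, k.mem_Zs]
    exact ⟨congrArg (·.1) e, congrArg (·.2.1) e⟩
  have c : Cx p K G (Zs (K × K × K) P ⊓ Zs (K × K × K) P') :=
    ⟨fun Q hQ => by obtain ⟨g, rfl⟩ := cn Q hQ; exact ⟨_, _, _, _, k.cj g⟩,
      ⟨_, ⟨h0 P h1, h0 P' h2⟩, by simp [hd]⟩, fun Q Q' q1 q2 q3 q4 q5 v v1 v2 =>
      (AddSubgroup.eq_of_le_of_card_ge (le_inf q3 q4) (hm ⟨(Q, Q'), q1, q2, q5⟩)).ge ⟨v1, v2⟩⟩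
  exact h3 (c.eq ⟨h1, inf_le_left⟩ ⟨h2, inf_le_right⟩)

end Cfsg.Lib.Sp4F
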