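import Cfsg.Agent.Sp4F.OddA
import Cfsg.Agent.Sp4F.LemA
import Cfsg.Agent.Sp4F.LemB

/-! Fusion systems over a Sylow subgroup of `Sp₄(q)`, `q` odd: a nontrivial normal subgroup forces
the system to be constrained. -/

set_option autoImplicit false

namespace Cfsg.Lib.Sp4F

open Cfsg Cfsg.FusionSystem Subgroup Equiv Cfsg.Lib.Fus

universe u
variable {K : Type u} [Field K] [Finite K] {p : ℕ} [Fact p.Prime]

namespace Odd

open Cfsg.Lib.Fus.Ess OddA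

theorem exists_rho {E V : Type*} [Group E] [AddGroup V] {A : Subgroup (MulAut E)} {π : E → V}
    (hπ : ∀ a b, π (a * b) = π a + π b) (hs : Function.Surjective π)
    (hA : ∀ a ∈ A, ∀ e, π e = 0 → π (a e) = 0) :
    ∃ ρ : A →* Perm V, (∀ g u v, ρ g (u + v) = ρ g u + ρ g v) ∧
      ∀ (g : A) e, ρ g (π e) = π (g.1 e) := by
  have wd : ∀ a ∈ A, ∀ e e', π e = π e' → π (a e) = π (a e') := fun a ha e e' h => by
    have h0 := hπ e (e⁻¹ * e')
    rw [mul_inv_cancel_left, h, left_eq_add] at h0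
    have := hπ (a e) (a (e⁻¹ * e'))
    rw [← map_mul, mul_inv_cancel_left, hA a ha _ h0, add_zero] at this
    exact this.symm
  let σ : A → V → V := fun a v => π (a.1 (Function.surjInv hs v))
  have hσ : ∀ a e, σ a (π e) = π (a.1 e) := fun a e => wd a a.2 _ _ (Function.surjInv_eq hs _)
  let _ : MulAction A V :=
    { smul := σ
      one_smul := fun v => by
        obtain ⟨e, rfl⟩ := hs v
        exact hσ 1 e
      mul_smul := fun a b v => by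
        obtain ⟨e, rfl⟩ := hs v
        show σ (a * b) (π e) = σ a (σ b (π e))
        rw [hσ b, hσ, hσ]
        rfl }
  refine ⟨MulAction.toPermHom A V, fun g u v => ?_, hσ⟩
  obtain ⟨e, rfl⟩ := hs u
  obtain ⟨e', rfl⟩ := hs v
  show σ g _ = σ g _ + σ g _
  rw [← hπ, hσ, hσ, hσ, map_mul, hπ]

variable {Ω : Type*} [Group Ω] {S : Subgroup Ω} [Finite S] {P : Par K S} {F : FusionSystem S}
  {c d : K} {f g : Perm Ω}

omit [Finite K] [Finite S] in
theorem exists_pr (P : Par K S) (c : K) :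
    ∃ π : Ω → K × K, ∀ t x y z, π (P.el t x y z) = (t, y - c * t ^ 2 / 2) := by
  have hi : Function.Injective fun v : K × K × K × K => P.el v.1 v.2.1 v.2.2.1 v.2.2.2 :=
    fun _ _ h => by
      obtain ⟨h1, h2, h3, h4⟩ := P.el_inj.1 h
      exact Prod.ext h1 (Prod.ext h2 (Prod.ext h3 h4))
  obtain ⟨k, hk⟩ := hi.hasLeftInverse
  exact ⟨fun g => ((k g).1, (k g).2.2.1 - c * (k g).1 ^ 2 / 2), fun t x y z => by
    simp only [hk (t, x, y, z)]⟩

variable (hS : IsPGroup p S) (hF : F.IsSaturated p) (h2 : (2 : K) ≠ 0)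
include hS hF h2

/-- What the automiser of an essential subgroup `Q c` provides. -/
theorem qData [CharP K p] (hE : F.IsEssential p (Q P c)) :
    (∀ R, F.StronglyClosed R → R ≤ Y P → R ≤ Z P) ∧ ∀ a : K, a ≠ 0 → ∃ f, PIso F f S S ∧
      (∀ z, f (P.el 0 0 0 z) = P.el 0 0 0 z) ∧ ∀ t y z, ∃ y' z',
        f (P.el t (c * t) y z) = P.el (a⁻¹ * t) (c * (a⁻¹ * t)) y' z' ∧ (t = 0 → y' = a * y) := by
  have := finite_of_le hE.1.1
  have := finite_autGroup F hE.1.1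
  have hZ := aInv_Z (P := P) hE h2 fun h => h2 (by
    linear_combination ((el_comm P).1 (h (P.el 1 c 0 0) (el_Q.2 (mul_one c).symm) (P.el 0 0 1 0)
      (el_Q.2 (mul_zero c).symm))).2)
  have hY := not_aInv_Y hS hF hE hZ
  obtain ⟨π, hπ⟩ := exists_pr P c
  have hk : ∀ e : Q P c, π e = 0 ↔ e ∈ (Z P).subgroupOf (Q P c) := by
    rintro ⟨_, t, y, z, rfl⟩
    rw [mem_subgroupOf, el_Z, hπ, Prod.mk_eq_zero]
    exact ⟨fun h => by simpa [h.1] using h.2, fun h => by simp [h.1, h.2.2]⟩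
  have hk2 : ∀ e : Q P c, (π e).1 = 0 ↔ e ∈ (Y P).subgroupOf (Q P c) := by
    rintro ⟨_, t, y, z, rfl⟩
    rw [mem_subgroupOf, el_Y, hπ]
    exact ⟨fun h => ⟨h, by rw [show t = 0 from h, mul_zero]⟩, fun h => h.1⟩
  have hsj : ∀ x y, (x, y) = π (⟨P.el x (c * x) (y + c * x ^ 2 / 2) 0, _, _, _, rfl⟩ : Q P c) :=
    fun x y => by rw [hπ, add_sub_cancel_right]
  obtain ⟨ρ, hadd, hρ⟩ := exists_rho (A := F.autGroup (Q P c)) (π := fun e : Q P c => π e) (by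
    rintro ⟨_, t, y, z, rfl⟩ ⟨_, t', y', z', rfl⟩
    rw [Subgroup.coe_mul, P.el_mul, hπ, hπ, hπ, Prod.mk_add_mk, Prod.mk.injEq]
    exact ⟨rfl, by field_simp; ring⟩) (fun v => ⟨_, (hsj v.1 v.2).symm⟩)
    fun a ha e he => (hk _).2 (hZ a ha e ((hk e).1 he))
  have hN : S ≤ normalizer (Q P c : Set Ω) := fun s hs =>
    mem_norm Q_le fun e he => Y_le_Q (cm_Y hs (Q_le he))
  have hT := sat_sylIn hS hF hE.2.1
  have hact : ∀ s a b d x y, ρ ⟨_, hT.le (conjAut_mem_autInducedBy (P.el_mem s a b d)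
      (hN (P.el_mem ..)))⟩ (x, y) = (x, y + (s * c - a) * x) := fun s a b d x y => by
    rw [hsj x y, hρ]
    show π (P.el s a b d * _ * (P.el s a b d)⁻¹) = _
    rw [el_conj, hπ, Prod.mk.injEq]
    exact ⟨rfl, by ring⟩
  obtain ⟨T, hT'⟩ := hT.exists_sylow
  obtain ⟨α, φ, -, hb, -, hd⟩ := lemB (p := p) ρ hadd (hT' ▸ sylIn_top T) (by
    rintro ⟨_, _⟩ hs
    obtain ⟨s, hs, -, rfl⟩ := mem_autInducedBy'.1 hs
    obtain ⟨s, a, b, d, rfl⟩ := P.mem_iff.1 hs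
    exact ⟨_, hact s a b d⟩)
    (fun t => ⟨_, conjAut_mem_autInducedBy (P.el_mem 0 (-t) 0 0) (hN (P.el_mem ..)), fun x y => by
      rw [hact, zero_mul, zero_sub, neg_neg]⟩) (by
    by_contra h
    push Not at h
    refine hY fun a ha x hx => (hk2 _).1 ?_
    rw [← hρ ⟨a, ha⟩, show π x = (0, (π x).2) from Prod.ext ((hk2 x).2 hx) rfl, h])
  refine ⟨fun R hR hRY r hr => ?_, fun a ha => ?_⟩
  · obtain ⟨s, -, hs⟩ := hb 1
    obtain ⟨y, z, rfl⟩ := mem_Y.1 (hRY hr)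
    have h3 := (hk2 _).2 (hRY (aInv_of_stronglyClosed hE.1.1 hR _ (α * s * α⁻¹).2
      ⟨_, Y_le_Q (hRY hr)⟩ hr))
    rw [← hρ, hπ, show y - c * 0 ^ 2 / 2 = y + φ 0 by simp, hs] at h3
    exact el_Z.2 ⟨rfl, rfl, by simpa using h3⟩
  obtain ⟨h, hh, e⟩ := hd a ha
  have hc : ∀ s ∈ autInducedBy S (Q P c), s ∈ chainSub (comap_mono Z_le_Y :
      (Z P).subgroupOf (Q P c) ≤ (Y P).subgroupOf (Q P c)) := fun s hs => by
    obtain ⟨u, hu, hu', rfl⟩ := mem_autInducedBy'.1 hs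
    exact ⟨triv_conjAut_top_iff.2 fun e he => cm_Y hu (Q_le he),
      triv_conjAut_iff.2 fun e _ he => cm_Z hu he, triv_Z hu hu'⟩
  have hU := hT.max _ (le_inf hc hT.le) inf_le_right
    ((isPGroup_chainSub (hS.to_le hE.1.1) _).to_le inf_le_left)
  have hfix := (subHom_eq_one_iff hZ h).1 (normalClosure_le_normal (N := (subHom hZ).ker)
    (fun s hs => (subHom_eq_one_iff hZ s).2 (hc _ hs).2.2) hh)
  have hfst : ∀ x : Q P c, π (h.1 x) =
      (a⁻¹ * (π x).1, a * ((π x).2 - φ (π x).1) + φ (a⁻¹ * (π x).1)) := fun x => by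
    rw [← e, sub_add_cancel, hρ]
  have hYi : ∀ x : Q P c, h.1 x ∈ (Y P).subgroupOf (Q P c) ↔ x ∈ (Y P).subgroupOf (Q P c) :=
    fun x => by rw [← hk2, ← hk2, hfst, mul_eq_zero, or_iff_right (inv_ne_zero ha)]
  have hY1 : ∀ x ∈ (Y P).subgroupOf (Q P c), h.1⁻¹ x ∈ (Y P).subgroupOf (Q P c) :=
    fun x hx => (hYi _).1 (by rwa [MulAut.apply_inv_self])
  obtain ⟨f, hf, ef⟩ := exists_ext_aut (sat_receptive hS hF hE.2.1) h.2 (U := S)
    (fun s hs => ⟨hs, hN hs⟩) fun s hs => by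
      have h3 := conjAut_mem_autInducedBy hs (hN hs)
      obtain ⟨t1, t2, t3⟩ := hc _ h3
      rw [← hU]
      exact ⟨⟨t1.conj (fun _ _ => trivial) fun y => (hYi y).2, t2.conj hY1 (hZ _ h.2),
        t3.conj (hZ _ h⁻¹.2) (aInv_bot _ h.2)⟩, (h * ⟨_, hT.le h3⟩ * h⁻¹).2⟩
  refine ⟨f, hf.piso_top, fun z => ?_, fun t y z => ?_⟩
  · have h3 : P.el 0 0 0 z ∈ Q P c := el_Q.2 (mul_zero c).symm
    rw [ef _ h3, pext_of_mem _ h3, triv_bot_iff.1 hfix _ (el_Z.2 ⟨rfl, rfl, rfl⟩)]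
  · have h3 : P.el t (c * t) y z ∈ Q P c := ⟨_, _, _, rfl⟩
    have h4 := hfst ⟨_, h3⟩
    obtain ⟨t', y', z', e'⟩ := (h.1 ⟨_, h3⟩).2
    rw [e', hπ, hπ, Prod.mk.injEq] at h4
    obtain ⟨rfl, h4⟩ := h4
    refine ⟨y', z', by rw [ef _ h3, pext_of_mem _ h3, e'], ?_⟩
    rintro rfl
    simpa using h4

omit [Finite K] [Finite S] hS hF in
theorem map_n {a : K} (ha : a ≠ 0) (hf : PIso F f S S) (h : ∀ t y z, ∃ y' z',
    f (P.el t (c * t) y z) = P.el (a⁻¹ * t) (c * (a⁻¹ * t)) y' z' ∧ (t = 0 → y' = a * y))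
    (x y z : K) : ∃ y' z', f (P.el 0 x y z) = P.el 0 (a ^ 2 * x) y' z' := by
  obtain ⟨x', y', z', e⟩ := mem_A.1 (map_A h2 hf (P.el_mem_A.2 rfl : P.el 0 x y z ∈ _))
  have h3 := map_cm hf (P.el_mem 0 x y z) (P.el_mem 1 (c * 1) 0 0)
  obtain ⟨y1, z1, e1, -⟩ := h 1 0 0
  rw [e, e1, el_cm, el_cm] at h3
  obtain ⟨y2, z2, e2, h4⟩ := h 0 (0 * (c * 1) - 1 * x)
    (2 * 0 * 0 + 0 ^ 2 * (c * 1) - 2 * 1 * y + 1 ^ 2 * x - 2 * 1 * 0 * (c * 1))
  rw [mul_zero c, h3, h4 rfl] at e2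
  refine ⟨y', z', e.trans (P.el_inj.2 ⟨rfl, ?_, rfl, rfl⟩)⟩
  have := (P.el_inj.1 e2).2.2.1
  field_simp at this
  linear_combination -this

/-- An automorphism of `S` inverting `S / A` and centralising `A / Y`. -/
structure Rf (P : Par K S) (F : FusionSystem S) (f : Perm Ω) : Prop where
  iso : PIso F f S S
  fix : ∀ n ∈ P.A, n⁻¹ * f n ∈ Y P
  inv : ∀ s ∈ S, s * f s ∈ P.A

omit [Finite K] in
theorem triv_of_unip (hf : PIso F f S S) (h3 : ∀ s ∈ S, s⁻¹ * f s ∈ P.A)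
    (h4 : ∀ n ∈ P.A, n⁻¹ * f n ∈ Y P) {s : Ω} (hs : s ∈ S) : s⁻¹ * f s ∈ Y P := by
  have := finite_autGroup F (le_refl S)
  have hm := (sat_aut_top hS hF).not_dvd_relIndex
  obtain ⟨g, hg, e⟩ := mem_inn_pext.1 (mem_subgroupOf.1
    (pow_index_mem ((Inn S).subgroupOf (F.autGroup S)) ⟨hf.aut, hf.aut_mem⟩))
  obtain ⟨z, hz, e'⟩ := Triv.exists_pow_apply (β := hf.aut) (X := ⊤) (Y := P.A.subgroupOf S)
    (Z := (Y P).subgroupOf S) (fun x _ => h3 x x.2) (fun x hx => h4 x hx)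
    (fun x hx => map_Y h2 hf hx) (mem_top ⟨s, hs⟩) ((Inn S).relIndex (F.autGroup S))
  have h5 := (e s hs).symm.trans ((pext_of_mem _ hs).trans (congrArg Subtype.val e'))
  have h6 : (s⁻¹ * f s) ^ (Inn S).relIndex (F.autGroup S) ∈ Y P := by
    have := (Y P).mul_mem (cm_Y hg hs) ((Y P).inv_mem hz)
    rw [h5] at this
    simpa [mul_assoc] using this
  obtain ⟨k, hk⟩ := hS ⟨_, S.mul_mem (S.inv_mem hs) (hf.maps hs)⟩
  refine zpowers_le_of_mem h6 (mem_zpowers_pow_iff.2 ?_)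
  exact Nat.Coprime.coprime_dvd_right (orderOf_dvd_of_pow_eq_one (congrArg Subtype.val hk))
    (((Nat.Prime.coprime_iff_not_dvd Fact.out).2 hm).symm.pow_right k)

omit [Finite K] in
theorem Rf.mem (hf : Rf P F f) (hg : Rf P F g) {s : Ω} (hs : s ∈ S) (h : s * g s ∈ Y P) :
    s * f s ∈ Y P := by
  have hA : ∀ s ∈ S, ∀ x, s * x ∈ P.A → x * s ∈ P.A := fun s hs x h => by
    simpa [mul_assoc] using (mem_normalizer_iff.1 (P.le_normalizer_A (S.inv_mem hs)) _).1 h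
  have h3 := triv_of_unip (P := P) hS hF h2 (hg.iso.trans hf.iso) (fun s hs => by
    have := P.A.mul_mem (P.A.inv_mem (hA s hs _ (hg.inv s hs))) (hf.inv _ (hg.iso.maps hs))
    simpa [mul_assoc] using this) (fun n hn => by
    have := (Y P).mul_mem (hg.fix n hn) (hf.fix _ (map_A h2 hg.iso hn))
    simpa [mul_assoc] using this) hs
  have h4 := map_Y h2 hf.iso h
  rw [hf.iso.map_mul hs (hg.iso.maps hs)] at h4
  have h5 := (Y P).mul_mem h4 ((Y P).inv_mem h3)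
  have h6 := (Y P).mul_mem h5 (cm_Y hs (S.mul_mem (hf.iso.maps hs) hs))
  simpa [mul_assoc] using h6

omit [Finite K] [Finite S] hS hF in
theorem Rf.conj (hf : Rf P F f) (hg : PIso F g S S) : Rf P F (g * f * g⁻¹) := by
  refine ⟨hg.symm.trans (hf.iso.trans hg), fun n hn => ?_, fun s hs => ?_⟩
  · have h3 := P.A_le (map_A h2 hg.symm hn)
    have := map_Y h2 hg (hf.fix _ (map_A h2 hg.symm hn))
    rwa [hg.map_mul (S.inv_mem h3) (hf.iso.maps h3), hg.mor.map_inv h3, perm_apply_inv] at this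
  · have := map_A h2 hg (hf.inv _ (hg.inv_maps hs))
    rwa [hg.map_mul (hg.inv_maps hs) (hf.iso.maps (hg.inv_maps hs)), perm_apply_inv] at this

theorem exists_rf [CharP K p] (hE : F.IsEssential p (Q P c)) :
    ∃ f, Rf P F f ∧ ∀ s ∈ S, s * f s ∈ Y P ↔ s ∈ Q P c := by
  obtain ⟨f, hf, -, h⟩ := (qData hS hF h2 hE).2 (-1) (neg_ne_zero.2 one_ne_zero)
  have key : ∀ t x y z, ∃ y' z', f (P.el t x y z) = P.el (-t) (x - 2 * c * t) y' z' :=
    fun t x y z => by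
      obtain ⟨y1, z1, e1, -⟩ := h t 0 0
      obtain ⟨y2, z2, e2⟩ := map_n h2 (neg_ne_zero.2 one_ne_zero) hf h (x - c * t) y z
      have : P.el t x y z = P.el 0 (x - c * t) y z * P.el t (c * t) 0 0 := by
        rw [P.el_mul, P.el_inj]
        exact ⟨by ring, by ring, by ring, by ring⟩
      rw [this, hf.map_mul (P.el_mem ..) (P.el_mem ..), e1, e2, P.el_mul, inv_neg_one]
      exact ⟨_, _, P.el_inj.2 ⟨by ring, by ring, rfl, rfl⟩⟩
  refine ⟨f, ⟨hf, fun n hn => ?_, fun s hs => ?_⟩, fun s hs => ?_⟩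
  · obtain ⟨x, y, z, rfl⟩ := mem_A.1 hn
    obtain ⟨y', z', e⟩ := key 0 x y z
    rw [e, P.el_inv, P.el_mul, el_Y]
    exact ⟨by ring, by ring⟩
  all_goals
    obtain ⟨t, x, y, z, rfl⟩ := P.mem_iff.1 hs
    obtain ⟨y', z', e⟩ := key t x y z
    rw [e, P.el_mul]
  · exact P.el_mem_A.2 (add_neg_cancel t)
  · rw [el_Y, el_Q]
    exact ⟨fun h => mul_left_cancel₀ h2 (by linear_combination h.2), fun h =>
      ⟨add_neg_cancel t, by linear_combination 2 * h⟩⟩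

theorem q_unique [CharP K p] (hE : F.IsEssential p (Q P c)) (hD : F.IsEssential p (Q P d)) :
    c = d := by
  obtain ⟨f, hf, e⟩ := exists_rf hS hF h2 hE
  obtain ⟨g, hg, e'⟩ := exists_rf hS hF h2 hD
  have := P.el_mem 1 c 0 0
  simpa using el_Q.1 ((e' _ this).1 (hg.mem hS hF h2 hf this
    ((e _ this).2 (el_Q.2 (mul_one c).symm))))

theorem map_Q [CharP K p] (hE : F.IsEssential p (Q P c)) (hg : PIso F g S S) {s : Ω}
    (hs : s ∈ Q P c) : g s ∈ Q P c := by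
  obtain ⟨f, hf, e⟩ := exists_rf hS hF h2 hE
  have h3 := Q_le hs
  refine (e _ (hg.maps h3)).1 (hf.mem hS hF h2 (hf.conj h2 hg) (hg.maps h3) ?_)
  have := map_Y h2 hg ((e s h3).2 hs)
  rw [hg.map_mul h3 (hf.iso.maps h3)] at this
  simpa using this

theorem not_both [CharP K p] (hp : p ≠ 2) {R : Subgroup Ω} (hR : F.StronglyClosed R) (h1 : R ≠ ⊥)
    (hRA : R ≤ P.A) (hRQ : R ≤ Q P c) (hA : F.IsEssential p P.A) :
    ¬ F.IsEssential p (Q P c) := fun hE => by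
  obtain ⟨h3, h4⟩ := qData hS hF h2 hE
  have hRZ := h3 R hR fun r hr => by
    obtain ⟨x, y, z, rfl⟩ := mem_A.1 (hRA hr)
    exact el_Y.2 ⟨rfl, (el_Q.1 (hRQ hr)).trans (mul_zero c)⟩
  obtain ⟨r, hr, hr1⟩ := (R.bot_or_exists_ne_one).resolve_left h1
  obtain ⟨d, rfl⟩ := hRZ hr
  have nv : ∀ x y z, P.el 0 x y z = P.nv (x, y, z) := fun x y z => (P.n_eq x y z).symm
  refine P.not_le_normalizer hS hA (lemA hp (P.ad_aut F) (P.sylIn_aut hS hF) (fun a ha => ?_)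
    (d := d) (fun h => hr1 (h ▸ P.el_zero)) ?_)
  · obtain ⟨f, hf, e1, e2⟩ := h4 a ha
    obtain ⟨φ, hφ, e⟩ := P.exists_aut ((hf.mor.restrict P.A_le).piso_of_maps
      fun _ => map_A h2 hf)
    refine ⟨φ, hφ, fun z => P.nv_inj (by rw [← e, ← nv, e1]), fun y => ?_, fun x => ?_⟩
    · obtain ⟨y', z', e3, e4⟩ := e2 0 y 0
      simp only [mul_zero, nv, e, e4 rfl] at e3
      exact ⟨z', P.nv_inj e3⟩
    · obtain ⟨y', z', e3⟩ := map_n h2 ha hf e2 x 0 0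
      rw [nv, nv, e] at e3
      rw [P.nv_inj e3]
  · rintro φ ⟨f, hf, e⟩
    obtain ⟨z, e'⟩ := hRZ (hf.mor.mem_of_stronglyClosed hR (hRA hr) hr)
    rw [nv, nv, e] at e'
    exact ⟨z, P.nv_inj e'⟩

end Odd

open Sp4F.Odd OddA Cfsg.Lib.Fus.Ess in
theorem constrained_odd [CharP K p] (hp : p ≠ 2) {Ω : Type*} [Group Ω] {S : Subgroup Ω} [Finite S]
    (P : Par K S) {F : FusionSystem S} (hS : IsPGroup p S) (hF : F.IsSaturated p)
    (h : F.core ≠ ⊥) : F.IsConstrained p := by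
  have h2 : (2 : K) ≠ 0 := fun e => hp ((Nat.prime_dvd_prime_iff_eq Fact.out Nat.prime_two).1
    ((CharP.cast_eq_zero_iff K p 2).1 e))
  by_cases hex : ∃ E, F.IsEssential p E
  swap
  · push Not at hex
    exact ⟨hF, S, isNormal_top_of_no_essential hS hF hex, isCentric_top F⟩
  obtain ⟨E, hE⟩ := hex
  have hn := isNormal_core F
  have hsc := stronglyClosed_of_isNormal hn
  have hle : ∀ D, F.IsEssential p D → F.core ≤ D := fun D hD =>
    IsNormal.le_of_radical hS hn (isCentric_self hD.1) (isRadical_of_isEssential hS hD)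
  have hc : ∀ D, F.IsEssential p D → D = P.A ∨ ∃ c, D = Q P c := fun D hD =>
    (em _).imp (eq_A hS hF hD h2 hsc h (hle D hD)) (eq_Q hS hF hD h2)
  refine ⟨hF, E, isNormal_of_essential hS hF ?_, hE.1⟩
  rintro D (rfl | hD)
  · refine ⟨hE.1.1, fun f hf y hy => ?_⟩
    obtain rfl | ⟨c, rfl⟩ := hc E hE
    · exact map_A h2 hf hy
    · exact map_Q hS hF h2 hE hf hy
  · obtain rfl : D = E := by
      obtain rfl | ⟨c, rfl⟩ := hc E hE <;> obtain rfl | ⟨d, rfl⟩ := hc D hD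
      · rfl
      · exact (not_both hS hF h2 hp hsc h (hle _ hE) (hle _ hD) hE hD).elim
      · exact (not_both hS hF h2 hp hsc h (hle _ hD) (hle _ hE) hD hE).elim
      · rw [q_unique hS hF h2 hE hD]
    exact ⟨le_rfl, fun f hf y hy => hf.maps hy⟩

end Cfsg.Lib.Sp4F
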