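import Cfsg.Agent.Sp4F.LemB

/-! Additive groups of permutations of `K³` in characteristic two with Sylow subgroup `UT K`. -/

set_option autoImplicit false
set_option linter.unusedSectionVars false

namespace Cfsg.Lib.Sp4F

open Cfsg Cfsg.FusionSystem Subgroup Equiv Cfsg.Lib.Fus

universe u

variable {K : Type u} [Field K] [Finite K] [CharP K 2] {G : Subgroup (Perm (K × K × K))}

namespace Lin2

variable {g : Perm (K × K × K)} {t : K} {v : K × K × K}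

theorem two : (2 : K) = 0 := CharTwo.two_eq_zero

theorem u3c (t x y z : K) : u3 t (x, y, z) = (x, y + t * x, z + t ^ 2 * x) := by
  rw [u3_apply, two, zero_mul, zero_mul, add_zero]

theorem u3v (t : K) (v : K × K × K) : u3 t v = v + (0, t * v.1, t ^ 2 * v.1) := by
  obtain ⟨x, y, z⟩ := v
  simp [u3c]

theorem u3_fix (t : K) (h : v.1 = 0) : u3 t v = v := by simp [u3v, h]

theorem add_self (v : K × K × K) : v + v = 0 := by
  ext <;> exact CharTwo.add_self_eq_zero _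

theorem map0 (ha : Ad G) (hg : g ∈ G) : g 0 = 0 := by simpa using ha g hg 0 0

theorem split (ha : Ad G) (hg : g ∈ G) (y z : K) : g (0, y, z) = g (0, y, 0) + g (0, 0, z) := by
  rw [← ha g hg]; simp

/-- The elements fixing `D` pointwise and moving `v` inside `v + D`. -/
def St (ha : Ad G) (D : AddSubgroup (K × K × K)) (P : K × K × K → Prop) :
    Subgroup (Perm (K × K × K)) where
  carrier := {h | h ∈ G ∧ (∀ d ∈ D, h d = d) ∧ ∀ v, P v → ∃ d ∈ D, h v = v + d}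
  one_mem' := ⟨one_mem _, fun _ _ => rfl, fun v _ => ⟨0, zero_mem _, by simp⟩⟩
  mul_mem' := fun {a b} h1 h2 => ⟨mul_mem h1.1 h2.1, fun d hd => by
    rw [Perm.mul_apply, h2.2.1 d hd, h1.2.1 d hd], fun v hv => by
    obtain ⟨d, hd, e⟩ := h1.2.2 v hv
    obtain ⟨d', hd', e'⟩ := h2.2.2 v hv
    exact ⟨d + d', add_mem hd hd', by rw [Perm.mul_apply, e', ha a h1.1, e, h1.2.1 d' hd', add_assoc]⟩⟩
  inv_mem' := fun {a} h => ⟨inv_mem h.1, fun d hd => Perm.inv_eq_iff_eq.2 (h.2.1 d hd).symm,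
    fun v hv => by
      obtain ⟨d, hd, e⟩ := h.2.2 v hv
      exact ⟨d, hd, Perm.inv_eq_iff_eq.2 (by
        rw [ha a h.1, e, h.2.1 d hd, add_assoc, add_self, add_zero])⟩⟩

/-- The points of the plane `x = 0` mapped into it by `g`. -/
def DD (ha : Ad G) (hg : g ∈ G) : AddSubgroup (K × K × K) where
  carrier := {v | v.1 = 0 ∧ (g v).1 = 0}
  zero_mem' := ⟨rfl, by rw [map0 ha hg]; rfl⟩
  add_mem' := fun {a b} h1 h2 => ⟨by simp [h1.1, h2.1], by simp [ha g hg, h1.2, h2.2]⟩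
  neg_mem' := fun {a} h => by rwa [neg_eq_of_add_eq_zero_right (add_self a)]

theorem u3_sq (t : K) : u3 t * u3 t = 1 := by rw [← u3_add, CharTwo.add_self_eq_zero, u3_zero]

theorem key (ha : Ad G) (hT : SylIn 2 (UT K) G) (hg : g ∈ G) (h1 : v.1 = 0) (h2 : (g v).1 ≠ 0)
    (ht : t ≠ 0) : (g⁻¹ (0, t * (g v).1, t ^ 2 * (g v).1)).1 ≠ 0 := fun h3 => by
  have a1 : UT K ≤ St ha (DD ha hg) (· = v) := by
    rintro _ ⟨s, rfl⟩
    exact ⟨hT.le (u3_mem s), fun d hd => u3_fix s hd.1, by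
      rintro _ rfl
      exact ⟨0, zero_mem _, by rw [u3_fix s h1, add_zero]⟩⟩
  have a2 : g⁻¹ * u3 t * g ∈ St ha (DD ha hg) (· = v) :=
    ⟨mul_mem (mul_mem (inv_mem hg) (hT.le (u3_mem t))) hg, fun d hd => by
      simp [u3_fix t hd.2], by
      rintro _ rfl
      exact ⟨_, ⟨h3, by simp⟩, by
        rw [Perm.mul_apply, Perm.mul_apply, u3v, ha _ (inv_mem hg), perm_inv_apply]⟩⟩
  obtain ⟨a, a3, a4⟩ := (hT.mono a1 fun _ h => h.1).exists_conj (zpowers_le.2 a2)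
    (Solv.PG.isPGroup_zpowers (k := 1) (by
      rw [pow_one, pow_two]
      calc _ = g⁻¹ * (u3 t * u3 t) * g := by group
        _ = 1 := by rw [u3_sq]; group))
  obtain ⟨s, hs⟩ := a4 _ (mem_zpowers _)
  obtain ⟨d, hd, e⟩ := (inv_mem a3).2.2 v rfl
  have a5 : u3 t (g (a⁻¹ v)) = g (a⁻¹ v) := by
    have : (a * (g⁻¹ * u3 t * g) * a⁻¹) v = v := hs ▸ u3_fix s h1
    rwa [Perm.mul_apply, Perm.mul_apply, ← Perm.eq_inv_iff_eq, Perm.mul_apply, Perm.mul_apply,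
      Perm.inv_eq_iff_eq] at this
  rw [u3v, add_eq_left, e, ha g hg, Prod.fst_add, hd.2, add_zero] at a5
  exact mul_ne_zero ht h2 (congrArg (·.2.1) a5)

theorem inv_pres (ha : Ad G) (hT : SylIn 2 (UT K) G) (hg : g ∈ G) (h : ∀ y z, (g (0, y, z)).1 = 0)
    (h1 : v.1 = 0) : (g⁻¹ v).1 = 0 := by
  by_contra h2
  exact key ha hT (inv_mem hg) h1 h2 one_ne_zero (h _ _)

theorem surj {f : K → K} (h : ∀ a b, f (a + b) = f a + f b) (h0 : ∀ a, a ≠ 0 → f a ≠ 0) :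
    Function.Surjective f :=
  Finite.surjective_of_injective ((injective_iff_map_eq_zero (AddMonoidHom.mk' f h)).2
    fun a ha => not_not.1 fun e => h0 a e ha)

theorem nz (ha : Ad G) (hT : SylIn 2 (UT K) G) (hg : g ∈ G) (h1 : v.1 = 0) (h2 : (g v).1 ≠ 0)
    {y z : K} (hy : y ≠ 0) (hz : z ≠ 0) : (g (0, y, z)).1 ≠ 0 := by
  obtain ⟨t, ht⟩ := surj (f := fun t => (g⁻¹ (0, t * (g v).1, t ^ 2 * (g v).1)).1) (fun a b => by
    rw [← Prod.fst_add, ← ha _ (inv_mem hg), CharTwo.add_sq, add_mul, add_mul]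
    simp) (fun a => key ha hT hg h1 h2) (y ^ 2 / z)
  simp only at ht
  have := key (t := z / y) ha hT (inv_mem hg) (v := (0, t * (g v).1, t ^ 2 * (g v).1)) rfl
    (ht ▸ div_ne_zero (pow_ne_zero 2 hy) hz) (div_ne_zero hz hy)
  rwa [ht, inv_inv, show z / y * (y ^ 2 / z) = y by field_simp,
    show (z / y) ^ 2 * (y ^ 2 / z) = z by field_simp] at this

theorem dich {f₁ f₂ : K → K} (h2 : ∀ a b, f₂ (a + b) = f₂ a + f₂ b) (h1 : f₁ 0 = 0)
    (h : ∀ y z, y ≠ 0 → z ≠ 0 → f₁ y + f₂ z ≠ 0) {y : K} (hy : y ≠ 0) (e : f₁ y = 0) (a : K) :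
    f₁ a = 0 := by
  obtain ⟨z, hz⟩ := surj h2 (fun z hz => by simpa [e] using h y z hy hz) (f₁ a)
  by_contra hn
  refine h a z (fun e => hn (e ▸ h1)) (fun e => hn ?_) (by rw [hz, CharTwo.add_self_eq_zero])
  rw [← hz, e]
  simpa using h2 0 0

/-- An element preserving the plane `x = 0` normalises `UT K`. -/
theorem chain (ha : Ad G) (hT : SylIn 2 (UT K) G) (hg : g ∈ G) (h : ∀ y z, (g (0, y, z)).1 = 0)
    (t : K) : ∃ s, ∀ v, g (u3 t v) = u3 s (g v) := by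
  have a1 : ∀ g ∈ G, (∀ y z, (g (0, y, z)).1 = 0) → ∀ t,
      g * u3 t * g⁻¹ ∈ St ha (DD ha G.one_mem) fun _ => True := fun g hg h t =>
    ⟨mul_mem (mul_mem hg (hT.le (u3_mem t))) (inv_mem hg), fun d hd => by
      rw [Perm.mul_apply, Perm.mul_apply, u3_fix t (inv_pres ha hT hg h hd.1), perm_apply_inv], fun v _ => ⟨_, ⟨h _ _, h _ _⟩, by
        rw [Perm.mul_apply, Perm.mul_apply, u3v, ha _ hg, perm_apply_inv]⟩⟩
  have a2 := hT.max (St ha (DD ha G.one_mem) fun _ => True) (by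
    rintro _ ⟨s, rfl⟩
    simpa using a1 1 G.one_mem (fun _ _ => rfl) s) (fun _ h => h.1)
    (Solv.PG.isPGroup_of_forall_mem fun a h => ⟨1, Equiv.ext fun v => by
      obtain ⟨d, hd, e⟩ := h.2.2 v trivial
      rw [pow_one, pow_two, Perm.mul_apply, e, ha a h.1, e, h.2.1 d hd, add_assoc, add_self]
      simp⟩)
  obtain ⟨s, hs⟩ : g * u3 t * g⁻¹ ∈ UT K := a2 ▸ a1 g hg h t
  exact ⟨s, fun v => by simp [← hs]⟩

theorem exists_w (hT : UT K ≤ G) (hn : Nm G 0 0) :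
    ∃ w ∈ G, ∀ x y z, w (x, y, z) = (y, x, z + x + y) := by
  obtain ⟨⟨σ, h1, h2⟩, -⟩ := hn
  simp only [Pi.zero_apply, add_zero] at h2
  refine ⟨_, mul_mem (mul_mem (hT (u3_mem 1)) h1) (hT (u3_mem 1)), fun x y z => ?_⟩
  simp only [Perm.mul_apply, u3c, h2, Prod.mk.injEq]
  exact ⟨by linear_combination x * two (K := K), by linear_combination (x + y) * two (K := K),
    by linear_combination x * two (K := K)⟩

/-- The conclusion of `lemB` for the action modulo the line `x = y = 0`. -/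
theorem lemB' (ha : Ad G) (hT : SylIn 2 (UT K) G) (hm : Mv G) (hd : Dv G) :
    ∃ A ∈ G, ∃ φ : K →+ K, (∀ x, ∃ y z, A (0, y, 0) = (x, φ x, z)) ∧
      (∃ t, ∀ y, ∃ z, (A * u3 t * A⁻¹ : Perm _) (0, y, 0) = (y, y + φ y, z)) ∧
      (∀ g ∈ G, (∀ y z, (g (0, y, z)).1 = 0) ∨
        ∃ t, ∀ y z, (g (0, y, z)).2.1 = t * (g (0, y, z)).1 + φ (g (0, y, z)).1) ∧
      ∀ a : K, a ≠ 0 → ∃ h ∈ G, (∀ z, h (0, 0, z) = (0, 0, z)) ∧
        (∀ x, (h (x, φ x, 0)).1 = a⁻¹ * x) ∧ ∀ y, ∃ z, h (0, y, 0) = (0, a * y, z) := by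
  obtain ⟨ρ, r1, r2⟩ := exists_proj ha hd
  obtain ⟨g₀, g1, y₀, z₀, g2⟩ := hm
  have r3 : ∀ (g : G) x y x' y', ρ g (x, y) = (x', y') → ∃ z, g.1 (x, y, 0) = (x', y', z) :=
    fun g x y x' y' e => by
      rw [r2 g x y 0, Prod.mk.injEq] at e
      exact ⟨_, Prod.ext e.1 (Prod.ext e.2 rfl)⟩
  obtain ⟨A, φ, a1, a2, a3, a4⟩ := lemB ρ r1 hT.subgroupOf_top (by
    intro s hs
    obtain ⟨t, ht⟩ := mem_UT.1 (mem_subgroupOf.1 hs)
    exact ⟨t, fun x y => by rw [r2 _ x y 0, ht, u3c]⟩)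
    (fun t => ⟨⟨u3 t, hT.le (u3_mem t)⟩, u3_mem t, fun x y => by rw [r2 _ x y 0, u3c]⟩)
    ⟨⟨g₀, g1⟩, y₀, by rwa [r2 _ 0 y₀ z₀]⟩
  refine ⟨A, A.2, φ, fun x => (a1 x).imp fun y => r3 _ _ _ _ _, ?_, fun g hg => ?_, fun a h => ?_⟩
  · obtain ⟨⟨_, hs⟩, ⟨t, rfl⟩, e⟩ := a2 1
    exact ⟨t, fun y => r3 (A * ⟨_, hs⟩ * A⁻¹) _ _ _ _ (by simpa using e 0 y)⟩
  · refine (a3 ⟨g, hg⟩).imp (fun e y z => ?_) (Exists.imp fun t e y z => ?_) <;> have := e y <;>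
      rwa [r2 _ 0 y z] at this
  obtain ⟨h, h1, h2⟩ := a4 a h
  let N : Subgroup G :=
    { carrier := {g | ∀ z, g.1 (0, 0, z) = (0, 0, z)}
      one_mem' := fun _ => rfl
      mul_mem' := fun {a b} e1 e2 z => by rw [coe_mul, Perm.mul_apply, e2, e1]
      inv_mem' := fun {a} e z => Perm.inv_eq_iff_eq.2 (e z).symm }
  have : N.Normal := ⟨fun n hn g z => by
    obtain ⟨z', e⟩ := hd _ (inv_mem g.2) z
    rw [coe_mul, coe_mul, coe_inv, Perm.mul_apply, Perm.mul_apply, e, hn, ← e, perm_apply_inv]⟩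
  refine ⟨h, h.2, normalClosure_le_normal (N := N) ?_ h1, fun x => ?_,
    fun y => r3 _ _ _ _ _ (by simpa using h2 0 y)⟩
  · rintro ⟨_, hs⟩ ⟨t, rfl⟩ z
    exact u3_fix t rfl
  · have := h2 x 0
    rw [zero_add, r2 _ _ _ 0] at this
    exact congrArg Prod.fst this

end Lin2

open Lin2

theorem dv_or_dw (ha : Ad G) (hT : SylIn 2 (UT K) G) (hm : Mv G) {y z : K} (h0 : y ≠ 0 ∨ z ≠ 0)
    (h : ∀ g ∈ G, (g (0, y, z)).1 = 0) : (y = 0 ∧ Dv G) ∨ (z = 0 ∧ Dw G) := by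
  obtain ⟨g₀, g1, y₀, z₀, g2⟩ := hm
  have a0 := fun {y z} => nz ha hT g1 rfl g2 (y := y) (z := z)
  have a1 : ∀ g ∈ G, ∀ a b : K, (g (0, a + b, 0)).1 = (g (0, a, 0)).1 + (g (0, b, 0)).1 :=
    fun g hg a b => by rw [← Prod.fst_add, ← ha g hg]; simp
  have a2 : ∀ g ∈ G, ∀ a b : K, (g (0, 0, a + b)).1 = (g (0, 0, a)).1 + (g (0, 0, b)).1 :=
    fun g hg a b => by rw [← Prod.fst_add, ← ha g hg]; simp
  have a3 : ∀ g ∈ G, (g (0, 0, 0)).1 = 0 := fun g hg => congrArg Prod.fst (map0 ha hg)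
  by_cases hy : y = 0
  · subst hy
    have b1 : ∀ g ∈ G, ∀ a, (g (0, 0, a)).1 = 0 := fun g hg a => by
      by_contra e
      exact e (dich (f₁ := fun a => (g (0, 0, a)).1) (a1 g hg) (a3 g hg) (fun y z hy hz => by
        rw [add_comm, ← Prod.fst_add, ← split ha hg]
        exact nz ha hT hg rfl e hz hy) (h0.resolve_left (by simp)) (h g hg) a)
    refine Or.inl ⟨rfl, fun g hg a => ⟨_, Prod.ext (b1 g hg a) (Prod.ext ?_ rfl)⟩⟩
    by_contra e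
    have b2 := b1 _ (mul_mem g1 hg) a
    rw [Perm.mul_apply, show g (0, 0, a) = (0, (g (0, 0, a)).2.1, (g (0, 0, a)).2.2) from
      Prod.ext (b1 g hg a) rfl, split ha g1, Prod.fst_add, b1 _ g1] at b2
    exact a0 e one_ne_zero (by rwa [split ha g1, Prod.fst_add, b1 _ g1])
  obtain rfl : z = 0 := not_not.1 fun e => a0 hy e (h _ g1)
  have b1 : ∀ g ∈ G, ∀ a, (g (0, a, 0)).1 = 0 := fun g hg a => by
    by_contra e
    exact e (dich (f₁ := fun a => (g (0, a, 0)).1) (a2 g hg) (a3 g hg) (fun y z hy hz => by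
      rw [← Prod.fst_add, ← split ha hg]
      exact nz ha hT hg rfl e hy hz) hy (h g hg) a)
  refine Or.inr ⟨rfl, fun g hg a => ⟨_, Prod.ext (b1 g hg a) (Prod.ext rfl ?_)⟩⟩
  by_contra e
  have b2 := b1 _ (mul_mem g1 hg) a
  rw [Perm.mul_apply, show g (0, a, 0) = (0, (g (0, a, 0)).2.1, (g (0, a, 0)).2.2) from
    Prod.ext (b1 g hg a) rfl, split ha g1, Prod.fst_add, b1 _ g1] at b2
  exact a0 one_ne_zero e (by rwa [split ha g1, Prod.fst_add, b1 _ g1])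

theorem pow_four (ha : Ad G) (hT : SylIn 2 (UT K) G) (hm : Mv G) (hd : Dv G) (k : K) :
    k ^ 4 = k := by
  rcases eq_or_ne k 0 with rfl | hk
  · simp
  obtain ⟨-, -, φ, -, -, -, a⟩ := lemB' ha hT hm hd
  obtain ⟨h, h1, h2, h3, h4⟩ := a k hk
  choose ν hν using h4
  have a1 : ∀ y z, h (0, y, z) = (0, k * y, ν y + z) := fun y z => by
    rw [split ha h1, hν, h2]; simp
  have a2 : ∀ t, ∃ s, ∀ x, k * (t * x) = s * (k⁻¹ * x) ∧ ν (t * x) + t ^ 2 * x = s ^ 2 * (k⁻¹ * x) :=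
    fun t => (chain ha hT h1 (fun y z => by rw [a1]) t).imp fun s e x => by
      have := e (x, φ x, 0)
      rw [u3v, u3v, ha h h1, add_right_inj, a1, h3] at this
      exact Prod.mk.inj (Prod.mk.inj this).2
  obtain ⟨s, b1⟩ := a2 1
  obtain ⟨r, b2⟩ := a2 k
  have c1 := (b1 1).1
  have c2 := (b1 k).2
  obtain ⟨c3, c4⟩ := b2 1
  rw [one_mul] at c2
  rw [mul_one] at c4
  have e1 : s = k ^ 2 := by field_simp at c1; linear_combination -c1
  have e2 : r = k ^ 3 := by field_simp at c3; linear_combination -c3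
  subst e1 e2
  have e3 : (k - 1) * (k ^ 4 - k) = 0 := by
    field_simp at c2 c4
    linear_combination c2 - c4
  rcases mul_eq_zero.1 e3 with e | e
  · rw [sub_eq_zero.1 e, one_pow]
  · exact sub_eq_zero.1 e

theorem exists_nm (ha : Ad G) (hT : SylIn 2 (UT K) G) (hm : Mv G) (hd : Dv G) :
    ∃ α β : K →+ K, Nm G α β := by
  obtain ⟨A, hA, φ, a1, ⟨t, a2⟩, a3, -⟩ := lemB' ha hT hm hd
  have hσ : A * u3 t * A⁻¹ ∈ G := mul_mem (mul_mem hA (hT.le (u3_mem t))) (inv_mem hA)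
  have a4 : ∀ x z, (A * u3 t * A⁻¹) (x, φ x, z) = (x, φ x, z) := fun x z => by
    obtain ⟨y, z₀, e⟩ := a1 x
    obtain ⟨z₁, e1⟩ := hd _ (inv_mem hA) (z - z₀)
    have : A (0, y, z₁) = (x, φ x, z) := by
      rw [split ha hA, e, ← e1, perm_apply_inv]; simp
    rw [← this, Perm.mul_apply, Perm.mul_apply, perm_inv_apply, u3_fix t rfl]
  generalize A * u3 t * A⁻¹ = σ at a2 a4 hσ
  choose f hf using a2
  have a5 : ∀ a b, f (a + b) = f a + f b := fun a b => by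
    have := ha σ hσ (0, a, 0) (0, b, 0)
    rw [Prod.mk_add_mk, Prod.mk_add_mk, add_zero, hf, hf, hf] at this
    exact congrArg (·.2.2) this
  refine ⟨φ, AddMonoidHom.mk' f a5, ⟨σ, hσ, fun x y z => ?_⟩, a3⟩
  have := ha σ hσ (x, φ x, z + f x) (0, y, 0)
  rw [a4, hf] at this
  simpa [a5, add_comm, add_left_comm, add_assoc] using this

theorem exists_dg (hT : UT K ≤ G) (hn : Nm G 0 0) (h4 : ∀ k : K, k ^ 4 = k) {a : K} (h : a ≠ 0) :
    ∃ g ∈ G, ∀ x y z, (g (x, y, z)).1 = a * x ∧ g (0, y, z) = (0, a ^ 2 * y, z) := by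
  obtain ⟨w, h1, h2⟩ := exists_w hT hn
  have h3 : a ^ 3 = 1 := mul_left_cancel₀ h (by linear_combination h4 a)
  have a1 : ∀ c : K, ∃ s ∈ G, ∀ x y z, s (x, y, z) = (x + c * y, y, z + (c ^ 2 + c) * y) := fun c =>
    ⟨_, mul_mem (mul_mem h1 (hT (u3_mem c))) h1, fun x y z => by
      simp only [Perm.mul_apply, u3c, h2, Prod.mk.injEq]
      exact ⟨trivial, trivial, by linear_combination (x + y) * two (K := K)⟩⟩
  obtain ⟨s, s1, s2⟩ := a1 (a + 1)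
  obtain ⟨r, r1, r2⟩ := a1 (a ^ 2 + 1)
  refine ⟨_, mul_mem (mul_mem (mul_mem s1 (hT (u3_mem 1))) r1) (hT (u3_mem a)), fun x y z => ?_⟩
  have := two (K := K)
  simp only [Perm.mul_apply, u3c, s2, r2, Prod.mk.injEq]
  refine ⟨?_, ?_, ?_, ?_⟩ <;> grind

theorem good_eq (ha : Ad G) (hT : SylIn 2 (UT K) G) (hn : Nm G 0 0) {g : Perm (K × K × K)}
    (hg : g ∈ G) {l m : K} (hl : l ≠ 0) (h1 : ∀ y z, g (0, y, z) = (0, l * m * y, l ^ 2 * m * z))
    (h2 : ∀ x, ∃ z, g (x, 0, 0) = (m * x, 0, z)) (x : K) :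
    g (x, 0, 0) = (m * x, 0, (m / l + m) * x) := by
  obtain ⟨w, w1, w2⟩ := exists_w hT.le hn
  choose b hb using h2
  have a1 : ∀ x y z, g (x, y, z) = (m * x, l * m * y, b x + l ^ 2 * m * z) := fun x y z => by
    simpa [hb, h1] using ha g hg (x, 0, 0) (0, y, z)
  have hm : m ≠ 0 := by
    rintro rfl
    have := g.injective (by simp [h1] : g (0, 1, 0) = g (0, 0, 0))
    simp at this
  obtain ⟨c, hc⟩ := chain ha hT (mul_mem (mul_mem w1 hg) w1) (fun y z => by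
    simp [w2, a1]) 1
  have a2 := fun y => hc (y, 0, y)
  have a0 : b 0 = 0 := by simpa [h1] using (hb 0).symm
  have := two (K := K)
  simp only [Perm.mul_apply, u3c, w2, a1, Prod.mk.injEq, a0] at a2
  have a3 := (a2 1).2.1
  have a4 := (a2 x).2.2
  rw [hb, Prod.mk.injEq, Prod.mk.injEq]
  refine ⟨rfl, rfl, ?_⟩
  simp only [one_mul, zero_add] at a4
  grind

end Cfsg.Lib.Sp4F
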