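import Cfsg.Agent.Sp4F.Bas

/-! Fusion systems over a Sylow subgroup of `Sp₄(q)`, `q` odd: the essential subgroups. -/

set_option autoImplicit false

namespace Cfsg.Lib.Sp4F.OddA

open Cfsg Cfsg.FusionSystem Subgroup Equiv Cfsg.Lib.Fus Cfsg.Lib.Fus.Ess Cfsg.Lib.Class.FusH

variable {K : Type*} [Field K] {Ω : Type*} [Group Ω] {S : Subgroup Ω} (P : Par K S)

theorem el_conj (s a b c t x y z : K) : P.el s a b c * P.el t x y z * (P.el s a b c)⁻¹ =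
    P.el t x (y + s * x - t * a) (z + 2 * s * y + s ^ 2 * x - 2 * t * b - t ^ 2 * a) := by
  rw [P.el_inv, P.el_mul, P.el_mul, P.el_inj]
  exact ⟨by ring, by ring, by ring, by ring⟩

theorem el_cm (s a b c t x y z : K) :
    (P.el t x y z)⁻¹ * (P.el s a b c * P.el t x y z * (P.el s a b c)⁻¹) = P.el 0 0 (s * x - t * a)
      (2 * s * y + s ^ 2 * x - 2 * t * b + t ^ 2 * a - 2 * t * s * x) := by
  rw [el_conj, P.el_inv, P.el_mul, P.el_inj]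
  exact ⟨by ring, by ring, by ring, by ring⟩

theorem el_comm {s a b c t x y z : K} : P.el s a b c * P.el t x y z = P.el t x y z * P.el s a b c ↔
    s * x = t * a ∧ 2 * s * y + s ^ 2 * x = 2 * t * b + t ^ 2 * a := by
  rw [P.el_mul, P.el_mul, P.el_inj]
  exact ⟨fun h => ⟨by linear_combination h.2.2.1, by linear_combination h.2.2.2⟩, fun h =>
    ⟨by ring, by ring, by linear_combination h.1, by linear_combination h.2⟩⟩

/-- The subgroups `x = c t`. -/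
def Q (c : K) : Subgroup Ω where
  carrier := {g | ∃ t y z, g = P.el t (c * t) y z}
  one_mem' := ⟨0, 0, 0, by rw [mul_zero, P.el_zero]⟩
  mul_mem' := by
    rintro _ _ ⟨t, y, z, rfl⟩ ⟨t', y', z', rfl⟩
    exact ⟨t + t', _, _, by rw [P.el_mul, mul_add]⟩
  inv_mem' := by
    rintro _ ⟨t, y, z, rfl⟩
    exact ⟨-t, _, _, by rw [P.el_inv, mul_neg]⟩

/-- The second centre. -/
def Y : Subgroup Ω := P.A ⊓ Q P 0

/-- The centre. -/
def Z : Subgroup Ω where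
  carrier := {g | ∃ z, g = P.el 0 0 0 z}
  one_mem' := ⟨0, P.el_zero.symm⟩
  mul_mem' := by
    rintro _ _ ⟨z, rfl⟩ ⟨z', rfl⟩
    exact ⟨z + z', by rw [P.el_mul]; simp⟩
  inv_mem' := by
    rintro _ ⟨z, rfl⟩
    exact ⟨-z, by rw [P.el_inv]; simp⟩

variable {P} {t x y z c : K} {g : Ω}

theorem el_Q : P.el t x y z ∈ Q P c ↔ x = c * t :=
  ⟨fun ⟨_, _, _, h⟩ => by obtain ⟨rfl, h, -⟩ := P.el_inj.1 h; exact h, fun h => ⟨t, y, z, h ▸ rfl⟩⟩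

theorem el_Y : P.el t x y z ∈ Y P ↔ t = 0 ∧ x = 0 := by
  rw [Y, mem_inf, P.el_mem_A, el_Q, zero_mul]

theorem el_Z : P.el t x y z ∈ Z P ↔ t = 0 ∧ x = 0 ∧ y = 0 :=
  ⟨fun ⟨_, h⟩ => by obtain ⟨h1, h2, h3, -⟩ := P.el_inj.1 h; exact ⟨h1, h2, h3⟩,
    by rintro ⟨rfl, rfl, rfl⟩; exact ⟨z, rfl⟩⟩

theorem Q_le : Q P c ≤ S := by
  rintro _ ⟨t, y, z, rfl⟩
  exact P.el_mem ..

theorem Y_le_A : Y P ≤ P.A := inf_le_left

theorem mem_A : g ∈ P.A ↔ ∃ x y z, g = P.el 0 x y z := by simp only [P.mem_A, P.n_eq]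

theorem mem_Y : g ∈ Y P ↔ ∃ y z, g = P.el 0 0 y z := by
  refine ⟨fun h => ?_, by rintro ⟨y, z, rfl⟩; exact el_Y.2 ⟨rfl, rfl⟩⟩
  obtain ⟨x, y, z, rfl⟩ := mem_A.1 h.1
  obtain ⟨-, rfl⟩ := el_Y.1 h
  exact ⟨y, z, rfl⟩

theorem Z_le_Y : Z P ≤ Y P := by
  rintro _ ⟨z, rfl⟩
  exact el_Y.2 ⟨rfl, rfl⟩

theorem Y_le_Q : Y P ≤ Q P c := fun g h => by
  obtain ⟨y, z, rfl⟩ := mem_Y.1 h
  exact el_Q.2 (mul_zero c).symm

theorem Y_le : Y P ≤ S := Y_le_A.trans P.A_le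

theorem comm_A {g h : Ω} (hg : g ∈ P.A) (hh : h ∈ P.A) : g * h = h * g := by
  obtain ⟨x, y, z, rfl⟩ := mem_A.1 hg
  obtain ⟨x', y', z', rfl⟩ := mem_A.1 hh
  exact (el_comm P).2 ⟨by ring, by ring⟩

theorem comm_Z {g h : Ω} (hg : g ∈ S) (hh : h ∈ Z P) : g * h = h * g := by
  obtain ⟨t, x, y, z, rfl⟩ := P.mem_iff.1 hg
  obtain ⟨z', rfl⟩ := hh
  exact (el_comm P).2 ⟨by ring, by ring⟩

theorem cm_Y {g h : Ω} (hg : g ∈ S) (hh : h ∈ S) : h⁻¹ * (g * h * g⁻¹) ∈ Y P := by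
  obtain ⟨t, x, y, z, rfl⟩ := P.mem_iff.1 hg
  obtain ⟨t', x', y', z', rfl⟩ := P.mem_iff.1 hh
  exact el_cm P .. ▸ el_Y.2 ⟨rfl, rfl⟩

theorem cm_Z {g h : Ω} (hg : g ∈ S) (hh : h ∈ Y P) : h⁻¹ * (g * h * g⁻¹) ∈ Z P := by
  obtain ⟨t, x, y, z, rfl⟩ := P.mem_iff.1 hg
  obtain ⟨y', z', rfl⟩ := mem_Y.1 hh
  exact el_cm P .. ▸ el_Z.2 ⟨rfl, rfl, by ring⟩

theorem cm_Z' {g h : Ω} (hg : g ∈ Y P) (hh : h ∈ S) : h⁻¹ * (g * h * g⁻¹) ∈ Z P := by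
  obtain ⟨t, x, y, z, rfl⟩ := P.mem_iff.1 hh
  obtain ⟨y', z', rfl⟩ := mem_Y.1 hg
  exact el_cm P .. ▸ el_Z.2 ⟨rfl, rfl, by ring⟩

theorem mem_A_of_comm (h2 : (2 : K) ≠ 0) {h : Ω} (hg : g ∈ P.A) (hZ : g ∉ Z P) (hh : h ∈ S)
    (e : h * g = g * h) : h ∈ P.A := by
  obtain ⟨x, y, z, rfl⟩ := mem_A.1 hg
  obtain ⟨s, a, b, c, rfl⟩ := P.mem_iff.1 hh
  obtain ⟨e1, e2⟩ := (el_comm P).1 e
  by_contra hs
  rw [P.el_mem_A] at hs
  obtain rfl : x = 0 := mul_left_cancel₀ hs (by linear_combination e1)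
  exact hZ (el_Z.2 ⟨rfl, rfl, mul_left_cancel₀ (mul_ne_zero h2 hs) (by linear_combination e2)⟩)

/-- Centralisers of noncentral elements are abelian. -/
theorem cent (h2 : (2 : K) ≠ 0) {h k : Ω} (hg : g ∈ S) (hZ : g ∉ Z P) (hh : h ∈ S) (hk : k ∈ S)
    (e : h * g = g * h) (e' : k * g = g * k) : h * k = k * h := by
  by_cases hA : g ∈ P.A
  · exact comm_A (mem_A_of_comm h2 hA hZ hh e) (mem_A_of_comm h2 hA hZ hk e')
  obtain ⟨t, x, y, z, rfl⟩ := P.mem_iff.1 hg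
  obtain ⟨s, a, b, c, rfl⟩ := P.mem_iff.1 hh
  obtain ⟨s', a', b', c', rfl⟩ := P.mem_iff.1 hk
  rw [P.el_mem_A] at hA
  obtain ⟨e1, e2⟩ := (el_comm P).1 e
  obtain ⟨e3, e4⟩ := (el_comm P).1 e'
  exact (el_comm P).2 ⟨mul_left_cancel₀ hA (by linear_combination s' * e1 - s * e3),
    mul_left_cancel₀ hA (by linear_combination s' * e2 - s * e4 + (s' ^ 2 - s' * t) * e1 +
      (s * t - s ^ 2) * e3)⟩

variable {F : FusionSystem S} {f : Perm Ω} {E R : Subgroup Ω} {p : ℕ}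

theorem map_cm (hf : PIso F f E R) {g h : Ω} (hg : g ∈ E) (hh : h ∈ E) :
    f (h⁻¹ * (g * h * g⁻¹)) = (f h)⁻¹ * (f g * f h * (f g)⁻¹) := by
  rw [hf.map_mul (E.inv_mem hh) (E.mul_mem (E.mul_mem hg hh) (E.inv_mem hg)), hf.mor.map_inv hh,
    hf.map_conj hg hh]

theorem map_Y (h2 : (2 : K) ≠ 0) (hf : PIso F f S S) (hg : g ∈ Y P) : f g ∈ Y P := by
  obtain ⟨y, z, rfl⟩ := mem_Y.1 hg
  have : P.el 0 0 y z = (P.el 1 0 0 0)⁻¹ * (P.el 0 (-y) ((-y - z) / 2) 0 * P.el 1 0 0 0 *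
      (P.el 0 (-y) ((-y - z) / 2) 0)⁻¹) := by
    rw [el_cm, P.el_inj]
    exact ⟨rfl, rfl, by ring, by field_simp; ring⟩
  rw [this, map_cm hf (P.el_mem ..) (P.el_mem ..)]
  exact cm_Y (hf.maps (P.el_mem ..)) (hf.maps (P.el_mem ..))

theorem map_A (h2 : (2 : K) ≠ 0) (hf : PIso F f S S) (hg : g ∈ P.A) : f g ∈ P.A := by
  have h1 : f⁻¹ (P.el 0 0 1 0) ∈ Y P := map_Y h2 hf.symm (el_Y.2 ⟨rfl, rfl⟩)
  have h3 := congrArg f (comm_A hg (Y_le_A h1))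
  rw [hf.map_mul (P.A_le hg) (Y_le h1), hf.map_mul (Y_le h1) (P.A_le hg), perm_apply_inv] at h3
  exact mem_A_of_comm h2 (P.el_mem_A.2 rfl) (fun h => one_ne_zero (el_Z.1 h).2.2)
    (hf.maps (P.A_le hg)) h3

theorem Z_le (hE : F.IsCentric E) : Z P ≤ E := fun _ hz =>
  isCentric_self hE (mem_cIn.2 ⟨Y_le (Z_le_Y hz), fun _ hy => comm_Z (hE.1 hy) hz⟩)

theorem triv_Z {s : Ω} (hs : s ∈ S) (hN : s ∈ normalizer (E : Set Ω)) :
    Triv (conjAut E s hN) ((Z P).subgroupOf E) ⊥ :=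
  triv_conjAut_bot_iff.2 fun _ _ hx => by rw [comm_Z hs hx, mul_inv_cancel_right]

variable [Finite S] [Fact p.Prime]

theorem mem_norm (hE : E ≤ S) {s : Ω} (h : ∀ e ∈ E, e⁻¹ * (s * e * s⁻¹) ∈ E) :
    s ∈ normalizer (E : Set Ω) := by
  have := finite_of_le hE
  exact mem_normalizer_of_finite fun y hy => by simpa using E.mul_mem hy (h y hy)

variable (hS : IsPGroup p S) (hF : F.IsSaturated p) (hE : F.IsEssential p E)
include hS hE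

theorem mem_of_cm (hZ : AInv (F.autGroup E) ((Z P).subgroupOf E)) {s : Ω} (hs : s ∈ S)
    (h : ∀ e ∈ E, e⁻¹ * (s * e * s⁻¹) ∈ Z P) : s ∈ E := by
  have := finite_of_le hE.1.1
  have hN := mem_norm hE.1.1 fun e he => Z_le hE.1 (h e he)
  by_contra hsE
  exact ((radIn_of_essential hS hE).rad hS le_rfl hE.1.1 hs hN hsE).not_triv_triv hZ
    (triv_conjAut_top_iff.2 h) (triv_Z hs hN)

include hF

theorem not_aInv_Y (hZ : AInv (F.autGroup E) ((Z P).subgroupOf E)) :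
    ¬ AInv (F.autGroup E) ((Y P).subgroupOf E) := fun hY => by
  have := finite_of_le hE.1.1
  obtain ⟨x, hx, hxN, hxE, -⟩ := exists_step hS le_rfl (lt_of_isEssential hS hF hE)
  have r := (radIn_of_essential hS hE).rad hS le_rfl hE.1.1 hx hxN hxE
  exact r.not_ptr (((r.ptr aInv_top hY (triv_conjAut_top_iff.2 fun e he =>
    cm_Y hx (hE.1.1 he))).trans r.pg (r.ptr hY hZ (triv_conjAut_iff.2 fun e _ he => cm_Z hx he))
      hZ).trans r.pg (r.ptr hZ aInv_bot (triv_Z hx hxN)) aInv_bot)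

/-- An abelian essential subgroup containing a nontrivial strongly closed subgroup is `A`. -/
theorem eq_A (h2 : (2 : K) ≠ 0) (hR : F.StronglyClosed R) (h1 : R ≠ ⊥) (hRE : R ≤ E)
    (hc : ∀ a ∈ E, ∀ b ∈ E, a * b = b * a) : E = P.A := by
  have := finite_of_le hE.1.1
  by_cases hA : E ≤ P.A
  · exact le_antisymm hA fun g hg =>
      isCentric_self hE.1 (mem_cIn.2 ⟨P.A_le hg, fun y hy => comm_A (hA hy) hg⟩)
  obtain ⟨u, hu, huA⟩ := SetLike.not_le_iff_exists.1 hA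
  have hZ : ∀ e ∈ E, e ∈ P.A → e ∈ Z P := fun e he heA => by
    by_contra h
    exact huA (mem_A_of_comm h2 heA h (hE.1.1 hu) (hc u hu e he))
  have hT : ∀ s ∈ S, s ∈ normalizer (E : Set Ω) → ∀ e ∈ E, e⁻¹ * (s * e * s⁻¹) ∈ Z P :=
    fun s hs hN e he => hZ _ (E.mul_mem (E.inv_mem he) ((mem_normalizer_iff.1 hN e).1 he))
      (Y_le_A (cm_Y hs (hE.1.1 he)))
  have hRZ : R ≤ Z P := fun r hr => by
    have h3 := R.mul_mem (R.inv_mem hr) ((mem_normalizer_iff.1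
      (le_normalizer_of_stronglyClosed hR (P.el_mem 0 1 0 0)) r).1 hr)
    have h4 := hZ _ (hRE h3) (Y_le_A (cm_Y (P.el_mem ..) (hR.1 hr)))
    refine hZ r (hRE hr) ?_
    obtain ⟨t, x, y, z, rfl⟩ := P.mem_iff.1 (hR.1 hr)
    rw [el_cm, el_Z] at h4
    exact P.el_mem_A.2 (by linear_combination -h4.2.2)
  have hI : AInv (F.autGroup E) ((Z P).subgroupOf E) := aInv_of_ti (hS.to_le hE.1.1)
    (sat_sylIn hS hF hE.2.1) (fun t ht => ?_) (fun t ht ht1 e he => ?_) (fun v hv z hz => ?_)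
    (Q := R.subgroupOf E) (comap_mono hRZ) (fun e => h1 ?_) (aInv_of_stronglyClosed hE.1.1 hR)
  · obtain ⟨x, hx, hxN, hxE, -⟩ := exists_step hS le_rfl (lt_of_isEssential hS hF hE)
    exact (hxE (mem_of_cm hS hE hI hx (hT x hx hxN))).elim
  · obtain ⟨s, hs, hN, rfl⟩ := mem_autInducedBy'.1 ht
    exact ⟨triv_conjAut_top_iff.2 (hT s hs hN), triv_Z hs hN⟩
  · obtain ⟨s, hs, hN, rfl⟩ := mem_autInducedBy'.1 ht
    by_contra heZ
    exact ht1 ((conjAut_eq_one_iff hN).2 (mem_centralizer_iff.2 fun y hy =>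
      cent h2 (hE.1.1 e.2) heZ (hE.1.1 hy) hs (hc y hy e e.2)
        (mul_inv_eq_iff_eq_mul.1 (congrArg Subtype.val he))))
  · obtain ⟨v, hvE⟩ := v
    obtain ⟨_, hzE⟩ := z
    obtain ⟨z, rfl⟩ := hz
    obtain ⟨t, x, y, w, rfl⟩ := P.mem_iff.1 (hE.1.1 hvE)
    have ht : t ≠ 0 := fun h => hv (hZ _ hvE (P.el_mem_A.2 h))
    refine ⟨_, conjAut_mem_autInducedBy (P.el_mem 0 0 (-z / (2 * t)) 0) (mem_norm hE.1.1 fun e he =>
      Z_le hE.1 (cm_Z' (el_Y.2 ⟨rfl, rfl⟩) (hE.1.1 he))), Subtype.ext ?_⟩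
    refine (el_cm P ..).trans (P.el_inj.2 ⟨rfl, rfl, by ring, ?_⟩)
    field_simp
    ring
  · rwa [subgroupOf_eq_bot, disjoint_iff, inf_eq_left.2 hRE] at e

omit hS hF [Finite S] [Fact p.Prime] in
theorem aInv_Z (h2 : (2 : K) ≠ 0) (hc : ¬ ∀ a ∈ E, ∀ b ∈ E, a * b = b * a) :
    AInv (F.autGroup E) ((Z P).subgroupOf E) := by
  have : (Z P).subgroupOf E = center E := by
    ext x
    rw [mem_subgroupOf, mem_center_iff]
    refine ⟨fun hx y => Subtype.ext (comm_Z (hE.1.1 y.2) hx), fun hx => ?_⟩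
    by_contra hxZ
    exact hc fun a ha b hb => cent h2 (hE.1.1 x.2) hxZ (hE.1.1 ha) (hE.1.1 hb)
      (congrArg Subtype.val (hx ⟨a, ha⟩)) (congrArg Subtype.val (hx ⟨b, hb⟩))
  rw [this]
  exact AInv.of_char _

/-- A nonabelian essential subgroup is one of the `Q c`. -/
theorem eq_Q (h2 : (2 : K) ≠ 0) (hc : ¬ ∀ a ∈ E, ∀ b ∈ E, a * b = b * a) : ∃ c, E = Q P c := by
  have hZ := aInv_Z (P := P) hE h2 hc
  have hY := mt (aInv_of_piso hE.1.1) (not_aInv_Y hS hF hE hZ)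
  push Not at hY
  obtain ⟨f, hf, w, hw, hwY, hfw⟩ := hY
  obtain ⟨t, x, y, z, e⟩ := P.mem_iff.1 (hE.1.1 (hf.maps hw))
  have key : ∀ s a b c, P.el s a b c ∈ E → s * x = t * a := fun s a b c h => by
    have h1 := cm_Z (hE.1.1 (hf.inv_maps h)) hwY
    have h3 := hZ.piso hf (Z_le hE.1 h1) h1
    rw [map_cm hf (hf.inv_maps h) hw, perm_apply_inv, e, el_cm, el_Z] at h3
    linear_combination h3.2.2
  have ht : t ≠ 0 := by
    rintro rfl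
    have hx : x ≠ 0 := fun h => hfw (e ▸ el_Y.2 ⟨rfl, h⟩)
    have : E ≤ P.A := fun g hg => by
      obtain ⟨s, a, b, c, rfl⟩ := P.mem_iff.1 (hE.1.1 hg)
      exact P.el_mem_A.2 (mul_right_cancel₀ hx (by linear_combination key _ _ _ _ hg))
    exact hc fun a ha b hb => comm_A (this ha) (this hb)
  have hle : E ≤ Q P (x / t) := fun g hg => by
    obtain ⟨s, a, b, c, rfl⟩ := P.mem_iff.1 (hE.1.1 hg)
    exact el_Q.2 (by field_simp; linear_combination -key _ _ _ _ hg)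
  refine ⟨_, le_antisymm hle fun g hg => mem_of_cm hS hE hZ (Q_le hg) fun e he => ?_⟩
  obtain ⟨s, b, c, rfl⟩ := hg
  obtain ⟨s', b', c', rfl⟩ := hle he
  exact el_cm P .. ▸ el_Z.2 ⟨rfl, rfl, by ring⟩

end Cfsg.Lib.Sp4F.OddA
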