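import Cfsg.Agent.Sp4F.Sw
import Cfsg.Agent.Sp4F.Lin2
import Cfsg.Agent.Sp4F.OddA

/-! Fusion systems over a Sylow subgroup of `Sp₄(2ⁿ)`: essential subgroups and normal form. -/

set_option autoImplicit false

namespace Cfsg.Lib.Sp4F

open Cfsg Cfsg.FusionSystem Subgroup Equiv Cfsg.Lib.Fus Cfsg.Lib.Fus.Ess Cfsg.Lib.Class.FusH
open OddA

universe u

variable {K : Type u} [Field K] {Ω : Type*} [Group Ω] {S : Subgroup Ω} {F : FusionSystem S}

theorem Par.A_congr {P P' : Par K S} (h : P.n = P'.n) : P.A = P'.A :=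
  Subgroup.ext fun g => by rw [P.mem_A, P'.mem_A, h]

theorem Par.aut_congr {P P' : Par K S} (h : P.n = P'.n) : P.aut F = P'.aut F := by
  have h1 : P.nv = P'.nv := funext fun v => by rw [Par.nv, Par.nv, h]
  exact Subgroup.ext fun φ => by rw [P.mem_aut, P'.mem_aut, Par.A_congr h, h1]

theorem Gd.congr {P P' : Par K S} (h : P.n = P'.n) (g : Gd F P') : Gd F P := by
  rwa [Gd, Par.aut_congr h]

variable [CharP K 2] (P : Par K S)

namespace Ess2

/-- The shift in coordinates. -/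
def σ (α β : K →+ K) : Perm (K × K × K) where
  toFun v := (v.1, v.2.1 + α v.1, v.2.2 + β v.1)
  invFun v := (v.1, v.2.1 - α v.1, v.2.2 - β v.1)
  left_inv v := by simp
  right_inv v := by simp

theorem σ_eq_1' : type_of% @σ.eq_1 := @σ.eq_1

omit [CharP K 2] in
theorem σ_apply (α β : K →+ K) (v : K × K × K) :
    σ α β v = (v.1, v.2.1 + α v.1, v.2.2 + β v.1) := rfl

omit [CharP K 2] in
theorem σ_zero (α β : K →+ K) (y z : K) : σ α β (0, y, z) = (0, y, z) := by simp [σ_apply]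

omit [CharP K 2] in
theorem σ_conj (α β : K →+ K) (g : Perm (K × K × K)) (y z : K) :
    (σ α β * g * (σ α β)⁻¹) (0, y, z) = σ α β (g (0, y, z)) := by
  rw [Perm.mul_apply, Perm.mul_apply, Perm.inv_eq_iff_eq.2 (σ_zero α β y z).symm]

variable (α β : K →+ K)

theorem sh_A : (P.sh α β).A = P.A := Subgroup.ext fun _ =>
  ⟨fun ⟨_, _, _, h⟩ => ⟨_, _, _, h⟩, fun ⟨x, y, z, h⟩ =>
    ⟨x, y - α x, z - β x, by rw [P.sh_n, sub_add_cancel, sub_add_cancel, h]⟩⟩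

theorem mem_sh {φ : Perm (K × K × K)} :
    φ ∈ (P.sh α β).aut F ↔ σ α β * φ * (σ α β)⁻¹ ∈ P.aut F := by
  have h : ∀ v, (P.sh α β).nv v = P.nv (σ α β v) := fun _ => rfl
  simp only [Par.mem_aut, sh_A, h, Perm.mul_apply]
  exact exists_congr fun f => and_congr_right fun _ =>
    ⟨fun e v => by rw [← e, perm_apply_inv], fun e v => by rw [e, perm_inv_apply]⟩

theorem nm_sh (h : Nm (P.aut F) α β) : Nm ((P.sh α β).aut F) 0 0 := by
  obtain ⟨⟨g, h1, h2⟩, h3⟩ := h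
  refine ⟨⟨(σ α β)⁻¹ * g * σ α β, (mem_sh P α β).2 (by simpa [mul_assoc] using h1), fun x y z => ?_⟩,
    fun g hg => ?_⟩
  · simp only [Pi.zero_apply, add_zero, Perm.mul_apply]
    rw [Perm.inv_eq_iff_eq, σ_apply, h2, σ_apply]
  · have := h3 _ ((mem_sh P α β).1 hg)
    simpa only [σ_conj, σ_apply, add_left_inj, Pi.zero_apply, add_zero] using this

theorem dv_sh (h : Dv (P.aut F)) : Dv ((P.sh α β).aut F) := fun g hg z => by
  obtain ⟨z', e⟩ := h _ ((mem_sh P α β).1 hg) z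
  exact ⟨z', (σ α β).injective (by rw [← σ_conj, e, σ_zero])⟩

theorem full_sh : Full ((P.sh α β).aut F) ↔ Full (P.aut F) := by
  refine ⟨fun ⟨g, hg, z, e⟩ => ⟨_, (mem_sh P α β).1 hg, z, fun e' => e ((σ α β).injective ?_)⟩,
    fun ⟨g, hg, z, e⟩ => ⟨(σ α β)⁻¹ * g * σ α β, (mem_sh P α β).2 (by simpa [mul_assoc] using hg),
      z, fun e' => e ?_⟩⟩
  · rw [← σ_conj, e', σ_zero]
  · rwa [Perm.mul_apply, Perm.mul_apply, Perm.inv_eq_iff_eq, σ_zero] at e'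

theorem sh_sw_n (h4 : ∀ k : K, k ^ 4 = k) : ((P.sh α β).sw h4).n = (P.sw h4).n := by
  funext x y z
  simp [Par.sw_n, Par.el, Par.sh_n, Par.sh_a]

variable {P} {g h k : Ω} {E R : Subgroup Ω} {f : Perm Ω}

theorem comm_Y (hg : g ∈ S) (hh : h ∈ Y P) : g * h = h * g := by
  obtain ⟨t, x, y, z, rfl⟩ := P.mem_iff.1 hg
  obtain ⟨y', z', rfl⟩ := mem_Y.1 hh
  exact (el_comm P).2 ⟨by ring, by linear_combination t * y' * CharTwo.two_eq_zero (R := K)⟩

omit [CharP K 2] in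
theorem mem_A_of_comm (hg : g ∈ P.A) (hY : g ∉ Y P) (hh : h ∈ S) (e : h * g = g * h) :
    h ∈ P.A := by
  obtain ⟨x, y, z, rfl⟩ := mem_A.1 hg
  obtain ⟨s, a, b, c, rfl⟩ := P.mem_iff.1 hh
  exact P.el_mem_A.2 (mul_right_cancel₀ (fun e => hY (el_Y.2 ⟨rfl, e⟩))
    (by linear_combination ((el_comm P).1 e).1))

omit [CharP K 2] in
/-- Centralisers of elements outside the second centre are abelian. -/
theorem cent (hg : g ∈ S) (hY : g ∉ Y P) (hh : h ∈ S) (hk : k ∈ S) (e : h * g = g * h)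
    (e' : k * g = g * k) : h * k = k * h := by
  by_cases hA : g ∈ P.A
  · exact comm_A (mem_A_of_comm hA hY hh e) (mem_A_of_comm hA hY hk e')
  obtain ⟨t, x, y, z, rfl⟩ := P.mem_iff.1 hg
  obtain ⟨s, a, b, c, rfl⟩ := P.mem_iff.1 hh
  obtain ⟨s', a', b', c', rfl⟩ := P.mem_iff.1 hk
  rw [P.el_mem_A] at hA
  obtain ⟨e1, e2⟩ := (el_comm P).1 e
  obtain ⟨e3, e4⟩ := (el_comm P).1 e'
  exact (el_comm P).2 ⟨mul_left_cancel₀ hA (by linear_combination s' * e1 - s * e3),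
    mul_left_cancel₀ hA (by linear_combination s' * e2 - s * e4 + (s' ^ 2 - s' * t) * e1 +
      (s * t - s ^ 2) * e3)⟩

theorem sq_A (hg : g ∈ P.A) : g * g = 1 := by
  obtain ⟨x, y, z, rfl⟩ := hg
  rw [← P.n_add, ← P.n_zero]
  simp only [CharTwo.add_self_eq_zero]

theorem Y_le_of_centric (hE : F.IsCentric E) : Y P ≤ E := fun _ hz =>
  isCentric_self hE (mem_cIn.2 ⟨Y_le hz, fun _ hy => comm_Y (hE.1 hy) hz⟩)

variable [Finite K]

theorem mem_or (hg : g ∈ S) (e : g * g = 1) : g ∈ P.A ∨ g ∈ P.sw0.A := by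
  obtain ⟨t, x, y, z, rfl⟩ := P.mem_iff.1 hg
  rw [P.el_mul, ← P.el_zero, P.el_inj] at e
  rw [P.el_mem_A, P.el_mem_sw0_A]
  exact mul_eq_zero.1 (by linear_combination e.2.2.1 - y * CharTwo.two_eq_zero (R := K))

variable (P) in
theorem sw0_el (t x y z : K) :
    P.sw0.el t x y z = P.el x (t ^ 2) (z + x * t ^ 2) (y ^ 2 + x ^ 2 * t ^ 2) := by
  rw [Par.el, P.sw0_n, P.sw0_a, P.el_mul]
  simp

variable (P) in
theorem sw0_sw0_A : P.sw0.sw0.A = P.A := Subgroup.ext fun g => by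
  by_cases hg : g ∈ S
  · obtain ⟨t, x, y, z, rfl⟩ := P.sw0.mem_iff.1 hg
    rw [P.sw0.el_mem_sw0_A, sw0_el, P.el_mem_A]
  · exact iff_of_false (fun h => hg (Par.A_le _ h)) fun h => hg (P.A_le h)

variable (P) in
theorem sw_A (h4 : ∀ k : K, k ^ 4 = k) : (P.sw h4).A = P.sw0.A := Subgroup.ext fun g => by
  by_cases hg : g ∈ S
  · obtain ⟨t, x, y, z, rfl⟩ := P.mem_iff.1 hg
    rw [P.el_mem_sw0_A, P.el_mem_sw_A]
  · exact iff_of_false (fun h => hg (Par.A_le _ h)) fun h => hg (Par.A_le _ h)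

theorem mem_Y_iff : g ∈ Y P ↔ g ∈ P.A ∧ g ∈ P.sw0.A := by
  by_cases hg : g ∈ S
  · obtain ⟨t, x, y, z, rfl⟩ := P.mem_iff.1 hg
    rw [P.el_mem_sw0_A, P.el_mem_A, el_Y]
  · exact iff_of_false (fun h => hg (Y_le h)) fun h => hg (P.A_le h.1)

variable (P) in
theorem Y_sw0 : Y P.sw0 = Y P := Subgroup.ext fun g => by
  rw [mem_Y_iff, mem_Y_iff, sw0_sw0_A, and_comm]

variable (P) in
theorem maps_or (hf : PIso F f S S) (hE : E ≤ S) (h : ∀ g ∈ E, g * g = 1) :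
    (∀ g ∈ E, f g ∈ P.A) ∨ ∀ g ∈ E, f g ∈ P.sw0.A := by
  have h1 : ∀ g ∈ E, f g ∈ P.A ∨ f g ∈ P.sw0.A := fun g hg => mem_or (hf.maps (hE hg))
    (by rw [← hf.map_mul (hE hg) (hE hg), h g hg, hf.mor.map_one])
  by_contra hc
  push Not at hc
  obtain ⟨⟨a, ha, h2⟩, b, hb, h3⟩ := hc
  have h4 := h1 _ (E.mul_mem ha hb)
  rw [hf.map_mul (hE ha) (hE hb)] at h4
  rcases h4 with h4 | h4
  · exact h2 ((mul_mem_cancel_right ((h1 b hb).resolve_right h3)).1 h4)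
  · exact h3 ((mul_mem_cancel_left ((h1 a ha).resolve_left h2)).1 h4)

variable [Finite S] (hS : IsPGroup 2 S) (hF : F.IsSaturated 2)
include hS hF

omit [Finite K] in
theorem exists_mv (hE : F.IsEssential 2 E) : ∃ f, PIso F f E E ∧ ∃ w ∈ Y P, f w ∉ Y P := by
  by_contra hc
  push Not at hc
  have := finite_of_le hE.1.1
  obtain ⟨x, hx, hxN, hxE, -⟩ := exists_step hS le_rfl (lt_of_isEssential hS hF hE)
  exact ((radIn_of_essential hS hE).rad hS le_rfl hE.1.1 hx hxN hxE).not_triv_triv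
    (aInv_of_piso hE.1.1 fun f hf w _ hw => hc f hf w hw)
    (triv_conjAut_top_iff.2 fun e he => cm_Y hx (hE.1.1 he))
    (triv_conjAut_bot_iff.2 fun _ _ hy => by rw [comm_Y hx hy, mul_inv_cancel_right])

omit [Finite K] in
theorem comm (P : Par K S) (hE : F.IsEssential 2 E) : ∀ a ∈ E, ∀ b ∈ E, a * b = b * a := by
  by_contra hc
  obtain ⟨f, hf, w, hw, h⟩ := exists_mv (P := P) hS hF hE
  have h1 := Y_le_of_centric hE.1 hw
  have h2 : ∀ a ∈ E, a * f w = f w * a := fun a ha => by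
    have := congrArg f (comm_Y (hE.1.1 (hf.inv_maps ha)) hw)
    rwa [hf.map_mul (hf.inv_maps ha) h1, hf.map_mul h1 (hf.inv_maps ha), perm_apply_inv] at this
  exact hc fun a ha b hb => cent (hE.1.1 (hf.maps h1)) h (hE.1.1 ha) (hE.1.1 hb) (h2 a ha) (h2 b hb)

omit [Finite K] in
theorem eq_A (hE : F.IsEssential 2 E) (hg : g ∈ E) (hA : g ∈ P.A) (hY : g ∉ Y P) : E = P.A :=
  have h : E ≤ P.A := fun a ha => mem_A_of_comm hA hY (hE.1.1 ha) (comm hS hF P hE a ha g hg)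
  le_antisymm h fun _ ha =>
    isCentric_self hE.1 (mem_cIn.2 ⟨P.A_le ha, fun _ hy => comm_A (h hy) ha⟩)

end Ess2

open Ess2

variable [Finite K] [Finite S]

theorem ess_two (hS : IsPGroup 2 S) (hF : F.IsSaturated 2) {E : Subgroup Ω}
    (hE : F.IsEssential 2 E) : E = P.A ∨ E = P.sw0.A := by
  obtain ⟨f, hf, w, hw, h⟩ := exists_mv (P := P) hS hF hE
  have h1 := Y_le_of_centric hE.1 hw
  refine (mem_or (P := P) (hE.1.1 (hf.maps h1)) (by
    rw [← hf.map_mul h1 h1, sq_A (Y_le_A hw), hf.mor.map_one])).imp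
    (fun h2 => Ess2.eq_A hS hF hE (hf.maps h1) h2 h) fun h2 =>
      Ess2.eq_A hS hF hE (hf.maps h1) h2 (by rwa [Y_sw0])

omit [Finite K] in
theorem mv_of_essential (hS : IsPGroup 2 S) (hF : F.IsSaturated 2) (hE : F.IsEssential 2 P.A) :
    Mv (P.aut F) := by
  obtain ⟨f, hf, w, hw, h⟩ := exists_mv (P := P) hS hF hE
  obtain ⟨y, z, rfl⟩ := mem_Y.1 hw
  obtain ⟨φ, h1, h2⟩ := P.exists_aut hf
  refine ⟨φ, h1, y, z, fun e => h ?_⟩
  rw [← P.n_eq, show P.n 0 y z = P.nv (0, y, z) from rfl, h2, Par.nv, P.n_eq]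
  exact el_Y.2 ⟨rfl, e⟩

/-- Automorphisms of `S` in the system preserve `A`. -/
theorem maps_A (hS : IsPGroup 2 S) (hF : F.IsSaturated 2) {f : Perm Ω} (hf : PIso F f S S) {g : Ω}
    (hg : g ∈ P.A) : f g ∈ P.A := by
  rcases maps_or P hf P.A_le fun _ => sq_A with h | h
  · exact h g hg
  exfalso
  have h0 : ∀ y z, P.el 0 1 y z ∉ P.sw0.A := fun y z e => one_ne_zero (P.el_mem_sw0_A.1 e)
  rcases maps_or P hf P.sw0.A_le fun _ => sq_A with h' | h'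
  · obtain ⟨m, hm⟩ := Nat.not_even_iff_odd.1 fun e =>
      (sat_aut_top hS hF).not_dvd_relIndex e.two_dvd
    obtain ⟨s, hs, e⟩ := mem_inn_pext.1 (pow_relIndex_mem (Inn S) hf.aut_mem)
    have h1 : ∀ n : ℕ, ∀ g ∈ P.A, (pext S hf.aut ^ (2 * n + 1)) g ∈ P.sw0.A := fun n => by
      induction n with
      | zero => exact fun g hg => by simpa [hf.pext_aut (P.A_le hg)] using h g hg
      | succ n ih =>
        intro g hg
        rw [show 2 * (n + 1) + 1 = 2 * n + 1 + 1 + 1 by ring, pow_succ, pow_succ, Perm.mul_apply,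
          Perm.mul_apply, hf.pext_aut (P.A_le hg), hf.pext_aut (hf.maps (P.A_le hg))]
        exact ih _ (h' _ (h g hg))
    have h2 := h1 m _ (P.el_mem_A.2 rfl : P.el 0 1 0 0 ∈ _)
    rw [← hm, ← map_pow, e _ (P.el_mem ..)] at h2
    obtain ⟨t, x, y, z, rfl⟩ := P.mem_iff.1 hs
    exact h0 _ _ (el_conj P .. ▸ h2)
  · obtain ⟨t, x, y, z, e⟩ := (P.mem _).1 (hf.inv_maps (P.el_mem 0 1 0 0))
    have h1 : P.a t ∈ P.sw0.A := P.a_eq t ▸ P.el_mem_sw0_A.2 rfl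
    refine h0 0 0 ?_
    rw [Perm.inv_eq_iff_eq.1 e, hf.map_mul (P.A_le (P.n_mem ..)) (P.sw0.A_le h1)]
    exact mul_mem (h _ (P.n_mem ..)) (h' _ h1)

theorem exists_gd (h4 : ∀ k : K, k ^ 4 = k) (P : Par K S) (hS : IsPGroup 2 S)
    (hF : F.IsSaturated 2) (m1 : Mv (P.aut F)) (d1 : Dv (P.aut F)) (m2 : Mv ((P.sw h4).aut F))
    (d2 : Dv ((P.sw h4).aut F)) : ∃ P' : Par K S, Gd F P' ∧ Gd F (P'.sw h4) ∧
      (Full (P'.aut F) ↔ Full (P.aut F)) := by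
  obtain ⟨α, β, h1⟩ := exists_nm (P.ad_aut F) (P.sylIn_aut hS hF) m1 d1
  rw [← Par.aut_congr (sh_sw_n P α β h4)] at m2 d2
  obtain ⟨α', β', h2⟩ := exists_nm (Par.ad_aut _ F) (Par.sylIn_aut _ hS hF) m2 d2
  have ss : ∀ Q : Par K S, ((Q.sw h4).sw h4).n = Q.n := fun Q => by
    funext x y z; exact Q.sw_sw_n h4 x y z
  have e := (sh_sw_n ((P.sh α β).sw h4) α' β' h4).trans (ss _)
  exact ⟨_, Gd.congr e ⟨nm_sh P α β h1, dv_sh P α β d1⟩,
    Gd.congr (ss _) ⟨nm_sh _ α' β' h2, dv_sh _ α' β' d2⟩, by rw [Par.aut_congr e, full_sh]⟩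

namespace Ess2

variable (hS : IsPGroup 2 S) (hF : F.IsSaturated 2)
include hS hF

theorem constr (hA : F.IsEssential 2 P.A) (hB : ¬ F.IsEssential 2 P.sw0.A) : F.IsConstrained 2 := by
  refine ⟨hF, P.A, isNormal_of_essential hS hF ?_, hA.1⟩
  rintro E (rfl | hE)
  · exact ⟨P.A_le, fun f hf x hx => maps_A P hS hF hf hx⟩
  · rcases ess_two P hS hF hE with rfl | rfl
    exacts [⟨le_rfl, fun f hf x hx => hf.maps hx⟩, absurd hE hB]

theorem dich (hA : F.IsEssential 2 P.A) (hB : F.IsEssential 2 P.sw0.A) {y z : K}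
    (h0 : y ≠ 0 ∨ z ≠ 0) (h : P.el 0 0 y z ∈ F.core) :
    (y = 0 ∧ Dv (P.aut F)) ∨ (z = 0 ∧ Dw (P.aut F)) := by
  refine dv_or_dw (P.ad_aut F) (P.sylIn_aut hS hF) (mv_of_essential P hS hF hA) h0 ?_
  rintro φ ⟨f, hf, e⟩
  have h1 := IsNormal.le_of_radical hS (isNormal_core F) (isCentric_self hB.1)
    (isRadical_of_isEssential hS hB) (hf.mor.mem_of_stronglyClosed
      (stronglyClosed_of_isNormal (isNormal_core F)) (P.el_mem_A.2 rfl) h)
  rwa [← P.n_eq, show P.n 0 y z = P.nv (0, y, z) from rfl, e, Par.nv, P.n_eq, P.el_mem_sw0_A] at h1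

theorem gd (hA : F.IsEssential 2 P.A) (hB : F.IsEssential 2 P.sw0.A) {z : K} (h0 : z ≠ 0)
    (h : P.el 0 0 0 z ∈ F.core) :
    ∃ (h4 : ∀ k : K, k ^ 4 = k) (P' : Par K S), Gd F P' ∧ Gd F (P'.sw h4) := by
  have m1 := mv_of_essential P hS hF hA
  have d1 := ((dich P hS hF hA hB (Or.inr h0) h).resolve_right fun e => h0 e.1).2
  have h4 := pow_four (P.ad_aut F) (P.sylIn_aut hS hF) m1 d1
  have h1 : z ^ 2 ≠ 0 := pow_ne_zero 2 h0
  have d2 := ((dich P.sw0 hS hF hB (by rwa [sw0_sw0_A]) (y := z ^ 2) (z := 0) (Or.inl h1)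
    (by rw [sw0_el, ← pow_mul, h4]; simpa using h)).resolve_left fun e => h1 e.1).2
  obtain ⟨P', h2, h3, -⟩ := exists_gd h4 P hS hF m1 d1
    (mv_of_essential _ hS hF (by rwa [sw_A])) (by
      rintro φ ⟨f, hf, e⟩ w
      obtain ⟨ψ, h5, h6⟩ := P.sw0.exists_aut (sw_A P h4 ▸ hf)
      obtain ⟨w', h7⟩ := d2 ψ h5 w
      refine ⟨w', (P.sw h4).nv_inj ?_⟩
      rw [← e]
      exact (h6 (0, w, 0)).trans (congrArg _ h7))
  exact ⟨h4, P', h2, h3⟩

end Ess2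

theorem constrained_or_gd (P : Par K S) (hS : IsPGroup 2 S) (hF : F.IsSaturated 2)
    (h : F.core ≠ ⊥) : F.IsConstrained 2 ∨
      ∃ (h4 : ∀ k : K, k ^ 4 = k) (P' : Par K S), Gd F P' ∧ Gd F (P'.sw h4) := by
  by_cases hA : F.IsEssential 2 P.A <;> by_cases hB : F.IsEssential 2 P.sw0.A
  · obtain ⟨⟨r, hr⟩, h1⟩ := ne_bot_iff_exists_ne_one.1 h
    have hle : ∀ E, F.IsEssential 2 E → F.core ≤ E := fun E hE => IsNormal.le_of_radical hS
      (isNormal_core F) (isCentric_self hE.1) (isRadical_of_isEssential hS hE)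
    obtain ⟨y, z, rfl⟩ := mem_Y.1 (mem_Y_iff.2 ⟨hle _ hA hr, hle _ hB hr⟩)
    have h0 : y ≠ 0 ∨ z ≠ 0 := by
      by_contra hc
      push Not at hc
      obtain ⟨rfl, rfl⟩ := hc
      exact h1 (Subtype.ext P.el_zero)
    rcases dich P hS hF hA hB h0 hr with ⟨rfl, -⟩ | ⟨rfl, -⟩
    · exact Or.inr (gd P hS hF hA hB (h0.resolve_left fun e => e rfl) hr)
    · exact Or.inr (gd P.sw0 hS hF hB (by rwa [sw0_sw0_A]) (h0.resolve_right fun e => e rfl)
        (by rw [sw0_el]; simpa using hr))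
  · exact Or.inl (constr P hS hF hA hB)
  · exact Or.inl (constr P.sw0 hS hF hB (by rwa [sw0_sw0_A]))
  · refine Or.inl ⟨hF, S, isNormal_top_of_no_essential hS hF fun E hE => ?_, isCentric_top F⟩
    rcases ess_two P hS hF hE with rfl | rfl
    exacts [hA hE, hB hE]

end Cfsg.Lib.Sp4F
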