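import Cfsg.Agent.Sp4F.CmpA
import Cfsg.Agent.Sp4F.Ess2

/-! Fusion systems over a Sylow `2`-subgroup of `Sp₄(q)`, `q ≤ 4`: comparison of two systems. -/

set_option autoImplicit false

namespace Cfsg.Lib.Sp4F

open Cfsg Cfsg.FusionSystem Subgroup Equiv Cfsg.Lib.Fus

universe u

variable {K : Type u} [Field K] [Finite K] [CharP K 2] {Ω : Type*} [Group Ω] {S : Subgroup Ω}
  [Finite S] {F F' : FusionSystem S}

theorem le_of_gd (h4 : ∀ k : K, k ^ 4 = k) (P : Par K S) (hS : IsPGroup 2 S)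
    (hF : F.IsSaturated 2) (hF' : F'.IsSaturated 2) (g1 : Gd F P) (g2 : Gd F (P.sw h4))
    (g1' : Gd F' P) (g2' : Gd F' (P.sw h4)) (h : Full (P.aut F) → Full (P.aut F')) :
    F ≤ F' := by
  have top : ∀ f, PIso F f S S → Mor F' S f := fun f hf =>
    Cmp.top_le h4 hS hF hF' (fun _ hf _ => maps_A _ hS hF hf) (fun _ hf _ => maps_A _ hS hF hf)
      (fun _ hf _ => maps_A _ hS hF' hf) (fun _ hf _ => maps_A _ hS hF' hf) g1 g2 g1' g2' h hf
  refine le_of_autGroup_le_essential hS hF ?_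
  rintro E (rfl | hE)
  · exact fun α hα => (mem_autGroup_pext le_rfl).2 (top _ (piso_pext_of_mem le_rfl hα))
  rcases ess_two P hS hF hE with rfl | rfl
  · exact Cmp.aut_le hS hF hF' g1 g1' top
  · exact Ess2.sw_A P h4 ▸ Cmp.aut_le hS hF hF' g2 g2' top

end Cfsg.Lib.Sp4F
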