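import Cfsg.Agent.Sp4F.Defs

/-! The group `SL₃(2) × 2` as a model. -/

set_option autoImplicit false

namespace Cfsg.Lib.Sp4F

open Cfsg Subgroup Cfsg.Lib.Fus Cfsg.Lib.Class Cfsg.Lib.Class.FusH Matrix

universe u

namespace Md2

variable {K : Type u} [Field K]

theorem zero_or_one [Finite K] (hK : Nat.card K = 2) (k : K) : k = 0 ∨ k = 1 := by
  obtain ⟨x, y, hxy, h⟩ := Nat.card_eq_two_iff.1 hK
  have hm : ∀ a : K, a = x ∨ a = y := fun a => by
    have : a ∈ ({x, y} : Set K) := h ▸ Set.mem_univ a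
    simpa using this
  by_contra hn
  push Not at hn
  rcases hm 0 with h0 | h0 <;> rcases hm 1 with h1 | h1 <;> rcases hm k with h2 | h2 <;>
    first
    | exact zero_ne_one (h0.trans h1.symm)
    | exact hn.1 (h2.trans h0.symm)
    | exact hn.2 (h2.trans h1.symm)

theorem two_eq [Finite K] (hK : Nat.card K = 2) : (2 : K) = 0 := by
  rcases zero_or_one hK (2 : K) with h | h
  · exact h
  · exact absurd (by linear_combination h : (1 : K) = 0) one_ne_zero

theorem sq_eq [Finite K] (hK : Nat.card K = 2) (k : K) : k ^ 2 = k := by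
  rcases zero_or_one hK k with rfl | rfl <;> simp

/-- The Sylow subgroup of the model. -/
abbrev S (K : Type u) [Field K] :
    Subgroup (SpecialLinearGroup (Fin 3) K × Multiplicative K) := (UT3 K).prod ⊤

/-- Coordinates on the Sylow subgroup of the model. -/
def par [Finite K] (hK : Nat.card K = 2) : Par K (S K) where
  a t := (ut3 t 0 0, 1)
  n x y z := (ut3 0 x y, Multiplicative.ofAdd (y + z))
  a_add t t' := by simp [ut3_mul]
  n_add _ _ _ _ _ _ := by
    simp only [Prod.mk_mul_mk, ut3_mul, ← ofAdd_add, Prod.mk.injEq, ut3_inj,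
      EmbeddingLike.apply_eq_iff_eq]
    refine ⟨⟨by ring, trivial, by ring⟩, by ring⟩
  comm t x y z := by
    simp only [Prod.mk_mul_mk, ut3_mul, one_mul, mul_one, Prod.mk.injEq, ut3_inj,
      EmbeddingLike.apply_eq_iff_eq]
    refine ⟨⟨by ring, by ring, by ring⟩, ?_⟩
    linear_combination (-(t * y) - t * x) * two_eq hK - x * sq_eq hK t
  inj t x y z h := by
    simp only [Prod.mk_mul_mk, ut3_mul, mul_one, Prod.mk_eq_one, ← ut3_zero, ut3_inj,
      ofAdd_eq_one] at h
    obtain ⟨⟨h1, h2, h3⟩, h4⟩ := h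
    refine ⟨by simpa using h1, by simpa using h2, by simpa using h3, ?_⟩
    linear_combination h4 - h3
  mem g := by
    constructor
    · rintro ⟨⟨a, b, c, h⟩, -⟩
      refine ⟨a, b, c, Multiplicative.toAdd g.2 - c, Prod.ext ?_ ?_⟩
      · simp [h, ut3_mul]
      · simp
    · rintro ⟨t, x, y, z, rfl⟩
      exact ⟨⟨_, _, _, ut3_mul ..⟩, trivial⟩

/-- The signed permutation matrix of `(1 2)`. -/
def w1 (K : Type u) [Field K] : SpecialLinearGroup (Fin 3) K :=
  ⟨!![0, 1, 0; -1, 0, 0; 0, 0, 1], by simp [det_fin_three]⟩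

/-- The signed permutation matrix of `(2 3)`. -/
def w2 (K : Type u) [Field K] : SpecialLinearGroup (Fin 3) K :=
  ⟨!![1, 0, 0; 0, 0, 1; 0, -1, 0], by simp [det_fin_three]⟩

theorem w1_conj (x y : K) : w1 K * ut3 0 x y * (w1 K)⁻¹ = ut3 0 (-y) x := by
  rw [mul_inv_eq_iff_eq_mul]
  apply Subtype.ext
  rw [Matrix.SpecialLinearGroup.coe_mul, Matrix.SpecialLinearGroup.coe_mul]
  simp only [ut3, w1, mul_fin_three]
  ext i j
  fin_cases i <;> fin_cases j <;> simp

theorem w2_conj (t y : K) : w2 K * ut3 t 0 y * (w2 K)⁻¹ = ut3 y 0 (-t) := by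
  rw [mul_inv_eq_iff_eq_mul]
  apply Subtype.ext
  rw [Matrix.SpecialLinearGroup.coe_mul, Matrix.SpecialLinearGroup.coe_mul]
  simp only [ut3, w2, mul_fin_three]
  ext i j
  fin_cases i <;> fin_cases j <;> simp

theorem cen [Finite K] (hK : Nat.card K = 2) (g : SpecialLinearGroup (Fin 3) K × Multiplicative K)
    (z : K) : g * (par hK).n 0 0 z * g⁻¹ = (par hK).n 0 0 z := by
  rw [mul_inv_eq_iff_eq_mul]
  refine Prod.ext ?_ (mul_comm _ _)
  simp [par, ut3_zero]

theorem mdl [Finite K] (hK : Nat.card K = 2) : Mdl (par hK) False where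
  odd := by
    letI := Fintype.ofFinite K
    have h1 := (UT3 K).card_mul_index
    rw [card_UT3, hK, card_SL_fin_three (q := 2) (by rw [← Nat.card_eq_fintype_card, hK])] at h1
    have h2 : (UT3 K).index = 21 := by omega
    rw [S, index_prod, h2, index_top]
    norm_num
  nrm g z := ⟨z, cen hK g z⟩
  mvA := by
    have key : ∀ x y z : K, ((w1 K, 1) : _ × Multiplicative K) * (par hK).n x y z * (w1 K, 1)⁻¹ =
        (par hK).n (-y) x (y + z - x) := fun x y z => by
      refine Prod.ext ?_ ?_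
      · simp [par, w1_conj]
      · simp [par]
    exact ⟨(w1 K, 1), fun x y z => ⟨_, _, _, key x y z⟩, 1, 0, _, _, _, by simp, key 0 1 0⟩
  mvB := by
    have key : ∀ t y z : K, ((w2 K, 1) : _ × Multiplicative K) *
        ((par hK).n 0 y z * (par hK).a t) * (w2 K, 1)⁻¹ =
        (par hK).n 0 (-t) (y + z + t) * (par hK).a y := fun t y z => by
      refine Prod.ext ?_ ?_
      · simp [par, ut3_mul, w2_conj]
      · simp [par]
    refine ⟨(w2 K, 1), fun t y z => ⟨_, _, _, key t y z⟩, 1, 0, 1, -0, 1 + 0 + 0, one_ne_zero, ?_⟩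
    rw [← key 0 1 0, Par.a_zero, mul_one]
  full := ⟨False.elim, fun ⟨g, _, z, h⟩ => h (cen hK g z)⟩

end Md2

variable {K : Type u} [Field K] [Finite K]

theorem mdl_two (hK : Nat.card K = 2) : ∃ (X : Type u) (_ : Group X) (_ : Finite X)
    (S : Subgroup X) (P : Par K S), Mdl P False :=
  ⟨_, inferInstance, inferInstance, _, Md2.par hK, Md2.mdl hK⟩

end Cfsg.Lib.Sp4F
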