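import Cfsg.Agent.Sp4F.Cov
import Cfsg.Agent.S0101

/-! The group `2²·L₃(4)` as a model. -/

set_option autoImplicit false

namespace Cfsg.Lib.Sp4F

open Cfsg Subgroup Cfsg.Lib.Class.FusH Cfsg.Lib.Trans Cfsg.Lib.Gomi Cfsg.Lib.L34
open scoped commutatorElement

universe u

variable {K : Type u} [Field K] {X : Type*} [Group X]

/-- The coordinates `P` lie over the unitriangular coordinates. -/
structure Over (C : Cov K X) {S : Subgroup X} (P : Par K S) : Prop where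
  odd : ¬ 2 ∣ S.index
  a : ∀ t, C.π (P.a t) = uu t 0 0
  n : ∀ x y z, C.π (P.n x y z) = uu 0 x y
  ker : ∀ g, C.π g = 1 ↔ ∃ z, g = P.n 0 0 z

namespace Md4

theorem exists_add [Finite X] (C : Cov K X) {f : K → Y3 K} (hf : ∀ s t, f (s + t) = f s * f t)
    {H : Subgroup (Y3 K)} (hH : ∀ x ∈ H.comap C.π, x * x = 1) (h : ∀ t, f t ∈ H) :
    ∃ a : K → X, (∀ s t, a (s + t) = a s * a t) ∧ ∀ t, C.π (a t) = f t := by
  have := Gold.Tl.elemAb_of_sq hH
  obtain ⟨U, -, e1, e2⟩ := Solv.ElemAb.exists_complement_of_le 2 (ker_le_comap C.π H)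
  have h1 : ∀ t, ∃ x ∈ U, C.π x = f t := fun t => by
    obtain ⟨x, hx⟩ := C.surj (f t)
    obtain ⟨k, hk, y, hy, rfl⟩ := mem_sup_of_normal_left.1 (e2.ge (show C.π x ∈ H from hx ▸ h t))
    exact ⟨y, hy, by rwa [map_mul, MonoidHom.mem_ker.1 hk, one_mul] at hx⟩
  choose a h1 h2 using h1
  refine ⟨a, fun s t => inv_mul_eq_one.1 (mem_bot.1 (e1.le (mem_inf.2 ⟨?_,
    mul_mem (inv_mem (h1 _)) (mul_mem (h1 s) (h1 t))⟩))), h2⟩
  rw [MonoidHom.mem_ker, map_mul, map_mul, map_inv, h2, h2, h2, hf, inv_mul_cancel]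

/-- The element interchanging the first two coordinates. -/
def wA (K : Type u) [Field K] : Matrix.SpecialLinearGroup (Fin 3) K :=
  ⟨!![0, 1, 0; -1, 0, 0; 0, 0, 1], by simp [Matrix.det_fin_three]⟩

theorem wA_eq_1' : type_of% @wA.eq_1 := @wA.eq_1

/-- The element interchanging the last two coordinates. -/
def wB (K : Type u) [Field K] : Matrix.SpecialLinearGroup (Fin 3) K :=
  ⟨!![1, 0, 0; 0, 0, 1; 0, -1, 0], by simp [Matrix.det_fin_three]⟩

theorem wB_eq_1' : type_of% @wB.eq_1 := @wB.eq_1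

theorem exists_wA : ∃ w : Y3 K, ∀ b c, w * uu 0 b c * w⁻¹ = uu 0 (-c) b :=
  ⟨QuotientGroup.mk (wA K), fun b c => by
    rw [mul_inv_eq_iff_eq_mul, uu, uu, ← QuotientGroup.mk_mul, ← QuotientGroup.mk_mul]
    refine congrArg _ (Subtype.ext ?_)
    rw [Matrix.SpecialLinearGroup.coe_mul, Matrix.SpecialLinearGroup.coe_mul]
    simp [wA, ut3]⟩

theorem exists_wB : ∃ w : Y3 K, ∀ a c, w * uu a 0 c * w⁻¹ = uu c 0 (-a) :=
  ⟨QuotientGroup.mk (wB K), fun a c => by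
    rw [mul_inv_eq_iff_eq_mul, uu, uu, ← QuotientGroup.mk_mul, ← QuotientGroup.mk_mul]
    refine congrArg _ (Subtype.ext ?_)
    rw [Matrix.SpecialLinearGroup.coe_mul, Matrix.SpecialLinearGroup.coe_mul]
    simp [wB, ut3]⟩

/-- The coordinates without injectivity. -/
theorem exists_pre [Finite K] [Finite X] (hK : Nat.card K = 4) (C : Cov K X) :
    ∃ (a : K → X) (n : K → K → K → X), (∀ t t', a (t + t') = a t * a t') ∧
      (∀ x y z x' y' z', n (x + x') (y + y') (z + z') = n x y z * n x' y' z') ∧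
      (∀ t x y z, a t * n x y z = n x (y + t * x) (z + 2 * t * y + t ^ 2 * x) * a t) ∧
      (∀ t, C.π (a t) = uu t 0 0) ∧ ∀ x y z, C.π (n x y z) = uu 0 x y := by
  have := Fintype.ofFinite K
  have hF : Fintype.card K = 4 := Nat.card_eq_fintype_card.symm.trans hK
  have := charP_four hF
  have h2 : (2 : K) = 0 := CharTwo.two_eq_zero
  obtain ⟨ω, -, -, hω, hc⟩ := exists_omega hF
  have k := hs_uu (K := K)
  have sA : ∀ x ∈ k.A.comap C.π, x * x = 1 := fun x hx =>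
    let ⟨a, c, e⟩ := k.mem_A.1 hx; (C.sq_AB hK).1 x a c e.symm
  have sB : ∀ x ∈ k.B.comap C.π, x * x = 1 := fun x hx =>
    let ⟨a, c, e⟩ := k.mem_B.1 hx; (C.sq_AB hK).2 x a c e.symm
  obtain ⟨a, a1, a2⟩ := exists_add C (f := fun t => uu t 0 0) (fun s t => by simp [uu_mul]) sA
    fun t => k.u_mem_A.2 rfl
  obtain ⟨b, b1, b2⟩ := exists_add C (f := fun t => uu 0 t 0) (fun s t => by simp [uu_mul]) sB
    fun t => k.u_mem_B.2 rfl
  have cA : ∀ {z y : X} {c s d : K}, C.π z = uu 0 0 c → C.π y = uu s 0 d → y * z = z * y :=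
    fun hz hy => Gold.comm_of_sq sA _ (k.mem_A.2 ⟨_, _, hy.symm⟩) _ (k.mem_A.2 ⟨_, _, hz.symm⟩)
  have cB : ∀ {z y : X} {c s d : K}, C.π z = uu 0 0 c → C.π y = uu 0 s d → y * z = z * y :=
    fun hz hy => Gold.comm_of_sq sB _ (k.mem_B.2 ⟨_, _, hy.symm⟩) _ (k.mem_B.2 ⟨_, _, hz.symm⟩)
  obtain ⟨κ, hκ⟩ : ∃ κ : K → K → X, ∀ t x, κ t x = ⁅a t, b x⁆ := ⟨_, fun _ _ => rfl⟩
  have k0 : ∀ t x, C.π (κ t x) = uu 0 0 (t * x) := fun t x => by
    rw [hκ, map_commutatorElement, a2, b2, k.comm, zero_mul, sub_zero]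
  have k1 : ∀ s t x, κ (s + t) x = κ s x * κ t x := fun s t x => by
    rw [cA (k0 t x) (k0 s x), hκ, a1, comm_mul_left', ← hκ, ← hκ, cA (k0 t x) (a2 s),
      mul_inv_cancel_right]
  have k2 : ∀ t x y, κ t (x + y) = κ t x * κ t y := fun t x y => by
    rw [hκ, b1, comm_mul_right', ← hκ, ← hκ, cB (k0 t y) (b2 x), mul_inv_cancel_right]
  have k3 : ∀ t, κ t 0 = 1 := fun t => by simpa using k2 t 0 0
  have k4 : ∀ x, κ 0 x = 1 := fun x => by simpa using k1 0 0 x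
  obtain ⟨c, hc'⟩ : ∃ c : K → K → X, ∀ y z, c y z = κ 1 (y + ω * (y + z)) * κ ω (y + z) :=
    ⟨_, fun _ _ => rfl⟩
  have c0 : ∀ y z, C.π (c y z) = uu 0 0 y := fun y z => by
    rw [hc', map_mul, k0, k0, uu_mul, uu_inj]
    exact ⟨add_zero _, add_zero _, by linear_combination ω * (y + z) * h2⟩
  have c1 : ∀ y z y' z', c (y + y') (z + z') = c y z * c y' z' := fun y z y' z' => by
    rw [hc', hc', hc', show y + y' + ω * (y + y' + (z + z')) =
      (y + ω * (y + z)) + (y' + ω * (y' + z')) by ring,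
      show y + y' + (z + z') = (y + z) + (y' + z') by ring, k2 1 (y + _), k2 ω (y + z), mul_assoc, mul_assoc,
      ← mul_assoc (κ 1 (y' + _)), cA (k0 ω (y + z)) (k0 1 _), mul_assoc]
  have c2 : ∀ t x, c (t * x) (t ^ 2 * x) = κ t x := fun t x => by
    rw [hc']
    rcases hc t with rfl | rfl | rfl | rfl
    · simp [k3, k4]
    · rw [show 1 * x + 1 ^ 2 * x = 0 by linear_combination x * h2, k3]
      simp
    · rw [show t * x + t ^ 2 * x = x by linear_combination x * hω + t * x * h2,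
        show t * x + t * x = 0 by linear_combination t * x * h2, k3, one_mul]
    · rw [show (ω + 1) * x + (ω + 1) ^ 2 * x = x by linear_combination x * hω + (2 * ω + 1) * x * h2,
        show (ω + 1) * x + ω * x = x by linear_combination ω * x * h2, ← k1, add_comm]
  refine ⟨a, fun x y z => b x * c y z, a1, fun x y z x' y' z' => ?_, fun t x y z => ?_, a2,
    fun x y z => by rw [map_mul, b2, c0, uu_mul]; simp⟩ <;> beta_reduce
  · rw [b1, c1, mul_assoc, mul_assoc, ← mul_assoc (b x'), cB (c0 y z) (b2 x'), mul_assoc]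
  · rw [h2, zero_mul, zero_mul, add_zero, c1, c2, ← cA (c0 y z) (k0 t x), ← mul_assoc (b x),
      cB (k0 t x) (b2 x), mul_assoc (_ * b x), ← cA (c0 y z) (a2 t), hκ, commutatorElement_def]
    group

end Md4

theorem exists_par4 [Finite K] [Finite X] (hK : Nat.card K = 4) (C : Cov K X) :
    ∃ (S : Subgroup X) (P : Par K S), Over C P := by
  have := Fintype.ofFinite K
  have := charP_four (Nat.card_eq_fintype_card.symm.trans hK)
  obtain ⟨a, n, a1, n1, hc, a2, n2⟩ := Md4.exists_pre hK C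
  have k := hs_uu (K := K)
  have e0 : ∀ t x y z, C.π (n x y z * a t) = uu t x y := fun t x y z => by
    rw [map_mul, a2, n2, uu_mul]; simp
  have a0 : a 0 = 1 := by simpa using a1 0 0
  have n0 : n 0 0 0 = 1 := by simpa using n1 0 0 0 0 0 0
  let D : Subgroup X :=
    { carrier := {g | ∃ t x y z, g = n x y z * a t}
      one_mem' := ⟨0, 0, 0, 0, by rw [a0, n0, one_mul]⟩
      mul_mem' := by
        rintro _ _ ⟨t, x, y, z, rfl⟩ ⟨t', x', y', z', rfl⟩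
        exact ⟨_, _, _, _, by
          rw [mul_assoc, ← mul_assoc (a t), hc, ← mul_assoc, ← mul_assoc, ← n1, mul_assoc, ← a1]⟩
      inv_mem' := by
        rintro _ ⟨t, x, y, z, rfl⟩
        exact ⟨_, _, _, _, by
          rw [mul_inv_rev, inv_eq_of_mul_eq_one_right ((C.sq_AB hK).1 _ _ _ (a2 t)),
            inv_eq_of_mul_eq_one_right ((C.sq_AB hK).2 _ _ _ (n2 x y z)), hc]⟩ }
  have hS : IsSylowIn 2 (k.S.comap C.π) ⊤ :=
    isSylowIn_uu.comap C.π (Gold.Tl.isPGroup_of_sq C.sq) (MonoidHom.range_eq_top.2 C.surj).ge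
  obtain ⟨T, hT⟩ := hS.exists_sylow_eq
  have hD : ∀ g, g ∈ (T : Subgroup X) ↔ g ∈ D := by
    have h1 : D.subgroupOf T = ⊤ := frattini_nongenerating (eq_top_iff.2 fun g _ => by
      obtain ⟨t, x, y, e⟩ := k.mem_S.1 (hT.le g.2)
      have h2 : n x y 0 * a t ∈ (T : Subgroup X) := hT.ge (k.mem_S.2 ⟨t, x, y, (e0 ..).symm⟩)
      obtain ⟨f, h3, h4⟩ := Agent.S0101.result C.π C.surj C.cen C.perf T
        (x := (n x y 0 * a t)⁻¹ * g) (mem_inf.2 ⟨by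
          rw [MonoidHom.mem_ker, map_mul, map_inv, e0, e, inv_mul_cancel],
          mul_mem (inv_mem h2) g.2⟩)
      rw [show g = ⟨_, h2⟩ * f from Subtype.ext (eq_mul_of_inv_mul_eq h4.symm)]
      exact mul_mem (mem_sup_left ⟨t, x, y, 0, rfl⟩) (mem_sup_right h3))
    refine fun g => ⟨fun hg => (h1.ge (mem_top ⟨g, hg⟩) :), ?_⟩
    rintro ⟨t, x, y, z, rfl⟩
    exact hT.ge (k.mem_S.2 ⟨t, x, y, (e0 ..).symm⟩)
  have hk : ∀ g, C.π g = 1 ↔ ∃ z, g = n 0 0 z := fun g => by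
    refine ⟨fun hg => ?_, by rintro ⟨z, rfl⟩; rw [n2, uu_zero]⟩
    obtain ⟨t, x, y, z, rfl⟩ := (hD g).1 (hT.ge (ker_le_comap _ _ hg))
    rw [e0, k.eq_one_iff] at hg
    obtain ⟨rfl, rfl, rfl⟩ := hg
    exact ⟨z, by rw [a0, mul_one]⟩
  have hi : Function.Injective fun z => (⟨n 0 0 z, (hk _).2 ⟨z, rfl⟩⟩ : C.π.ker) :=
    ((Nat.bijective_iff_surjective_and_card _).2 ⟨fun g : C.π.ker =>
      let ⟨z, e⟩ := (hk g).1 g.2; ⟨z, Subtype.ext e.symm⟩, hK.trans C.card.symm⟩).1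
  refine ⟨T, ⟨a, n, a1, n1, hc, fun t x y z e => ?_, hD⟩, T.not_dvd_index, a2, n2, hk⟩
  have h1 := e0 t x y z
  rw [e, map_one, eq_comm, k.eq_one_iff] at h1
  obtain ⟨rfl, rfl, rfl⟩ := h1
  exact ⟨rfl, rfl, rfl, hi (Subtype.ext (by rw [a0, mul_one] at e; exact e.trans n0.symm))⟩

namespace Over

variable {C : Cov K X} {S : Subgroup X} {P : Par K S} (h : Over C P)
include h

theorem el (t x y z : K) : C.π (P.n x y z * P.a t) = uu t x y := by
  rw [map_mul, h.a, h.n, uu_mul]; simp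

theorem exists_eq {g : X} {t x y : K} (e : C.π g = uu t x y) : ∃ z, g = P.n x y z * P.a t := by
  obtain ⟨z, hz⟩ := (h.ker (g * (P.n x y 0 * P.a t)⁻¹)).1
    (by rw [map_mul, map_inv, h.el, e, mul_inv_cancel])
  exact ⟨z, by rw [eq_mul_of_mul_inv_eq hz, ← mul_assoc, ← P.n_add]; simp⟩

theorem memA {g : X} : (∃ x y z, g = P.n x y z) ↔ ∃ b c, C.π g = uu 0 b c :=
  ⟨fun ⟨x, y, z, e⟩ => ⟨x, y, e ▸ h.n x y z⟩, fun ⟨b, c, e⟩ =>
    let ⟨z, hz⟩ := h.exists_eq e; ⟨b, c, z, by rw [hz, P.a_zero, mul_one]⟩⟩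

theorem memB {g : X} : (∃ t y z, g = P.n 0 y z * P.a t) ↔ ∃ a c, C.π g = uu a 0 c :=
  ⟨fun ⟨t, y, z, e⟩ => ⟨t, y, e ▸ h.el t 0 y z⟩, fun ⟨a, c, e⟩ =>
    let ⟨z, hz⟩ := h.exists_eq e; ⟨a, c, z, hz⟩⟩

theorem cen (g : X) (z : K) : g * P.n 0 0 z * g⁻¹ = P.n 0 0 z := by
  rw [C.comm ((h.ker _).2 ⟨z, rfl⟩) g, mul_inv_cancel_right]

theorem mvA : ∃ g, (∀ x y z, ∃ x' y' z', g * P.n x y z * g⁻¹ = P.n x' y' z') ∧
    ∃ y z x' y' z', x' ≠ 0 ∧ g * P.n 0 y z * g⁻¹ = P.n x' y' z' := by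
  obtain ⟨w, hw⟩ := Md4.exists_wA (K := K)
  obtain ⟨g, rfl⟩ := C.surj w
  have e : ∀ x y z, C.π (g * P.n x y z * g⁻¹) = uu 0 (-y) x := fun x y z => by
    rw [map_mul, map_mul, map_inv, h.n, hw]
  obtain ⟨z, hz⟩ := h.exists_eq (e 0 1 0)
  exact ⟨g, fun x y z => h.memA.2 ⟨_, _, e x y z⟩, 1, 0, -1, 0, z, neg_ne_zero.2 one_ne_zero,
    by rw [hz, P.a_zero, mul_one]⟩

theorem mvB : ∃ g, (∀ t y z, ∃ t' y' z', g * (P.n 0 y z * P.a t) * g⁻¹ = P.n 0 y' z' * P.a t') ∧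
    ∃ y z t' y' z', t' ≠ 0 ∧ g * P.n 0 y z * g⁻¹ = P.n 0 y' z' * P.a t' := by
  obtain ⟨w, hw⟩ := Md4.exists_wB (K := K)
  obtain ⟨g, rfl⟩ := C.surj w
  obtain ⟨z, hz⟩ := h.exists_eq (g := g * P.n 0 1 0 * g⁻¹)
    (by rw [map_mul, map_mul, map_inv, h.n, hw])
  exact ⟨g, fun t y z => h.memB.2 ⟨_, _, by rw [map_mul, map_mul, map_inv, h.el, hw]⟩,
    1, 0, 1, _, z, one_ne_zero, hz⟩

theorem mdl : Mdl P False :=
  ⟨h.odd, fun g z => ⟨z, h.cen g z⟩, h.mvA, h.mvB,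
    False.elim, fun ⟨g, _, z, e⟩ => e (h.cen g z)⟩

end Over

theorem mdl_four [Finite K] (hK : Nat.card K = 4) : ∃ (X : Type u) (_ : Group X) (_ : Finite X)
    (S : Subgroup X) (P : Par K S), Mdl P False := by
  obtain ⟨X, _, _, ⟨C⟩⟩ := exists_cov hK
  obtain ⟨S, P, h⟩ := exists_par4 hK C
  exact ⟨X, _, inferInstance, S, P, h.mdl⟩

end Cfsg.Lib.Sp4F
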