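import Cfsg.Agent.Sp4F.Defs
import Cfsg.Agent.Known.PSLAut
import Cfsg.Agent.S2088

/-! Lifting automorphisms to the cover `2²·L₃(4)`, and its extension by a diagonal automorphism. -/

set_option autoImplicit false

namespace Cfsg.Lib.Sp4F

open Cfsg Cfsg.FusionSystem Subgroup Equiv Cfsg.Lib.Fus Cfsg.Lib.Class.FusH
open scoped commutatorElement

universe u

namespace Lift

theorem comm_central {X : Type*} [Group X] (x y : X) {z z' : X} (hz : z ∈ center X)
    (hz' : z' ∈ center X) : ⁅x * z, y * z'⁆ = ⁅x, y⁆ := by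
  have h := mem_center_iff.1 hz
  have h' := mem_center_iff.1 hz'
  calc ⁅x * z, y * z'⁆ = x * (z * y) * (z' * z⁻¹ * x⁻¹ * z'⁻¹) * y⁻¹ := by
        rw [commutatorElement_def]; group
    _ = _ := by
        rw [← h y, mul_assoc z', ← h' (z⁻¹ * x⁻¹), commutatorElement_def]; group

theorem eq_one_of_lift {X Y : Type*} [Group X] [Group Y] {π : X →* Y} (cen : π.ker ≤ center X)
    (perf : commutator X = ⊤) {E : MulAut X} (h : ∀ x, π (E x) = π x) : E = 1 := by
  have key : ∀ x, E x = x * (x⁻¹ * E x) := fun x => by group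
  have hc : ∀ x, x⁻¹ * E x ∈ center X := fun x => cen (by simp [MonoidHom.mem_ker, h])
  have : commutator X ≤ E.toMonoidHom.eqLocus (MonoidHom.id X) := commutator_le.2 fun x _ y _ => by
    change E ⁅x, y⁆ = ⁅x, y⁆
    rw [map_commutatorElement, key x, key y, comm_central _ _ (hc x) (hc y)]
  exact MulEquiv.ext fun x => this (perf ▸ mem_top x)

theorem card_le_four {A : Type*} [Group A] (φ : Multiplicative (ZMod 3 × ZMod 4 × ZMod 4) →* A)
    (hφ : Function.Surjective φ) (h : ∀ a : A, a * a = 1) : Nat.card A ≤ 4 := by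
  have key : ∀ v : ZMod 3 × ZMod 4 × ZMod 4, ∃ r : Fin 2 × Fin 2, ∃ v',
      v = (0, (r.1.1 : ZMod 4), (r.2.1 : ZMod 4)) + (v' + v') := by decide
  refine (Nat.card_le_card_of_surjective (fun r : Fin 2 × Fin 2 =>
    φ (Multiplicative.ofAdd (0, (r.1.1 : ZMod 4), (r.2.1 : ZMod 4)))) fun a => ?_).trans (by simp)
  obtain ⟨v, rfl⟩ := hφ a
  obtain ⟨r, v', e⟩ := key v.toAdd
  refine ⟨r, ?_⟩
  rw [← ofAdd_toAdd v, e, ofAdd_add, ofAdd_add, map_mul, map_mul, h, mul_one]

theorem exists_lift {X Y : Type u} [Group X] [Finite X] [Group Y]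
    (hM : HasSchurMultiplier Y (Multiplicative (ZMod 3 × ZMod 4 × ZMod 4))) {π : X →* Y}
    (surj : Function.Surjective π) (cen : π.ker ≤ center X) (card : Nat.card π.ker = 4)
    (sq : ∀ z ∈ π.ker, z * z = 1) (perf : commutator X = ⊤) (d : MulAut Y) :
    ∃ D : MulAut X, ∀ x, π (D x) = d (π x) := by
  let W : Subgroup (X × X) := (π.comp (MonoidHom.snd X X)).eqLocus
    (d.toMonoidHom.comp (π.comp (MonoidHom.fst X X)))
  have mW : ∀ p, p ∈ W ↔ π p.2 = d (π p.1) := fun _ => Iff.rfl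
  have le : ⁅W, W⁆ ≤ W := commutator_le_self W
  have on : ∀ f : X × X →* X, (∀ x, ∃ p ∈ W, f p = x) →
      Function.Surjective (f.comp ⁅W, W⁆.subtype) := fun f hf x => by
    have : W.map f = ⊤ := eq_top_iff.2 fun x _ => hf x
    have h2 : x ∈ ⁅W, W⁆.map f := by
      rw [map_commutator, this, ← commutator_def, perf]; trivial
    obtain ⟨p, hp, e⟩ := h2
    exact ⟨⟨p, hp⟩, e⟩
  have s1 := on (MonoidHom.fst X X) fun x => by
    obtain ⟨y, hy⟩ := surj (d (π x))
    exact ⟨(x, y), hy, rfl⟩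
  have s2 := on (MonoidHom.snd X X) fun x => by
    obtain ⟨y, hy⟩ := surj (d.symm (π x))
    exact ⟨(y, x), (mW _).2 (by simp [hy]), rfl⟩
  have cz : ∀ p ∈ W, π p.1 = 1 → p.1 ∈ π.ker ∧ p.2 ∈ π.ker := fun p hp h =>
    ⟨h, ((mW p).1 hp).trans (by rw [h, map_one])⟩
  have cz' : ∀ p ∈ W, π p.1 = 1 → p ∈ center (X × X) := fun p hp h => mem_center_iff.2 fun q =>
    Prod.ext (mem_center_iff.1 (cen (cz p hp h).1) _) (mem_center_iff.1 (cen (cz p hp h).2) _)
  have pf : commutator (⁅W, W⁆ : Subgroup (X × X)) = ⊤ := by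
    have key : ∀ p ∈ W, ∃ q ∈ ⁅W, W⁆, ∃ z ∈ center (X × X), p = q * z := fun p hp => by
      obtain ⟨⟨q, hq⟩, e⟩ := s1 p.1
      refine ⟨q, hq, q⁻¹ * p, cz' _ (mul_mem (inv_mem (le hq)) hp) ?_, by group⟩
      rw [Prod.fst_mul, Prod.fst_inv, show q.1 = p.1 from e, inv_mul_cancel, map_one]
    refine map_injective ⁅W, W⁆.subtype_injective ?_
    rw [map_subtype_commutator, ← MonoidHom.range_eq_map, range_subtype]
    refine le_antisymm (commutator_mono le le) (commutator_le.2 fun p hp p' hp' => ?_)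
    obtain ⟨q, hq, z, hz, rfl⟩ := key p hp
    obtain ⟨q', hq', z', hz', rfl⟩ := key p' hp'
    rw [comm_central _ _ hz hz']
    exact commutator_mem_commutator hq hq'
  let σ := π.comp ((MonoidHom.fst X X).comp ⁅W, W⁆.subtype)
  have sσ : Function.Surjective σ := surj.comp s1
  obtain ⟨φ, hφ⟩ := hM.2 _ σ ⟨sσ, fun p hp => mem_center_iff.2 fun q =>
    Subtype.ext (mem_center_iff.1 (cz' _ (le p.2) hp) _), pf ▸ le_top⟩
  have c4 := card_le_four φ hφ fun p => Subtype.ext (Subtype.ext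
    (Prod.ext (sq _ (cz _ (le p.1.2) p.2).1) (sq _ (cz _ (le p.1.2) p.2).2)))
  have cW : Nat.card (⁅W, W⁆ : Subgroup (X × X)) ≤ Nat.card X := by
    rw [← σ.ker.card_mul_index, ← π.ker.card_mul_index, index_ker, index_ker,
      MonoidHom.range_eq_top.2 sσ, MonoidHom.range_eq_top.2 surj, card]
    exact Nat.mul_le_mul_right _ c4
  let e1 := MulEquiv.ofBijective _ (s1.bijective_of_nat_card_le cW)
  let e2 := MulEquiv.ofBijective _ (s2.bijective_of_nat_card_le cW)
  refine ⟨e1.symm.trans e2, fun x => ?_⟩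
  obtain ⟨p, rfl⟩ := e1.surjective x
  rw [MulEquiv.trans_apply, MulEquiv.symm_apply_apply]
  exact (mW _).1 (le p.2)

end Lift

variable {K : Type u} [Field K]

/-- Transport of the coordinates along an embedding. -/
def Par.map {Ω Ω' : Type*} [Group Ω] [Group Ω'] {S : Subgroup Ω} (P : Par K S) (f : Ω →* Ω')
    (hf : Function.Injective f) : Par K (S.map f) where
  a t := f (P.a t)
  n x y z := f (P.n x y z)
  a_add _ _ := by rw [P.a_add, map_mul]
  n_add _ _ _ _ _ _ := by rw [P.n_add, map_mul]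
  comm _ _ _ _ := by rw [← map_mul, P.comm, map_mul]
  inj t x y z h := P.inj t x y z (hf (by rw [map_mul, h, map_one]))
  mem g := ⟨by
    rintro ⟨s, hs, rfl⟩
    obtain ⟨t, x, y, z, rfl⟩ := (P.mem s).1 hs
    exact ⟨t, x, y, z, map_mul ..⟩, by
    rintro ⟨t, x, y, z, rfl⟩
    exact ⟨_, (P.mem _).2 ⟨t, x, y, z, rfl⟩, map_mul ..⟩⟩

theorem Par.map_eq_1' : type_of% @Par.map.eq_1 := @Par.map.eq_1

namespace Lift

theorem mdl_of_aut {X : Type u} [Group X] [Finite X] {S : Subgroup X} {P : Par K S} {b : Prop}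
    (M : Mdl P b) (D : MulAut X) (h3 : D ^ 3 = 1) (hz : ∀ z, ∃ z', D (P.n 0 0 z) = P.n 0 0 z')
    (hn : ∀ x y z, ∃ x' y' z', D (P.n x y z) = P.n x' y' z') (hm : ∃ z, D (P.n 0 0 z) ≠ P.n 0 0 z) :
    ∃ (X : Type u) (_ : Group X) (_ : Finite X) (S : Subgroup X) (P : Par K S), Mdl P True := by
  let X1 := X ⋊[(zpowers D).subtype] zpowers D
  let i : X →* X1 := SemidirectProduct.inl
  have hi : Function.Injective i := SemidirectProduct.inl_injective
  have cj : ∀ (g : X1) x, g * i x * g⁻¹ = i (g.left * g.right.1 x * g.left⁻¹) := fun g x => by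
    have := SemidirectProduct.inl_aut (φ := (zpowers D).subtype) g.right x
    rw [map_inv] at this
    rw [map_mul, map_mul, map_inv, show i (g.right.1 x) = _ from this]
    conv_lhs => rw [← SemidirectProduct.inl_left_mul_inr_right g]
    simp only [i, mul_inv_rev, mul_assoc]
  have mv : ∀ {g x y : X}, g * x * g⁻¹ = y → i g * i x * (i g)⁻¹ = i y := fun h => by
    rw [← h, map_mul, map_mul, map_inv]
  refine ⟨X1, inferInstance, Finite.of_equiv _ SemidirectProduct.equivProd.symm, S.map i,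
    P.map i hi, ?_, fun g z => ?_, ?_, ?_, iff_of_true trivial
      ⟨SemidirectProduct.inr ⟨D, mem_zpowers D⟩, fun x y z => ?_, ?_⟩⟩
  · rw [index_map_of_injective _ hi, SemidirectProduct.range_inl_eq_ker_rightHom, index_ker,
      MonoidHom.range_eq_top.2 SemidirectProduct.rightHom_surjective, card_top, Nat.card_zpowers,
      Nat.prime_two.dvd_mul]
    exact fun h => h.elim M.odd fun h =>
      absurd (h.trans (orderOf_dvd_of_pow_eq_one h3)) (by norm_num)
  · have key : ∀ k : ℕ, ∃ z', (D ^ k) (P.n 0 0 z) = P.n 0 0 z' := fun k => by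
      induction k with
      | zero => exact ⟨z, rfl⟩
      | succ k ih =>
        obtain ⟨z', e⟩ := ih
        rw [pow_succ', MulAut.mul_apply, e]
        exact hz z'
    obtain ⟨k, hk⟩ := (mem_powers_iff_mem_zpowers.2 g.right.2 :)
    obtain ⟨z', e⟩ := key k
    obtain ⟨z'', e'⟩ := M.nrm g.left z'
    exact ⟨z'', (cj g _).trans (by rw [← hk]; exact congrArg i (by rw [e, e']))⟩
  · obtain ⟨g, h1, y, z, x', y', z', h2, h4⟩ := M.mvA
    refine ⟨i g, fun x y z => ?_, y, z, x', y', z', h2, mv h4⟩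
    obtain ⟨x', y', z', e⟩ := h1 x y z
    exact ⟨x', y', z', mv e⟩
  · obtain ⟨g, h1, y, z, x', y', z', h2, h4⟩ := M.mvB
    refine ⟨i g, fun x y z => ?_, y, z, x', y', z', h2, (mv h4).trans (map_mul ..)⟩
    obtain ⟨x', y', z', e⟩ := h1 x y z
    exact ⟨x', y', z', by simpa only [map_mul] using! mv e⟩
  · obtain ⟨x', y', z', e⟩ := hn x y z
    exact ⟨x', y', z', (cj _ _).trans (congrArg i (by simpa using e))⟩
  · obtain ⟨z, e⟩ := hm
    exact ⟨z, fun h => e (by simpa using hi ((cj _ _).symm.trans h))⟩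

theorem exists_diag {w : K} (h3 : w ^ 3 = 1) :
    ∃ d : MulAut (Matrix.ProjectiveSpecialLinearGroup (Fin 3) K), d ^ 3 = 1 ∧
      ∀ a b c, d (QuotientGroup.mk (ut3 a b c)) = QuotientGroup.mk (ut3 a (w * b) (w * c)) := by
  have e : Matrix.diagonal ![1, 1, w ^ 2] * Matrix.diagonal ![1, 1, w] = 1 := by
    rw [Matrix.diagonal_mul_diagonal, ← Matrix.diagonal_one]
    congr 1
    ext i
    fin_cases i <;> simp [← pow_succ, h3]
  let g : GL (Fin 3) K := ⟨_, _, e, mul_eq_one_comm.1 e⟩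
  refine ⟨Known.innD _ K g, ?_, fun a b c => ?_⟩
  · rw [← map_pow, show g ^ 3 = 1 from Units.ext ?_, map_one]
    rw [Units.val_pow_eq_pow_val, Matrix.diagonal_pow, Units.val_one, ← Matrix.diagonal_one]
    congr 1
    ext i
    fin_cases i
    · simp
    · simp
    · change (w ^ 2) ^ 3 = 1
      rw [← pow_mul, mul_comm, pow_mul, h3, one_pow]
  · rw [Known.innD_mk]
    congr 1
    apply Subtype.ext
    change Matrix.diagonal ![1, 1, w ^ 2] * (ut3 a b c).1 * Matrix.diagonal ![1, 1, w] = _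
    ext i j
    rw [Matrix.mul_diagonal, Matrix.diagonal_mul]
    fin_cases i <;> fin_cases j <;> simp [ut3, mul_comm, ← pow_succ', h3]

theorem mdl_full_of [Finite K] (hK : Nat.card K = 4) {X : Type u} [Group X] [Finite X]
    {π : X →* Matrix.ProjectiveSpecialLinearGroup (Fin 3) K} (surj : Function.Surjective π)
    (cen : π.ker ≤ center X) (card : Nat.card π.ker = 4) (sq : ∀ z ∈ π.ker, z * z = 1)
    (perf : commutator X = ⊤) {S : Subgroup X} {P : Par K S} {b : Prop} (M : Mdl P b)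
    (ha : ∀ t, π (P.a t) = QuotientGroup.mk (ut3 t 0 0))
    (hn : ∀ x y z, π (P.n x y z) = QuotientGroup.mk (ut3 0 x y))
    (hk : ∀ g, π g = 1 → ∃ z, g = P.n 0 0 z) :
    ∃ (X : Type u) (_ : Group X) (_ : Finite X) (S : Subgroup X) (P : Par K S), Mdl P True := by
  classical
  have := Fintype.ofFinite K
  rw [Nat.card_eq_fintype_card] at hK
  obtain ⟨w, hw⟩ : ∃ w : K, w ∉ ({0, 1} : Finset K) := by
    by_contra h
    push Not at h
    have := Finset.card_le_card (fun k _ => h k : Finset.univ ⊆ ({0, 1} : Finset K))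
    have := Finset.card_le_two (a := (0 : K)) (b := 1)
    rw [Finset.card_univ] at *
    omega
  simp only [Finset.mem_insert, Finset.mem_singleton, not_or] at hw
  have h3 : w ^ 3 = 1 := by simpa [hK] using FiniteField.pow_card_sub_one_eq_one w hw.1
  have h2 : (2 : K) = 0 := by
    have := FiniteField.cast_card_eq_zero K
    rw [hK] at this
    exact mul_self_eq_zero.1 (by exact_mod_cast this)
  have hw2 : w ^ 2 + w = 1 := by
    have : (w - 1) * (w ^ 2 + w + 1) = 0 := by linear_combination h3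
    linear_combination (mul_eq_zero.1 this).resolve_left (sub_ne_zero.2 hw.2) - h2
  obtain ⟨d, d3, hd⟩ := exists_diag h3
  obtain ⟨D, hD⟩ := exists_lift (Agent.S2088.result hK) surj cen card sq perf d
  have up : ∀ {g g' : X}, π g = π g' → ∃ z, g = g' * P.n 0 0 z := fun {g g'} h => by
    obtain ⟨z, e⟩ := hk (g'⁻¹ * g) (by rw [map_mul, map_inv, h, inv_mul_cancel])
    exact ⟨z, by rw [← e, mul_inv_cancel_left]⟩
  have Dn : ∀ x y z, ∃ z', D (P.n x y z) = P.n (w * x) (w * y) 0 * P.n 0 0 z' := fun x y z =>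
    up (by rw [hD, hn, hn, hd])
  have cz : ∀ z, P.n 0 0 z ∈ center X := fun z => cen (by
    rw [MonoidHom.mem_ker, hn, ut3_zero, QuotientGroup.mk_one])
  refine mdl_of_aut M D (eq_one_of_lift cen perf fun x => ?_) (fun z => ?_) (fun x y z => ?_)
    ⟨1, fun h => hw.2 ?_⟩
  · simp only [pow_succ, pow_zero, one_mul, MulAut.mul_apply, hD]
    simpa only [pow_succ, pow_zero, one_mul, MulAut.mul_apply, MulAut.one_apply] using
      (MulEquiv.congr_fun d3 (π x) :)
  · obtain ⟨z', e⟩ := Dn 0 0 z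
    exact ⟨z', by rw [e, mul_zero, P.n_zero, one_mul]⟩
  · obtain ⟨z', e⟩ := Dn x y z
    exact ⟨_, _, _, e.trans (P.n_add ..).symm⟩
  · have c : ∀ t x, P.n 0 (t * x) (t ^ 2 * x) = ⁅P.a t, P.n x 0 0⁆ := fun t x => by
      rw [commutatorElement_def, P.comm, mul_inv_cancel_right, eq_mul_inv_iff_mul_eq, ← P.n_add]
      simp
    have k : ∀ t x, D (P.n 0 (t * x) (t ^ 2 * x)) = P.n 0 (t * (w * x)) (t ^ 2 * (w * x)) :=
      fun t x => by
        obtain ⟨z, e⟩ := Dn x 0 0
        obtain ⟨z', e'⟩ := up (g := D (P.a t)) (g' := P.a t) (by rw [hD, ha, hd, mul_zero])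
        rw [c, c, map_commutatorElement, e, e', comm_central _ _ (cz _) (cz _), mul_zero]
    have e : P.n 0 0 1 = P.n 0 (w * 1) (w ^ 2 * 1) * P.n 0 (1 * w) (1 ^ 2 * w) := by
      rw [← P.n_add]
      congr 1
      · simp
      · linear_combination -w * h2
      · linear_combination -hw2
    conv_lhs at h => rw [e, map_mul, k, k, ← P.n_add]
    linear_combination (P.n_inj.1 h).2.2 - w * hw2

end Lift

end Cfsg.Lib.Sp4F
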