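import Cfsg.Agent.Sp4F.Md4
import Cfsg.Agent.Sp4F.Lift

/-! The group `2²·L₃(4)·3` as a model. -/

set_option autoImplicit false

namespace Cfsg.Lib.Sp4F

universe u

variable {K : Type u} [Field K] [Finite K]

theorem mdl_full (hK : Nat.card K = 4) : ∃ (X : Type u) (_ : Group X) (_ : Finite X)
    (S : Subgroup X) (P : Par K S), Mdl P True := by
  obtain ⟨X, _, _, ⟨C⟩⟩ := exists_cov hK
  obtain ⟨S, P, h⟩ := exists_par4 hK C
  exact Lift.mdl_full_of hK C.surj C.cen C.card C.sq C.perf h.mdl h.a h.n fun g => (h.ker g).1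

end Cfsg.Lib.Sp4F
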