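import Cfsg.Agent.Sp4F.Ess2
import Cfsg.Agent.Sp4F.Cmp
import Cfsg.Agent.Sp4F.Md2
import Cfsg.Agent.Sp4F.Md4
import Cfsg.Agent.Sp4F.Md4b
import Cfsg.Agent.Fus.Rk2Pull

/-! Fusion systems over a Sylow `2`-subgroup of `Sp₄(2ⁿ)`: systems in normal form are realizable. -/

set_option autoImplicit false

namespace Cfsg.Lib.Sp4F

open Cfsg Cfsg.FusionSystem Subgroup Equiv Cfsg.Lib.Fus

universe u
variable {K : Type u} [Field K] [Finite K]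

namespace Real

open Cfsg.Lib.Fus.Rk2 Cfsg.Lib.Rank2

theorem card_cases (h4 : ∀ k : K, k ^ 4 = k) : Nat.card K = 2 ∨ Nat.card K = 4 := by
  have h1 : Nat.card Kˣ ∣ 3 := IsCyclic.exponent_eq_card (α := Kˣ) ▸
    Monoid.exponent_dvd_of_forall_pow_eq_one fun g => Units.ext (mul_left_cancel₀ g.ne_zero (by
      rw [Units.val_pow_eq_pow_val, Units.val_one, ← pow_succ', h4, mul_one]))
  rw [Nat.card_units, Nat.dvd_prime Nat.prime_three] at h1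
  omega

omit [Finite K] in
theorem not_full {G : Subgroup (Perm (K × K × K))} (hK : Nat.card K = 2) (ha : Ad G) (hd : Dv G) :
    ¬ Full G := by
  rintro ⟨g, hg, z, h⟩
  obtain ⟨z', e⟩ := hd g hg z
  have h0 : g 0 = 0 := by simpa using ha g hg 0 0
  obtain rfl | hz := eq_or_ne z 0
  · exact h h0
  have hz' : z' ≠ 0 := by
    rintro rfl
    exact hz (congrArg (·.2.2) (g.injective (e.trans h0.symm)))
  exact h (e.trans (by rw [((Nat.card_eq_two_iff' (0 : K)).1 hK).unique hz hz']))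

variable {Ω X : Type*} [Group Ω] [Group X] {S : Subgroup Ω} {T : Subgroup X} {F : FusionSystem S}

omit [Finite K] in
theorem exists_hom (P : Par K S) (P₀ : Par K T) : ∃ j : S →* X, Function.Injective j ∧
    j.range = T ∧ ∀ t x y z, extFun j (P.el t x y z) = P₀.el t x y z := by
  have hi : Function.Injective fun v : K × K × K × K => P.el v.1 v.2.1 v.2.2.1 v.2.2.2 :=
    fun _ _ h => by
      obtain ⟨h1, h2, h3, h4⟩ := P.el_inj.1 h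
      exact Prod.ext h1 (Prod.ext h2 (Prod.ext h3 h4))
  obtain ⟨k, hk⟩ := hi.hasLeftInverse
  obtain ⟨J, hJ⟩ : ∃ J : Ω → X, ∀ t x y z, J (P.el t x y z) = P₀.el t x y z :=
    ⟨fun g => P₀.el (k g).1 (k g).2.1 (k g).2.2.1 (k g).2.2.2, fun t x y z => by
      simp only [hk (t, x, y, z)]⟩
  have hm : MulOn S J := fun a ha b hb => by
    obtain ⟨t, x, y, z, rfl⟩ := P.mem_iff.1 ha
    obtain ⟨t', x', y', z', rfl⟩ := P.mem_iff.1 hb
    rw [P.el_mul, hJ, hJ, hJ, P₀.el_mul]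
  refine ⟨hm.toHom, (injective_iff_map_eq_one _).2 fun ⟨a, ha⟩ h => Subtype.ext ?_, ?_,
    fun t x y z => (extFun_of_mem _ (P.el_mem ..)).trans (hJ ..)⟩
  · obtain ⟨t, x, y, z, rfl⟩ := P.mem_iff.1 ha
    exact (P.el_inj.2 (P₀.el_inj.1 (((hJ ..).symm.trans h).trans P₀.el_zero.symm))).trans P.el_zero
  · ext g
    rw [P₀.mem_iff]
    refine ⟨?_, fun ⟨t, x, y, z, e⟩ => ⟨⟨_, P.el_mem t x y z⟩, (hJ ..).trans e.symm⟩⟩
    rintro ⟨⟨a, ha⟩, rfl⟩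
    obtain ⟨t, x, y, z, rfl⟩ := P.mem_iff.1 ha
    exact ⟨t, x, y, z, hJ ..⟩

omit [Finite K] in
theorem mem_aut_iff [Finite S] {j : S →* X} (h : F.IsRealizedBy j) {P : Par K S} {n : K × K × K → X}
    (e : ∀ v, extFun j (P.nv v) = n v) {φ : Perm (K × K × K)} :
    φ ∈ P.aut F ↔ ∃ g, ∀ v, g * n v * g⁻¹ = n (φ v) := by
  refine ⟨fun ⟨f, hf, e'⟩ => (hf.mor.exists_conj_of_realized h).imp fun g hg v => by
    rw [← e, ← e, ← e', hg _ (P.nv_mem v)], fun ⟨g, hg⟩ => ?_⟩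
  obtain ⟨f, hf, e'⟩ := (mor_pullConj h P.A_le (g := g) fun x hx => by
    obtain ⟨v, rfl⟩ := P.exists_nv hx
    rw [e, hg, ← e]
    exact extFun_mem_range' j (P.A_le (P.nv_mem _))).exists_perm
  have key : ∀ v, f (P.nv v) = P.nv (φ v) := fun v => (e' _ (P.nv_mem v)).trans
    (eq_pullConj h.1 (P.A_le (P.nv_mem _)) (by rw [e, e, hg])).symm
  refine ⟨f, hf.piso_of_maps fun x hx => ?_, key⟩
  obtain ⟨v, rfl⟩ := P.exists_nv hx
  exact key v ▸ P.nv_mem _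

variable [Finite T] {F₀ : FusionSystem T} (h : F₀.IsRealizedBy T.subtype)
include h

omit [Finite K] in
theorem mem_aut₀ {P : Par K T} {φ : Perm (K × K × K)} :
    φ ∈ P.aut F₀ ↔ ∃ g, ∀ v, g * P.nv v * g⁻¹ = P.nv (φ v) :=
  mem_aut_iff h fun v => extFun_of_mem _ (P.A_le (P.nv_mem v))

omit [Finite K] in
theorem exists_aut₀ (P : Par K T) {g : X} (hg : ∀ a ∈ P.A, g * a * g⁻¹ ∈ P.A) :
    ∃ φ ∈ P.aut F₀, ∀ v, g * P.nv v * g⁻¹ = P.nv (φ v) :=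
  P.exists_aut (f := cj g) (Mor.piso_of_maps ((mor_iff_of_realized h).2 ⟨P.A_le,
    fun x hx => P.A_le (hg x hx), g, fun x hx => by
      rw [extFun_of_mem _ (P.A_le hx), cj_apply, extFun_of_mem _ (P.A_le (hg x hx))]
      rfl⟩) hg)

omit [Finite K] in
theorem of_mdl [CharP K 2] (h4 : ∀ k : K, k ^ 4 = k) {P : Par K T} {b : Prop} (M : Mdl P b) :
    Mv (P.aut F₀) ∧ Dv (P.aut F₀) ∧ Mv ((P.sw h4).aut F₀) ∧ Dv ((P.sw h4).aut F₀) ∧
      (Full (P.aut F₀) ↔ b) := by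
  have ex : ∀ g, (∀ x y z, ∃ x' y' z', g * P.n x y z * g⁻¹ = P.n x' y' z') →
      ∃ φ ∈ P.aut F₀, ∀ v, g * P.nv v * g⁻¹ = P.nv (φ v) := fun g hg => exists_aut₀ h P (by
    rintro _ ⟨x, y, z, rfl⟩
    exact hg x y z)
  refine ⟨?_, fun φ hφ z => ?_, ?_, fun φ hφ z => ?_, ?_⟩
  · obtain ⟨g, hg, y, z, x', y', z', hx, e⟩ := M.mvA
    obtain ⟨φ, hφ, e'⟩ := ex g hg
    exact ⟨φ, hφ, y, z, (P.n_inj.1 ((e' (0, y, z)).symm.trans e)).1 ▸ hx⟩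
  · obtain ⟨g, hg⟩ := (mem_aut₀ h).1 hφ
    obtain ⟨z', e⟩ := M.nrm g z
    exact ⟨z', P.nv_inj ((hg (0, 0, z)).symm.trans e)⟩
  · obtain ⟨g, hg, y, z, t', y', z', ht, e⟩ := M.mvB
    obtain ⟨φ, hφ, e'⟩ := exists_aut₀ h (P.sw h4) (g := g) (by
      rintro _ ⟨x, y, z, rfl⟩
      obtain ⟨t', y', z', e⟩ := hg x y (z ^ 2)
      exact (show _ = P.el t' 0 y' z' from e) ▸ (P.el_mem_sw_A h4).2 rfl)
    have e2 : (P.sw h4).nv (0, y, z ^ 2) = P.n 0 y z := by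
      rw [P.n_eq, ← h4 z, show z ^ 4 = (z ^ 2) ^ 2 by ring]
      simp only [Par.nv, Par.sw_n, ← pow_mul, h4]
    have e3 := e' (0, y, z ^ 2)
    rw [e2, e] at e3
    exact ⟨φ, hφ, y, z ^ 2, (P.el_inj.1 e3).1 ▸ ht⟩
  · obtain ⟨g, hg⟩ := (mem_aut₀ h).1 hφ
    obtain ⟨z', e⟩ := M.nrm g (z ^ 2)
    rw [P.n_eq, P.n_eq] at e
    obtain ⟨h1, -, h2, -⟩ := P.el_inj.1 ((hg (0, 0, z)).symm.trans e)
    exact ⟨_, Prod.ext h1 (Prod.ext h2 rfl)⟩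
  · rw [M.full]
    refine ⟨fun ⟨φ, hφ, z, hz⟩ => ?_, fun ⟨g, hg, z, hz⟩ => ?_⟩
    · obtain ⟨g, hg⟩ := (mem_aut₀ h).1 hφ
      exact ⟨g, fun x y z => ⟨_, _, _, hg (x, y, z)⟩, z,
        fun e => hz (P.nv_inj ((hg (0, 0, z)).symm.trans e))⟩
    · obtain ⟨φ, hφ, e⟩ := ex g hg
      exact ⟨φ, hφ, z, fun e' => hz ((e (0, 0, z)).trans (congrArg P.nv e'))⟩

end Real

open Sp4F.Real Cfsg.Lib.Fus.Rk2 Cfsg.Lib.Rank2 in
theorem realizable_of_gd [CharP K 2] {Ω : Type*} [Group Ω] {S : Subgroup Ω} [Finite S]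
    {F : FusionSystem S} (h4 : ∀ k : K, k ^ 4 = k) (P : Par K S) (hS : IsPGroup 2 S)
    (hF : F.IsSaturated 2) (g1 : Gd F P) (g2 : Gd F (P.sw h4)) : F.IsRealizable 2 := by
  obtain ⟨X, _, _, T, P₀, M⟩ : ∃ (X : Type u) (_ : Group X) (_ : Finite X)
      (T : Subgroup X) (P₀ : Par K T), Mdl P₀ (Full (P.aut F)) := by
    by_cases hf : Full (P.aut F)
    · rw [eq_true hf]
      exact mdl_full ((card_cases h4).resolve_left fun h => not_full h (P.ad_aut F) g1.2 hf)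
    · rw [eq_false hf]
      exact (card_cases h4).elim mdl_two mdl_four
  obtain ⟨j₀, hj₀, hr₀, -⟩ := exists_hom P P₀
  have hT : IsPGroup 2 T := hr₀ ▸ hS.of_equiv (MonoidHom.ofInjective hj₀)
  let E₀ : SylEmb T X := ⟨T.subtype, T.subtype_injective, by rw [range_subtype]; exact M.odd⟩
  have h₀ : (pullE E₀).IsRealizedBy T.subtype := pullE_realized E₀
  obtain ⟨m1, d1, m2, d2, hf⟩ := of_mdl h₀ h4 M
  obtain ⟨P₁, k1, k2, hf'⟩ := exists_gd h4 P₀ hT (pullE_saturated hT E₀) m1 d1 m2 d2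
  obtain ⟨j, hj, hr, e⟩ := exists_hom P P₁
  let E : SylEmb S X := ⟨j, hj, hr ▸ M.odd⟩
  have h : (pullE E).IsRealizedBy j := pullE_realized E
  have a1 : P.aut (pullE E) = P₁.aut (pullE E₀) := Subgroup.ext fun φ =>
    (mem_aut_iff h fun v => by rw [Par.nv, Par.nv, P.n_eq, P₁.n_eq, e]).trans (mem_aut₀ h₀).symm
  have a2 : (P.sw h4).aut (pullE E) = (P₁.sw h4).aut (pullE E₀) := Subgroup.ext fun φ =>
    (mem_aut_iff h (P := P.sw h4) (n := (P₁.sw h4).nv) fun v => e v.1 0 v.2.1 (v.2.2 ^ 2)).trans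
      (mem_aut₀ h₀).symm
  have l1 : Gd (pullE E) P := by rwa [Gd, a1]
  have l2 : Gd (pullE E) (P.sw h4) := by rwa [Gd, a2]
  have hE := pullE_saturated hS E
  rw [← a1, hf] at hf'
  exact realizable_of_emb hS E (fus_le_antisymm (le_of_gd h4 P hS hE hF l1 l2 g1 g2 hf'.1)
    (le_of_gd h4 P hS hF hE g1 g2 l1 l2 hf'.2) ▸ h)

end Cfsg.Lib.Sp4F
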