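import Cfsg.Agent.Sp4F.Defs
import Cfsg.Agent.Fus.R3Sp4

/-! Coordinates on a Sylow subgroup of `Sp₄(q)` in the defining characteristic. -/

set_option autoImplicit false

namespace Cfsg.Lib.Sp4F

open Cfsg Subgroup Cfsg.Lib.Fus Cfsg.Lib.Fus.R3.Sp4Rec Cfsg.Lib.Class

universe u

namespace Syl

variable {K : Type u} [Field K]

theorem yy_nn' (t a b c : K) :
    yy t * nn a b c = nn (a + 2 * t * b + t ^ 2 * c) (b + t * c) c * yy t := by
  apply Subtype.ext
  simp only [yy, nn, Submonoid.coe_mul, Matrix.fromBlocks_multiply]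
  congr 1 <;> ext i j <;> fin_cases i <;> fin_cases j <;> simp <;> ring

theorem inj' {t x y z : K} (h : nn z y x * yy t = 1) : t = 0 ∧ x = 0 ∧ y = 0 ∧ z = 0 := by
  have e : ∀ i j, ((nn z y x * yy t : Matrix.symplecticGroup (Fin 2) K) :
      Matrix (Fin 2 ⊕ Fin 2) (Fin 2 ⊕ Fin 2) K) i j =
      (1 : Matrix (Fin 2 ⊕ Fin 2) (Fin 2 ⊕ Fin 2) K) i j := fun i j => by rw [h]; rfl
  have e1 := e (Sum.inl 0) (Sum.inl 1)
  have e2 := e (Sum.inl 1) (Sum.inr 1)
  have e3 := e (Sum.inl 0) (Sum.inr 1)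
  have e4 := e (Sum.inl 0) (Sum.inr 0)
  simp [yy, nn, Matrix.fromBlocks_multiply] at e1 e2 e3 e4
  subst e1 e2 e3
  exact ⟨rfl, rfl, rfl, by simpa using e4⟩

/-- The unipotent subgroup. -/
def U (K : Type u) [Field K] : Subgroup (Matrix.symplecticGroup (Fin 2) K) where
  carrier := {g | ∃ t x y z, g = nn z y x * yy t}
  one_mem' := ⟨0, 0, 0, 0, by rw [nn_zero, yy_zero, one_mul]⟩
  mul_mem' := by
    rintro _ _ ⟨t, x, y, z, rfl⟩ ⟨t', x', y', z', rfl⟩
    exact ⟨_, _, _, _, by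
      rw [mul_assoc, ← mul_assoc (yy t), yy_nn', ← mul_assoc, ← mul_assoc, nn_mul, mul_assoc,
        yy_mul]⟩
  inv_mem' := by
    rintro _ ⟨t, x, y, z, rfl⟩
    have h1 : (yy t)⁻¹ = yy (-t) :=
      inv_eq_of_mul_eq_one_right (by rw [yy_mul, add_neg_cancel, yy_zero])
    have h2 : (nn z y x)⁻¹ = nn (-z) (-y) (-x) :=
      inv_eq_of_mul_eq_one_right (by rw [nn_mul, ← nn_zero]; simp)
    exact ⟨_, _, _, _, by rw [mul_inv_rev, h1, h2, yy_nn']⟩

/-- Coordinates on the unipotent subgroup. -/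
def parU (K : Type u) [Field K] : Par K (U K) where
  a := yy
  n x y z := nn z y x
  a_add t t' := (yy_mul t t').symm
  n_add _ _ _ _ _ _ := (nn_mul ..).symm
  comm t x y z := yy_nn' t z y x
  inj _ _ _ _ h := inj' h
  mem _ := Iff.rfl

theorem card_of_par {Ω : Type*} [Group Ω] {S : Subgroup Ω} (P : Par K S) :
    Nat.card S = Nat.card K ^ 4 := by
  have : Function.Bijective fun v : K × K × K × K =>
      (⟨P.el v.1 v.2.1 v.2.2.1 v.2.2.2, P.el_mem ..⟩ : S) := by
    refine ⟨fun v w h => ?_, ?_⟩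
    · obtain ⟨h1, h2, h3, h4⟩ := P.el_inj.1 (congrArg Subtype.val h)
      exact Prod.ext h1 (Prod.ext h2 (Prod.ext h3 h4))
    · rintro ⟨g, hg⟩
      obtain ⟨t, x, y, z, rfl⟩ := P.mem_iff.1 hg
      exact ⟨(t, x, y, z), rfl⟩
  rw [← Nat.card_eq_of_bijective _ this]
  simp only [Nat.card_prod]
  ring

/-- Transport of coordinates along an isomorphism. -/
def parMap {Ω Ω' : Type*} [Group Ω] [Group Ω'] {S : Subgroup Ω} {S' : Subgroup Ω'} (P : Par K S')
    (e : S' ≃* S) : Par K S where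
  a t := e ⟨P.a t, P.a_eq t ▸ P.el_mem ..⟩
  n x y z := e ⟨P.n x y z, P.n_eq x y z ▸ P.el_mem ..⟩
  a_add t t' := by
    rw [← coe_mul, ← map_mul]
    exact congrArg (fun s => ((e s : S) : Ω)) (Subtype.ext (P.a_add t t'))
  n_add _ _ _ _ _ _ := by
    rw [← coe_mul, ← map_mul]
    exact congrArg (fun s => ((e s : S) : Ω)) (Subtype.ext (P.n_add ..))
  comm t x y z := by
    rw [← coe_mul, ← map_mul, ← coe_mul, ← map_mul]
    exact congrArg (fun s => ((e s : S) : Ω)) (Subtype.ext (P.comm ..))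
  inj t x y z h := by
    rw [← coe_mul, ← map_mul, OneMemClass.coe_eq_one, map_eq_one_iff _ e.injective] at h
    exact P.inj _ _ _ _ (congrArg Subtype.val h)
  mem g := by
    constructor
    · intro hg
      obtain ⟨t, x, y, z, h⟩ := (P.mem _).1 (e.symm ⟨g, hg⟩).2
      refine ⟨t, x, y, z, ?_⟩
      rw [← coe_mul, ← map_mul]
      have : (⟨g, hg⟩ : S) = e (e.symm ⟨g, hg⟩) := (e.apply_symm_apply _).symm
      rw [show g = ((⟨g, hg⟩ : S) : Ω) from rfl, this]
      exact congrArg (fun s => ((e s : S) : Ω)) (Subtype.ext h)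
    · rintro ⟨t, x, y, z, rfl⟩
      exact S.mul_mem (SetLike.coe_mem _) (SetLike.coe_mem _)

end Syl

variable {K : Type u} [Field K] [Finite K] {p : ℕ} [Fact p.Prime]

theorem exists_par {Ω : Type*} [Group Ω] {S : Subgroup Ω} [CharP K p]
    (T : Sylow p (Matrix.symplecticGroup (Fin 2) K))
    (e : S ≃* (T : Subgroup (Matrix.symplecticGroup (Fin 2) K))) : Nonempty (Par K S) := by
  have hp : p.Prime := Fact.out
  letI := Fintype.ofFinite K
  obtain ⟨n, -, hn⟩ := FiniteField.card K p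
  have hq : p ∣ Fintype.card K := hn ▸ dvd_pow_self p n.ne_zero
  obtain ⟨f⟩ := FusH.nonempty_equiv_of_card T (U := Syl.U K) (k := n * 4)
    (m := (Fintype.card K ^ 2 - 1) * (Fintype.card K ^ 4 - 1))
    (by rw [Syl.card_of_par (Syl.parU K), Nat.card_eq_fintype_card, hn, pow_mul])
    (by
      rw [card_symplecticGroup, pow_mul, ← hn]
      simp [spOrd, Finset.prod_range_succ])
    (fun h => ((Nat.Prime.dvd_mul hp).1 h).elim
      (FusH.not_dvd_pow_sub_one hp hq Fintype.card_pos two_ne_zero)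
      (FusH.not_dvd_pow_sub_one hp hq Fintype.card_pos four_ne_zero))
  exact ⟨Syl.parMap (Syl.parU K) (e.trans f).symm⟩

end Cfsg.Lib.Sp4F
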