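import Cfsg.Agent.Sp4F.Defs

/-! Fusion systems over a Sylow subgroup of `Sp₄(q)`: the automiser of `A` in coordinates. -/

set_option autoImplicit false

namespace Cfsg.Lib.Sp4F.Par

open Cfsg Cfsg.FusionSystem Subgroup Equiv Cfsg.Lib.Fus Cfsg.Lib.Fus.Ess

variable {K : Type*} [Field K] {Ω : Type*} [Group Ω] {S : Subgroup Ω} (P : Par K S)
  {F : FusionSystem S} {p : ℕ}

theorem conj_nv (t x y z : K) (v : K × K × K) :
    P.el t x y z * P.nv v * (P.el t x y z)⁻¹ = P.nv (u3 t v) := by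
  obtain ⟨x', y', z'⟩ := v
  simp only [nv, n_eq, el_inv, el_mul, el_inj, u3_apply]
  exact ⟨by ring, by ring, by ring, by ring⟩

theorem le_normalizer_A [Finite S] : S ≤ normalizer (P.A : Set Ω) := fun s hs => by
  have := finite_of_le P.A_le
  refine mem_normalizer_fintype fun g hg => ?_
  obtain ⟨t, x, y, z, rfl⟩ := P.mem_iff.1 hs
  obtain ⟨v, rfl⟩ := P.exists_nv hg
  exact P.conj_nv t x y z v ▸ P.nv_mem _

/-- Coordinates on `A`. -/
noncomputable def eqv : (K × K × K) ≃ P.A :=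
  Equiv.ofBijective (fun v => ⟨P.nv v, P.nv_mem v⟩) ⟨fun _ _ h => P.nv_inj (congrArg Subtype.val h),
    fun g => (P.exists_nv g.2).imp fun _ h => Subtype.ext h.symm⟩

/-- Automorphisms of `A` in coordinates. -/
noncomputable def co : MulAut P.A →* Perm (K × K × K) :=
  P.eqv.symm.permCongrHom.toMonoidHom.comp (MulAut.toPerm _)

theorem nv_co (α : MulAut P.A) (v : K × K × K) : P.nv (P.co α v) = pext P.A α (P.nv v) := by
  rw [pext_of_mem _ (P.nv_mem v)]
  exact congrArg Subtype.val (P.eqv.apply_symm_apply (α (P.eqv v)))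

theorem co_inj : Function.Injective P.co := fun α β h => aut_ext_pext fun x hx => by
  obtain ⟨v, rfl⟩ := P.exists_nv hx
  rw [← nv_co, ← nv_co, h]

theorem exists_aut {f : Perm Ω} (hf : PIso F f P.A P.A) :
    ∃ φ ∈ P.aut F, ∀ v, f (P.nv v) = P.nv (φ v) :=
  have e : ∀ v, f (P.nv v) = P.nv (P.co hf.aut v) := fun v => by
    rw [nv_co, hf.pext_aut (P.nv_mem v)]
  ⟨_, ⟨f, hf, e⟩, e⟩

theorem aut_eq : P.aut F = (F.autGroup P.A).map P.co := by
  ext φ
  refine ⟨fun ⟨f, hf, e⟩ => ⟨hf.aut, hf.aut_mem, Equiv.ext fun v => P.nv_inj ?_⟩, ?_⟩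
  · rw [nv_co, hf.pext_aut (P.nv_mem v), e]
  · rintro ⟨α, hα, rfl⟩
    exact ⟨_, piso_pext_of_mem P.A_le hα, fun v => (P.nv_co α v).symm⟩

theorem co_mem_UT {α : MulAut P.A} : P.co α ∈ UT K ↔ α ∈ autInducedBy S P.A := by
  rw [mem_autInducedBy_pext]
  refine ⟨fun ⟨t, h⟩ => ⟨_, P.el_mem t 0 0 0, fun g hg => ?_⟩, fun ⟨s, hs, h⟩ => ?_⟩
  · obtain ⟨v, rfl⟩ := P.exists_nv hg
    rw [← nv_co, h, conj_nv]
  · obtain ⟨t, x, y, z, rfl⟩ := P.mem_iff.1 hs
    exact ⟨t, Equiv.ext fun v => P.nv_inj (by rw [nv_co, h _ (P.nv_mem v), conj_nv])⟩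

theorem co_conjAut [Finite S] (t x y z : K) :
    P.co (conjAut P.A _ (P.le_normalizer_A (P.el_mem t x y z))) = u3 t :=
  Equiv.ext fun v => P.nv_inj (by rw [nv_co, pext_conjAut _ (P.nv_mem v), conj_nv])

theorem UT_eq [Finite S] : UT K = (autInducedBy S P.A).map P.co := by
  ext φ
  refine ⟨?_, by rintro ⟨α, hα, rfl⟩; exact P.co_mem_UT.2 hα⟩
  rintro ⟨t, rfl⟩
  exact ⟨_, conjAut_mem_autInducedBy (P.el_mem t 0 0 0) _, P.co_conjAut ..⟩

variable [Finite S] [Fact p.Prime]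

theorem sylIn_aut (hS : IsPGroup p S) (hF : F.IsSaturated p) : SylIn p (UT K) (P.aut F) := by
  have := finite_autGroup F P.A_le
  rw [aut_eq, P.UT_eq]
  exact (sat_sylIn hS hF (isFullyNormalized_of_le_normalizer P.A_le P.le_normalizer_A)).map _

/-- An automorphism of `A` normalising `Aut_S(A)` extends to `S`. -/
theorem exists_ext (hS : IsPGroup p S) (hF : F.IsSaturated p) {φ : Perm (K × K × K)}
    (hφ : φ ∈ P.aut F) (h : ∀ t, φ * u3 t * φ⁻¹ ∈ UT K) :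
    ∃ f, PIso F f S S ∧ ∀ v, f (P.nv v) = P.nv (φ v) := by
  rw [aut_eq] at hφ
  obtain ⟨α, hα, rfl⟩ := hφ
  obtain ⟨g, hg, e⟩ := exists_ext_aut
    (sat_receptive hS hF (isFullyNormalized_of_le_normalizer P.A_le P.le_normalizer_A)) hα
    (U := S) (fun s hs => ⟨hs, P.le_normalizer_A hs⟩) fun s hs => by
      obtain ⟨t, x, y, z, rfl⟩ := P.mem_iff.1 hs
      rw [← co_mem_UT, map_mul, map_mul, map_inv, co_conjAut]
      exact h t
  exact ⟨g, hg.piso_top, fun v => by rw [e _ (P.nv_mem v), nv_co]⟩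

theorem not_le_normalizer (hS : IsPGroup p S) (hE : F.IsEssential p P.A) :
    ¬ P.aut F ≤ normalizer (UT K : Set (Perm (K × K × K))) := fun h => by
  refine one_ne_zero (P.el_mem_A.1 (radIn_of_essential hS hE _ (P.el_mem 1 0 0 0)
    (P.le_normalizer_A (P.el_mem ..)) (le_pCoreIn (autInducedBy_le_autGroup F P.A_le)
      (isPGroup_autInducedBy hS _) (fun a ha x hx => ?_)
      (conjAut_mem_autInducedBy (P.el_mem ..) _))))
  rw [← co_mem_UT, map_mul, map_mul, map_inv]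
  exact (mem_normalizer_iff.1 (h (P.aut_eq ▸ mem_map_of_mem _ ha)) _).1 (P.co_mem_UT.2 hx)

end Cfsg.Lib.Sp4F.Par
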