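import Cfsg.Agent.Sp4F.Bas

/-! Changes of coordinates on a Sylow `2`-subgroup of `Sp₄(2ⁿ)`. -/

set_option autoImplicit false

namespace Cfsg.Lib.Sp4F

open Cfsg Cfsg.FusionSystem Subgroup Equiv Cfsg.Lib.Fus

variable {K : Type*} [Field K] {Ω : Type*} [Group Ω] {S : Subgroup Ω}

/-- `F` is in normal form on `A`. -/
def Gd (F : FusionSystem S) (P : Par K S) : Prop := Nm (P.aut F) 0 0 ∧ Dv (P.aut F)

namespace Par

variable [CharP K 2] (P : Par K S)

/-- Shift by a central automorphism. -/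
def sh (α β : K →+ K) : Par K S where
  a := P.a
  n x y z := P.n x (y + α x) (z + β x)
  a_add := P.a_add
  n_add x y z x' y' z' := by rw [← P.n_add, map_add, map_add]; congr 1 <;> ring
  comm t x y z := by
    rw [P.comm]
    congr 2
    · ring
    · linear_combination (t * α x) * CharTwo.two_eq_zero (R := K)
  inj t x y z h := by
    obtain ⟨h1, rfl, h3, h4⟩ := P.inj _ _ _ _ h
    exact ⟨h1, rfl, by simpa using h3, by simpa using h4⟩
  mem g := (P.mem g).trans ⟨fun ⟨t, x, y, z, h⟩ => ⟨t, x, y - α x, z - β x, by simpa using h⟩,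
    fun ⟨_, _, _, _, h⟩ => ⟨_, _, _, _, h⟩⟩

theorem sh_n (α β : K →+ K) (x y z : K) :
    (P.sh α β).n x y z = P.n x (y + α x) (z + β x) := rfl

theorem sh_a (α β : K →+ K) (t : K) : (P.sh α β).a t = P.a t := rfl

/-- Interchange of the two maximal elementary abelian subgroups, `q ≤ 4`. -/
def sw (h4 : ∀ k : K, k ^ 4 = k) : Par K S where
  a t := P.el 0 t 0 0
  n x y z := P.el x 0 y (z ^ 2)
  a_add t t' := by simp [el_mul]
  n_add x y z x' y' z' := by
    simp only [el_mul, el_inj]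
    exact ⟨trivial, by ring, by ring,
      by linear_combination (z * z' - x * y') * CharTwo.two_eq_zero (R := K)⟩
  comm t x y z := by
    have h2 := CharTwo.two_eq_zero (R := K)
    simp only [el_mul, el_inj]
    exact ⟨by ring, by ring, by linear_combination -(t * x) * h2, by
      linear_combination -(x ^ 2 * t + (z + 2 * t * y + t ^ 2 * x) * (2 * t * y) + z * t ^ 2 * x -
        2 * t ^ 2 * y ^ 2) * h2 - x ^ 2 * h4 t⟩
  inj t x y z h := by
    rw [el_mul, ← P.el_zero, el_inj] at h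
    obtain ⟨h1, h2, h3, h4⟩ := h
    obtain rfl : x = 0 := by simpa using h1
    exact ⟨by simpa using h2, rfl, by simpa using h3, by simpa using h4⟩
  mem g := by
    have h2 := CharTwo.two_eq_zero (R := K)
    simp only [P.mem_iff, el_mul]
    refine ⟨fun ⟨t, x, y, z, h⟩ => ⟨x, t, y - t * x, (z - t ^ 2 * x) ^ 2, h.trans (P.el_inj.2
      ⟨by ring, by ring, by ring, ?_⟩)⟩, fun ⟨_, _, _, _, h⟩ => ⟨_, _, _, _, h⟩⟩
    rw [← pow_mul, h4]
    ring

theorem sw_a (h4 : ∀ k : K, k ^ 4 = k) (t : K) : (P.sw h4).a t = P.el 0 t 0 0 := rfl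

theorem sw_n (h4 : ∀ k : K, k ^ 4 = k) (x y z : K) :
    (P.sw h4).n x y z = P.el x 0 y (z ^ 2) := rfl

theorem sw_sw_n (h4 : ∀ k : K, k ^ 4 = k) (x y z : K) :
    ((P.sw h4).sw h4).n x y z = P.n x y z := by
  rw [sw_n, el, sw_n, sw_a, el_mul, n_eq, ← pow_mul, h4]
  simp

/-- Interchange of the two maximal elementary abelian subgroups and of the two root subgroups
in the centre. -/
def sw0 [Finite K] : Par K S where
  a t := P.el 0 (t ^ 2) 0 0
  n x y z := P.el x 0 z (y ^ 2)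
  a_add t t' := by simp [el_mul, CharTwo.add_sq]
  n_add x y z x' y' z' := by
    simp only [el_mul, el_inj]
    exact ⟨trivial, by ring, by ring,
      by linear_combination (y * y' - x * z') * CharTwo.two_eq_zero (R := K)⟩
  comm t x y z := by
    have h2 := CharTwo.two_eq_zero (R := K)
    simp only [el_mul, el_inj]
    exact ⟨by ring, by ring, by linear_combination -(t * y + t ^ 2 * x) * h2, by
      linear_combination -(x ^ 2 * t ^ 2 + y * t * x) * h2⟩
  inj t x y z h := by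
    rw [el_mul, ← P.el_zero, el_inj] at h
    obtain ⟨h1, h2, h3, h4⟩ := h
    obtain rfl : x = 0 := by simpa using h1
    exact ⟨by simpa using h2, rfl, by simpa using h4, by simpa using h3⟩
  mem g := by
    simp only [P.mem_iff, el_mul]
    refine ⟨fun ⟨t, x, y, z, h⟩ => ?_, fun ⟨_, _, _, _, h⟩ => ⟨_, _, _, _, h⟩⟩
    obtain ⟨r, rfl⟩ := surjective_frobenius K 2 x
    obtain ⟨s, hs⟩ := surjective_frobenius K 2 (z - t ^ 2 * r ^ 2)
    rw [frobenius_def] at h hs
    exact ⟨r, t, s, y - t * r ^ 2, h.trans (P.el_inj.2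
      ⟨by ring, by ring, by ring, by linear_combination -hs⟩)⟩

theorem sw0_a [Finite K] (t : K) : P.sw0.a t = P.el 0 (t ^ 2) 0 0 := rfl

theorem sw0_n [Finite K] (x y z : K) : P.sw0.n x y z = P.el x 0 z (y ^ 2) := rfl

theorem el_mem_sw0_A [Finite K] {t x y z : K} : P.el t x y z ∈ P.sw0.A ↔ x = 0 := by
  simp only [mem_A, sw0_n, el_inj]
  obtain ⟨s, rfl⟩ := surjective_frobenius K 2 z
  exact ⟨fun ⟨_, _, _, _, h, _⟩ => h, fun h => ⟨_, s, _, rfl, h, rfl, rfl⟩⟩

theorem el_mem_sw_A (h4 : ∀ k : K, k ^ 4 = k) {t x y z : K} :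
    P.el t x y z ∈ (P.sw h4).A ↔ x = 0 := by
  simp only [mem_A, sw_n, el_inj]
  exact ⟨fun ⟨_, _, _, _, h, _⟩ => h,
    fun h => ⟨_, _, z ^ 2, rfl, h, rfl, by rw [← pow_mul, h4]⟩⟩

end Par

end Cfsg.Lib.Sp4F
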