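import Cfsg.Agent.Sp4F.Lin2
import Cfsg.Agent.Sp4F.Sw
import Cfsg.Agent.Fus.Coprime

/-! Fusion systems over a Sylow `2`-subgroup of `Sp₄(q)`, `q ≤ 4`: the automiser of `S`. -/

set_option autoImplicit false
set_option linter.unusedSectionVars false

namespace Cfsg.Lib.Sp4F.Cmp

open Cfsg Cfsg.FusionSystem Subgroup Equiv Cfsg.Lib.Fus Cfsg.Lib.Sp4F.Lin2

universe u

variable {K : Type u} [Field K] [Finite K] [CharP K 2] {Ω : Type*} [Group Ω] {S : Subgroup Ω}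
  [Finite S] {F F' : FusionSystem S} {f g : Perm Ω} {l m l' m' : K}

theorem cube (h4 : ∀ k : K, k ^ 4 = k) (hl : l ≠ 0) : l ^ 3 = 1 :=
  mul_left_cancel₀ hl (by linear_combination h4 l)

theorem semi (h4 : ∀ k : K, k ^ 4 = k) {L θ : K → K} (ha : ∀ a b, θ (a + b) = θ a + θ b)
    (hm : ∀ a b, θ (a * b) = θ a * θ b) (h1 : θ 1 = 1) (hL : ∀ x, L x = l * θ x) {k : ℕ}
    (hk : Odd k) (e : ∀ x, L^[k] x = x) (x : K) : L x = l * x := by
  have h2 := two (K := K)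
  have h0 : θ 0 = 0 := by simpa using ha 0 0
  have a1 : ∀ x, θ (θ x) = x := fun x => by
    have b1 : θ (x * x + x) = x * x + x := by
      rcases mul_eq_zero.1 (show (x * x + x) * (x * x + x - 1) = 0 by
        linear_combination h4 x + (x ^ 3) * h2) with e | e
      · rw [e, h0]
      · rw [sub_eq_zero.1 e, h1]
    rw [ha, hm] at b1
    rcases mul_eq_zero.1 (show (θ x - x) * (θ x - (x + 1)) = 0 by
      linear_combination b1 + (x * x + x - θ x * x - θ x) * h2) with e | e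
    · rw [sub_eq_zero.1 e, sub_eq_zero.1 e]
    · rw [sub_eq_zero.1 e, ha, sub_eq_zero.1 e, h1]
      linear_combination h2
  obtain ⟨j, rfl⟩ := hk
  have a2 : ∀ j x, L^[2 * j] x = (l * θ l) ^ j * x := fun j => by
    induction j with
    | zero => simp
    | succ j ih =>
      intro x
      rw [mul_add, Function.iterate_add_apply, ih, mul_one, Function.iterate_succ_apply,
        Function.iterate_one, hL, hL, hm, a1]
      ring
  have a3 : ∀ x, (l * θ l) ^ j * L x = x := fun x => by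
    rw [← a2, ← Function.iterate_succ_apply]; exact e x
  have a4 := a3 1
  rw [hL, h1] at a4
  linear_combination l * a3 x - L x * a4

variable (P : Par K S)

/-- The action on `S / Z(S)`. -/
def Tp (f : Perm Ω) (l m : K) : Prop :=
  l ≠ 0 ∧ m ≠ 0 ∧ ∀ t x y z, ∃ y' z', f (P.el t x y z) = P.el (l * t) (m * x) y' z'

/-- Automorphisms of `S` preserve `A`. -/
def MA (F : FusionSystem S) : Prop := ∀ f, PIso F f S S → ∀ g ∈ P.A, f g ∈ P.A

variable {P}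

theorem Tp.mul (h : Tp P f l m) (h' : Tp P g l' m') : Tp P (g * f) (l' * l) (m' * m) :=
  ⟨mul_ne_zero h'.1 h.1, mul_ne_zero h'.2.1 h.2.1, fun t x y z => by
    obtain ⟨y', z', e⟩ := h.2.2 t x y z
    rw [Perm.mul_apply, e, mul_assoc, mul_assoc]
    exact h'.2.2 ..⟩

theorem cj_el {s : Ω} (hs : s ∈ S) (t x y z : K) :
    ∃ y' z', s * P.el t x y z * s⁻¹ = P.el t x y' z' := by
  obtain ⟨t', x', y', z', rfl⟩ := P.mem_iff.1 hs
  rw [P.el_inv, P.el_mul, P.el_mul]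
  exact ⟨_, _, P.el_inj.2 ⟨by ring, by ring, rfl, rfl⟩⟩

theorem tp_cj {s : Ω} (hs : s ∈ S) : Tp P (cj s) 1 1 :=
  ⟨one_ne_zero, one_ne_zero, fun t x y z => by simpa using cj_el hs t x y z⟩

theorem comm_eq (t x : K) :
    P.el t 0 0 0 * P.el 0 x 0 0 = P.el 0 0 (t * x) (t ^ 2 * x) * P.el 0 x 0 0 * P.el t 0 0 0 := by
  simp [P.el_mul]

theorem img_comm (hf : PIso F f S S) {t x t' x' y₁ z₁ y₂ z₂ : K}
    (e1 : f (P.el t 0 0 0) = P.el t' 0 y₁ z₁) (e2 : f (P.el 0 x 0 0) = P.el 0 x' y₂ z₂) :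
    f (P.el 0 0 (t * x) (t ^ 2 * x)) = P.el 0 0 (t' * x') (t' ^ 2 * x') := by
  have := congrArg f (comm_eq (P := P) t x)
  rw [hf.map_mul (P.el_mem ..) (P.el_mem ..), hf.map_mul (mul_mem (P.el_mem ..) (P.el_mem ..))
    (P.el_mem ..), hf.map_mul (P.el_mem ..) (P.el_mem ..), e1, e2, mul_assoc,
    ← mul_inv_eq_iff_eq_mul] at this
  rw [← this, P.el_mul, P.el_mul, P.el_inv, P.el_mul, P.el_inj]
  have h2 := two (K := K)
  refine ⟨?_, ?_, ?_, ?_⟩ <;> grind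

theorem res (hA : MA P F) (hf : PIso F f S S) : ∃ φ ∈ P.aut F, ∀ v, f (P.nv v) = P.nv (φ v) :=
  P.exists_aut ((hf.mor.restrict P.A_le).piso_of_maps (hA f hf))

theorem dv_el (hA : MA P F) (hd : Dv (P.aut F)) (hf : PIso F f S S) (z : K) :
    ∃ z', f (P.el 0 0 0 z) = P.el 0 0 0 z' := by
  obtain ⟨φ, h1, h2⟩ := res hA hf
  obtain ⟨z', e⟩ := hd φ h1 z
  exact ⟨z', by simpa only [e, Par.nv, P.n_eq] using h2 (0, 0, z)⟩

theorem el_split (t x y z : K) :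
    P.el t x y z = P.el 0 x 0 0 * (P.el 0 0 y 0 * P.el 0 0 0 z) * P.el t 0 0 0 := by
  simp [P.el_mul]

variable (h4 : ∀ k : K, k ^ 4 = k) (hS : IsPGroup 2 S) (hF : F.IsSaturated 2)
include h4

include hS hF in
theorem exists_tp (hA : MA P F) (hB : MA (P.sw h4) F) (hd : Dv (P.aut F)) (hf : PIso F f S S) :
    ∃ l m, Tp P f l m := by
  refine piso_induction (sat_automized hS hF (isFullyNormalized_top F))
    (Ψ := fun f => ∃ l m, Tp P f l m) ?_ ?_ ?_ (fun s hs => ⟨1, 1, tp_cj hs.1⟩) f hf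
  · rintro f g - ⟨l, m, h⟩ e
    exact ⟨l, m, h.1, h.2.1, fun t x y z => e _ (P.el_mem t x y z) ▸ h.2.2 t x y z⟩
  · rintro f g - - ⟨l, m, h⟩ ⟨l', m', h'⟩
    exact ⟨_, _, h.mul h'⟩
  rintro f hf ⟨k, hk, e⟩
  have a1 : ∀ t, ∃ t' y z, f (P.el t 0 0 0) = P.el t' 0 y z := fun t => by
    obtain ⟨t', x, y, z, e⟩ := P.mem_iff.1 (hf.maps (P.el_mem t 0 0 0))
    obtain rfl := (P.el_mem_sw_A h4).1 (e ▸ hB f hf _ ((P.el_mem_sw_A h4).2 rfl))
    exact ⟨_, _, _, e⟩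
  have a2 : ∀ x, ∃ x' y z, f (P.el 0 x 0 0) = P.el 0 x' y z := fun x => by
    obtain ⟨t', x, y, z, e⟩ := P.mem_iff.1 (hf.maps (P.el_mem 0 x 0 0))
    obtain rfl := P.el_mem_A.1 (e ▸ hA f hf _ (P.el_mem_A.2 rfl))
    exact ⟨_, _, _, e⟩
  have a3 : ∀ y, ∃ y' z, f (P.el 0 0 y 0) = P.el 0 0 y' z := fun y => by
    obtain ⟨t', x, y, z, e⟩ := P.mem_iff.1 (hf.maps (P.el_mem 0 0 y 0))
    obtain rfl := P.el_mem_A.1 (e ▸ hA f hf _ (P.el_mem_A.2 rfl))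
    obtain rfl := (P.el_mem_sw_A h4).1 (e ▸ hB f hf _ ((P.el_mem_sw_A h4).2 rfl))
    exact ⟨_, _, e⟩
  choose L L1 L2 hL using a1
  choose M M1 M2 hM using a2
  choose Y Y1 hY using a3
  choose Z hZ using dv_el hA hd hf
  have b1 : ∀ t x y z, ∃ y' z', f (P.el t x y z) = P.el (L t) (M x) y' z' ∧
      (t = 0 → x = 0 → y' = Y y) := fun t x y z => by
    rw [el_split, hf.map_mul (mul_mem (P.el_mem ..) (mul_mem (P.el_mem ..) (P.el_mem ..)))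
      (P.el_mem ..), hf.map_mul (P.el_mem ..) (mul_mem (P.el_mem ..) (P.el_mem ..)),
      hf.map_mul (P.el_mem ..) (P.el_mem ..), hL, hM, hY, hZ, P.el_mul, P.el_mul, P.el_mul]
    refine ⟨_, _, P.el_inj.2 ⟨by ring, by ring, rfl, rfl⟩, ?_⟩
    rintro rfl rfl
    have c1 := hL 0
    have c2 := hM 0
    rw [P.el_zero, hf.mor.map_one, ← P.el_zero, P.el_inj] at c1 c2
    rw [← c1.2.2.1, ← c2.2.2.1]
    ring
  have b2 : ∀ t x, Y (t * x) = L t * M x := fun t x => by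
    obtain ⟨y', z', c1, c2⟩ := b1 0 0 (t * x) (t ^ 2 * x)
    rw [img_comm hf (hL t) (hM x), P.el_inj] at c1
    rw [← c2 rfl rfl, c1.2.2.1]
  have b3 : ∀ a b, Y (a + b) = Y a + Y b := fun a b => by
    have := hf.map_mul (P.el_mem 0 0 a 0) (P.el_mem 0 0 b 0)
    simp only [P.el_mul, hY, add_zero, mul_zero, zero_mul, P.el_inj] at this
    exact this.2.2.1
  have b4 : ∀ j t x, ∃ y' z', (f ^ j) (P.el t x 0 0) = P.el (L^[j] t) (M^[j] x) y' z' := fun j t x => by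
    induction j with
    | zero => exact ⟨_, _, rfl⟩
    | succ j ih =>
      obtain ⟨y, z, ih⟩ := ih
      obtain ⟨y', z', c, -⟩ := b1 (L^[j] t) (M^[j] x) y z
      exact ⟨y', z', by rw [pow_succ', Perm.mul_apply, ih, c, Function.iterate_succ_apply',
        Function.iterate_succ_apply']⟩
  have b5 : ∀ t, L^[k] t = t ∧ M^[k] t = t := fun t => by
    obtain ⟨y, z, c⟩ := b4 k t t
    rw [e _ (P.el_mem ..), P.el_inj] at c
    exact ⟨c.1.symm, c.2.1.symm⟩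
  have b6 : L 1 * M 1 ≠ 0 := fun h0 => by
    have := img_comm hf (hL 1) (hM 1)
    rw [h0, sq (L 1), mul_assoc, h0, mul_zero, P.el_zero, hf.mor.eq_one_iff (P.el_mem ..), ← P.el_zero,
      P.el_inj] at this
    simp at this
  have hl := left_ne_zero_of_mul b6
  have hm := right_ne_zero_of_mul b6
  have ha : ∀ a b, Y (a + b) / (L 1 * M 1) = Y a / (L 1 * M 1) + Y b / (L 1 * M 1) := fun a b => by
    rw [b3, add_div]
  have hu : ∀ a b, Y (a * b) / (L 1 * M 1) = Y a / (L 1 * M 1) * (Y b / (L 1 * M 1)) := fun a b => by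
    have c1 := b2 a 1
    have c2 := b2 1 b
    rw [mul_one] at c1
    rw [one_mul] at c2
    rw [b2, c1, c2]
    field_simp
  have h1 : Y 1 / (L 1 * M 1) = 1 := by rw [← b2, mul_one, div_self (by rwa [← mul_one 1, b2])]
  have ho : Odd k := Nat.coprime_two_right.1 hk
  have c1 := semi h4 (L := L) (l := L 1) (θ := fun a => Y a / (L 1 * M 1)) ha hu h1
    (fun x => by rw [show Y x = _ from mul_one x ▸ b2 x 1]; field_simp) ho fun t => (b5 t).1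
  have c2 := semi h4 (L := M) (l := M 1) (θ := fun a => Y a / (L 1 * M 1)) ha hu h1
    (fun x => by rw [show Y x = _ from one_mul x ▸ b2 1 x]; field_simp) ho fun t => (b5 t).2
  exact ⟨L 1, M 1, hl, hm, fun t x y z => by
    obtain ⟨y', z', c, -⟩ := b1 t x y z
    exact ⟨y', z', by rw [c, c1 t, c2 x]⟩⟩

theorem Tp.sw (h : Tp P f l m) : Tp (P.sw h4) f m l := ⟨h.2.1, h.1, fun t x y z => by
  have e : ∀ t x y z, (P.sw h4).el t x y z = P.el x t (y + x * t) (z ^ 2 + x ^ 2 * t) :=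
    fun t x y z => by rw [Par.el, P.sw_n, P.sw_a, P.el_mul]; simp
  obtain ⟨y', z', e'⟩ := h.2.2 x t (y + x * t) (z ^ 2 + x ^ 2 * t)
  refine ⟨y' - l * x * (m * t), (z' - (l * x) ^ 2 * (m * t)) ^ 2, ?_⟩
  rw [e, e, e', ← pow_mul, h4]
  congr 1 <;> ring⟩

omit h4 in
theorem Tp.cen (h : Tp P f l m) (hA : MA P F) (hd : Dv (P.aut F)) (hf : PIso F f S S) (y z : K) :
    f (P.n 0 y z) = P.n 0 (l * m * y) (l ^ 2 * m * z) := by
  have h2 := two (K := K)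
  have a1 : ∀ t x, f (P.el 0 0 (t * x) (t ^ 2 * x)) = P.el 0 0 (l * t * (m * x)) ((l * t) ^ 2 * (m * x)) :=
    fun t x => by
      obtain ⟨_, _, e1⟩ := h.2.2 t 0 0 0
      obtain ⟨_, _, e2⟩ := h.2.2 0 x 0 0
      rw [mul_zero] at e1 e2
      exact img_comm hf e1 e2
  have a2 : ∀ z, f (P.el 0 0 0 z) = P.el 0 0 0 (l ^ 2 * m * z) := fun z => by
    by_cases hw : ∃ w : K, w ^ 2 + w ≠ 0
    · obtain ⟨w, hw⟩ := hw
      obtain ⟨x, rfl⟩ : ∃ x, z = (w ^ 2 + w) * x := ⟨z / (w ^ 2 + w), (mul_div_cancel₀ z hw).symm⟩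
      rw [show P.el 0 0 0 ((w ^ 2 + w) * x) = P.el 0 0 (w * x) (w ^ 2 * x) *
        P.el 0 0 (1 * (w * x)) (1 ^ 2 * (w * x)) by
          rw [P.el_mul, P.el_inj]; refine ⟨?_, ?_, ?_, ?_⟩ <;> grind,
        hf.map_mul (P.el_mem ..) (P.el_mem ..), a1, a1, P.el_mul, P.el_inj]
      refine ⟨?_, ?_, ?_, ?_⟩ <;> grind
    have b : ∀ w : K, w ≠ 0 → w = 1 := fun w h0 =>
      mul_left_cancel₀ h0 (by linear_combination not_not.1 (not_exists.1 hw w) - w * h2)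
    rcases eq_or_ne z 0 with rfl | hz
    · rw [mul_zero, P.el_zero, hf.mor.map_one]
    obtain ⟨z', e⟩ := dv_el hA hd hf z
    rw [e, b z' fun e' => ?_, b _ (mul_ne_zero (mul_ne_zero (pow_ne_zero 2 h.1) h.2.1) hz)]
    rw [e', P.el_zero, hf.mor.eq_one_iff (P.el_mem ..), ← P.el_zero, P.el_inj] at e
    exact hz e.2.2.2
  rw [P.n_eq, P.n_eq, show P.el 0 0 y z = P.el 0 0 (1 * y) (1 ^ 2 * y) * P.el 0 0 0 (y + z) by
      rw [P.el_mul, P.el_inj]; refine ⟨?_, ?_, ?_, ?_⟩ <;> grind,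
    hf.map_mul (P.el_mem ..) (P.el_mem ..), a1, a2, P.el_mul, P.el_inj]
  refine ⟨?_, ?_, ?_, ?_⟩ <;> grind

omit h4 in
include hS hF in
theorem Tp.norm (h : Tp P f l m) (hA : MA P F) (hn : Nm (P.aut F) 0 0) (hf : PIso F f S S)
    (hc : ∀ y z, f (P.n 0 y z) = P.n 0 (l * m * y) (l ^ 2 * m * z)) :
    ∃ t, ∀ x, P.a t * f (P.n x 0 0) * (P.a t)⁻¹ = P.n (m * x) 0 ((m / l + m) * x) := by
  have ha := P.ad_aut F
  have hT := P.sylIn_aut hS hF
  obtain ⟨φ, h1, h2⟩ := res hA hf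
  obtain ⟨w, w1, w2⟩ := exists_w hT.le hn
  have a1 : ∀ y z, φ (0, y, z) = (0, l * m * y, l ^ 2 * m * z) := fun y z =>
    P.nv_inj ((h2 _).symm.trans (hc y z))
  have a2 : ∀ x, (φ (x, 0, 0)).1 = m * x := fun x => by
    obtain ⟨y, z, e⟩ := h.2.2 0 x 0 0
    have := h2 (x, 0, 0)
    rw [Par.nv, Par.nv, P.n_eq, P.n_eq, e, P.el_inj] at this
    exact this.2.1.symm
  have a3 : ∀ x, (φ * w) (0, x, x) = φ (x, 0, 0) := fun x => by
    rw [Perm.mul_apply, w2, add_zero, CharTwo.add_self_eq_zero]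
  obtain e | ⟨t, e⟩ := hn.2 _ (mul_mem h1 w1)
  · exact absurd (by simpa only [a3, a2, mul_one] using e 1 1) h.2.1
  refine ⟨t, fun x => ?_⟩
  have := good_eq ha hT hn (mul_mem (hT.le (u3_mem t)) h1) h.1 (m := m)
    (fun y z => by rw [Perm.mul_apply, a1, u3_fix t rfl]) (fun x => by
      have := e x x
      rw [a3, Pi.zero_apply, add_zero] at this
      refine ⟨_, Prod.ext (a2 x) (Prod.ext ?_ rfl)⟩
      show (φ (x, 0, 0)).2.1 + t * (φ (x, 0, 0)).1 = 0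
      rw [this, CharTwo.add_self_eq_zero]) x
  rw [show f (P.n x 0 0) = _ from h2 (x, 0, 0), P.a_eq, P.conj_nv, ← Perm.mul_apply, this]
  rfl

include hS hF in
theorem Tp.std (h : Tp P f l m) (hA : MA P F) (hB : MA (P.sw h4) F) (g1 : Gd F P)
    (g2 : Gd F (P.sw h4)) (hf : PIso F f S S) : ∃ s ∈ S, ∀ t x y z, s * f (P.el t x y z) * s⁻¹ =
      P.n (m * x) 0 ((m / l + m) * x) * P.n 0 (l * m * y) (l ^ 2 * m * z) *
        (P.sw h4).n (l * t) 0 ((l / m + l) * t) := by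
  have hc := h.cen hA g1.2 hf
  obtain ⟨t₁, e1⟩ := h.norm hS hF hA g1.1 hf hc
  obtain ⟨t₂, e2⟩ := (h.sw h4).norm hS hF hB g2.1 hf ((h.sw h4).cen hB g2.2 hf)
  have k : ∀ (Q : Par K S) {a b : Ω}, a ∈ Q.A → b ∈ Q.A → a * b * a⁻¹ = b := by
    rintro Q _ _ ⟨x, y, z, rfl⟩ ⟨x', y', z', rfl⟩
    rw [← Q.n_add, add_comm x, add_comm y, add_comm z, Q.n_add, mul_inv_cancel_right]
  have m1 : P.a t₁ ∈ (P.sw h4).A := P.a_eq t₁ ▸ (P.el_mem_sw_A h4).2 rfl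
  have m2 : (P.sw h4).a t₂ ∈ P.A := P.el_mem_A.2 rfl
  refine ⟨P.a t₁ * (P.sw h4).a t₂, mul_mem ((P.sw h4).A_le m1) (P.A_le m2), fun t x y z => ?_⟩
  have e : P.el t x y z = P.n x 0 0 * P.n 0 y z * (P.sw h4).n t 0 0 := by
    simp [P.sw_n, P.n_eq, P.el_mul]
  have m3 := P.A_le (P.n_mem x 0 0)
  have m4 := P.A_le (P.n_mem 0 y z)
  rw [e, hf.map_mul (mul_mem m3 m4) ((P.sw h4).A_le ((P.sw h4).n_mem ..)), hf.map_mul m3 m4, hc,
    ← conj_mul, ← conj_mul, mul_inv_rev]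
  have c : ∀ a b u : Ω, a * b * u * (b⁻¹ * a⁻¹) = a * (b * u * b⁻¹) * a⁻¹ := fun _ _ _ => by group
  rw [c, c, c, k P m2 (hA f hf _ (P.n_mem ..)), e1, k P m2 (P.n_mem ..), e2,
    k _ m1 ((P.sw h4).n_mem ..), k _ m1 (P.n_eq .. ▸ (P.el_mem_sw_A h4).2 rfl)]

omit h4 in
include hS hF in
theorem ext_of {φ : Perm (K × K × K)} (hφ : φ ∈ P.aut F) (h : ∀ y z, (φ (0, y, z)).1 = 0) :
    ∃ f, PIso F f S S ∧ ∀ v, f (P.nv v) = P.nv (φ v) :=
  P.exists_ext hS hF hφ fun t => (chain (P.ad_aut F) (P.sylIn_aut hS hF) hφ h t).imp fun s e =>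
    Equiv.ext fun v => by rw [Perm.mul_apply, Perm.mul_apply, e, perm_apply_inv]

omit h4 in
include hS hF in
theorem adjust (hn : Nm (P.aut F) 0 0) {φ : Perm (K × K × K)} (hφ : φ ∈ P.aut F) :
    (∀ y z, (φ (0, y, z)).1 = 0) ∨ ∃ t, ∃ w ∈ P.aut F, (∀ x y z, w (x, y, z) = (y, x, z + x + y)) ∧
      ∀ y z, ((w * u3 t * φ : Perm _) (0, y, z)).1 = 0 := by
  obtain ⟨w, w1, w2⟩ := exists_w (P.sylIn_aut hS hF).le hn
  refine (hn.2 φ hφ).imp_right fun ⟨t, e⟩ => ⟨t, w, w1, w2, fun y z => ?_⟩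
  have := e y z
  rw [Perm.mul_apply, Perm.mul_apply]
  generalize φ (0, y, z) = v at this
  obtain ⟨a, b, c⟩ := v
  rw [u3c, w2]
  exact (congrArg (· + t * a) this).trans (by simp [CharTwo.add_self_eq_zero])

include hS hF in
theorem all_tp (hA : MA P F) (hB : MA (P.sw h4) F) (g1 : Gd F P) (hl : l ≠ 0) (hm : m ≠ 0)
    (h : l ≠ m → Full (P.aut F)) : ∃ f, PIso F f S S ∧ Tp P f l m := by
  have h2 := two (K := K)
  have hT := P.sylIn_aut hS hF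
  have a1 : ∀ {l : K}, l ≠ 0 → ∃ f, PIso F f S S ∧ Tp P f l l := fun {l} hl => by
    obtain ⟨φ, h1, e⟩ := exists_dg hT.le g1.1 h4 hl
    obtain ⟨f, hf, e'⟩ := ext_of hS hF h1 fun y z => by rw [(e 0 y z).2]
    obtain ⟨l', m', h⟩ := exists_tp h4 hS hF hA hB g1.2 hf
    obtain ⟨y, z, c1⟩ := h.2.2 0 1 0 0
    have c2 := e' (1, 0, 0)
    rw [Par.nv, Par.nv, P.n_eq, P.n_eq, c1, P.el_inj, (e 1 0 0).1] at c2
    obtain rfl : m' = l := by simpa using c2.2.1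
    have c3 := e' (0, 1, 0)
    rw [(e 0 1 0).2, Par.nv, Par.nv, h.cen hA g1.2 hf, P.n_inj] at c3
    obtain rfl : l' = m' := mul_right_cancel₀ hl (by linear_combination c3.2.1)
    exact ⟨f, hf, h⟩
  obtain ⟨f, hf, hlf⟩ := a1 hl
  rcases eq_or_ne l m with rfl | hne
  · exact ⟨f, hf, hlf⟩
  have a2 : ∃ φ ∈ P.aut F, (∀ y z, (φ (0, y, z)).1 = 0) ∧ ∃ z, φ (0, 0, z) ≠ (0, 0, z) := by
    obtain ⟨φ, h1, z, e⟩ := h hne
    obtain c | ⟨t, w, w1, w2, c⟩ := adjust hS hF g1.1 h1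
    · exact ⟨φ, h1, c, z, e⟩
    refine ⟨_, mul_mem (mul_mem w1 (hT.le (u3_mem t))) h1, c, z, ?_⟩
    obtain ⟨z', e'⟩ := g1.2 φ h1 z
    rwa [Perm.mul_apply, Perm.mul_apply, e', u3_fix t rfl, w2, add_zero, add_zero, ← e']
  obtain ⟨φ, h1, c, z, e⟩ := a2
  obtain ⟨f₀, hf₀, e'⟩ := ext_of hS hF h1 c
  obtain ⟨l₀, m₀, h₀⟩ := exists_tp h4 hS hF hA hB g1.2 hf₀
  have c1 : l₀ ^ 2 * m₀ ≠ 1 := fun c1 => e (P.nv_inj (by
    rw [← e', Par.nv, h₀.cen hA g1.2 hf₀, c1, mul_zero, one_mul]))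
  obtain ⟨f₁, hf₁, h₁⟩ := a1 (pow_ne_zero 2 h₀.1)
  have hv := h₀.mul h₁
  rw [← pow_succ, cube h4 h₀.1] at hv
  generalize l₀ ^ 2 * m₀ = v at c1 hv
  have c2 : v ^ 2 + v + 1 = 0 := mul_left_cancel₀ (sub_ne_zero.2 c1) (by
    linear_combination cube h4 hv.2.1)
  have c3 : m ^ 2 + m * l + l ^ 2 = 0 := mul_left_cancel₀ (sub_ne_zero.2 hne) (by
    linear_combination cube h4 hl - cube h4 hm)
  rcases mul_eq_zero.1 (show (l * v - m) * (l * (v * v) - m) = 0 by grind) with c | c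
  · exact ⟨_, (hf₀.trans hf₁).trans hf, by simpa only [mul_one, sub_eq_zero.1 c] using hv.mul hlf⟩
  · exact ⟨_, ((hf₀.trans hf₁).trans (hf₀.trans hf₁)).trans hf, by
      simpa only [mul_one, sub_eq_zero.1 c] using (hv.mul hv).mul hlf⟩

variable (hF' : F'.IsSaturated 2)
include hS hF hF'

theorem top_le (hA : MA P F) (hB : MA (P.sw h4) F) (hA' : MA P F') (hB' : MA (P.sw h4) F')
    (g1 : Gd F P) (g2 : Gd F (P.sw h4)) (g1' : Gd F' P) (g2' : Gd F' (P.sw h4))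
    (h : Full (P.aut F) → Full (P.aut F')) (hf : PIso F f S S) : Mor F' S f := by
  obtain ⟨l, m, h1⟩ := exists_tp h4 hS hF hA hB g1.2 hf
  obtain ⟨g, hg, h2⟩ := all_tp h4 hS hF' hA' hB' g1' h1.1 h1.2.1 fun hne => h (by
    obtain ⟨φ, c1, c2⟩ := res hA hf
    refine ⟨φ, c1, 1, fun e => hne ?_⟩
    have := c2 (0, 0, 1)
    rw [e, Par.nv, h1.cen hA g1.2 hf, P.n_inj] at this
    linear_combination m * cube h4 h1.1 - l * this.2.2)
  obtain ⟨s, hs, e⟩ := h1.std h4 hS hF hA hB g1 g2 hf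
  obtain ⟨s', hs', e'⟩ := h2.std h4 hS hF' hA' hB' g1' g2' hg
  refine (hg.mor.conj_comp (mul_mem (inv_mem hs) hs')).congr fun a ha => ?_
  obtain ⟨t, x, y, z, rfl⟩ := P.mem_iff.1 ha
  have := (e t x y z).trans (e' t x y z).symm
  calc _ = s⁻¹ * (s' * g (P.el t x y z) * s'⁻¹) * s := by group
    _ = _ := by rw [← this]; group

omit h4 in
theorem aut_le (g1 : Gd F P) (g1' : Gd F' P) (h : ∀ f, PIso F f S S → Mor F' S f) :
    F.autGroup P.A ≤ F'.autGroup P.A := by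
  have a1 : ∀ φ ∈ P.aut F, (∀ y z, (φ (0, y, z)).1 = 0) → φ ∈ P.aut F' := fun φ h1 c => by
    obtain ⟨f, hf, e⟩ := ext_of hS hF h1 c
    refine ⟨f, ((h f hf).restrict P.A_le).piso_of_maps fun a ha => ?_, e⟩
    obtain ⟨v, rfl⟩ := P.exists_nv ha
    exact e v ▸ P.nv_mem _
  have a2 : P.aut F ≤ P.aut F' := fun φ h1 => by
    obtain c | ⟨t, w, w1, w2, c⟩ := adjust hS hF g1.1 h1
    · exact a1 φ h1 c
    obtain ⟨w', w3, w4⟩ := exists_w (P.sylIn_aut hS hF').le g1'.1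
    obtain rfl : w = w' := Equiv.ext fun ⟨x, y, z⟩ => by rw [w2, w4]
    exact (mul_mem_cancel_left (mul_mem w3 ((P.sylIn_aut hS hF').le (u3_mem t)))).1
      (a1 _ (mul_mem (mul_mem w1 ((P.sylIn_aut hS hF).le (u3_mem t))) h1) c)
  intro α hα
  rw [P.aut_eq, P.aut_eq] at a2
  obtain ⟨β, h1, h2⟩ := a2 (mem_map_of_mem _ hα)
  exact P.co_inj h2 ▸ h1

end Cfsg.Lib.Sp4F.Cmp
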