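import Cfsg.Agent.Sp4F.Defs
import Cfsg.Agent.Solv.Schur2
import Cfsg.Agent.Class.SLGen
import Cfsg.Agent.S2088
import Cfsg.Agent.S3154

/-! The perfect central extension of `PSL₃(4)` by a four-group. -/

set_option autoImplicit false

namespace Cfsg.Lib.Sp4F

open Cfsg Subgroup Cfsg.Lib.Class.FusH Cfsg.Lib.Trans Cfsg.Lib.Gomi Cfsg.Lib.L34

universe u

/-- The projective special linear group of degree three. -/
abbrev Y3 (K : Type*) [Field K] := Matrix.ProjectiveSpecialLinearGroup (Fin 3) K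

variable {K : Type u} [Field K]

/-- The image of a unitriangular matrix. -/
def uu (a b c : K) : Y3 K := QuotientGroup.mk (ut3 a b c)

theorem uu_eq_1' : type_of% @uu.eq_1 := @uu.eq_1

theorem hs_uu : Hs (uu (K := K)) :=
  ⟨fun a b c a' b' c' => by rw [uu, uu, ← QuotientGroup.mk_mul, ut3_mul, uu],
    fun {a b c a' b' c'} e => by
      obtain ⟨t, ht⟩ := Known.PSL_mk_eq_mk_iff.1 e
      have e00 := congrFun (congrFun ht 0) 0
      have e01 := congrFun (congrFun ht 0) 1
      have e02 := congrFun (congrFun ht 0) 2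
      have e12 := congrFun (congrFun ht 1) 2
      simp [ut3] at e00 e01 e02 e12
      simp [e01, e02, e12, ← e00]⟩

theorem uu_mul (a b c a' b' c' : K) :
    uu a b c * uu a' b' c' = uu (a + a') (b + b') (c + c' + a * b') := hs_uu.mul ..

theorem uu_inj {a b c a' b' c' : K} : uu a b c = uu a' b' c' ↔ a = a' ∧ b = b' ∧ c = c' :=
  hs_uu.eq_iff

theorem uu_zero : uu (0 : K) 0 0 = 1 := hs_uu.one

theorem commutator_Y3 : commutator (Y3 K) = ⊤ := by
  have h := map_commutator (⊤ : Subgroup (Matrix.SpecialLinearGroup (Fin 3) K)) ⊤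
    (QuotientGroup.mk' (center _))
  rw [← _root_.commutator_def, Class.SL_commutator_eq_top (by simp),
    map_top_of_surjective _ (QuotientGroup.mk'_surjective _)] at h
  exact h.symm

theorem isSylowIn_uu [Finite K] [CharP K 2] : IsSylowIn 2 (hs_uu (K := K)).S ⊤ := by
  have h1 : (hs_uu (K := K)).S = (Known.uniTri 3 K).map (QuotientGroup.mk' _) := by
    ext g
    rw [hs_uu.mem_S]
    constructor
    · rintro ⟨a, b, c, rfl⟩
      refine ⟨ut3 a b c, Known.mem_uniTri.2 ⟨fun i j hij => ?_, fun i => ?_⟩, rfl⟩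
      · fin_cases i <;> fin_cases j <;> simp [ut3] at hij ⊢
      · fin_cases i <;> simp [ut3]
    · rintro ⟨s, hs, rfl⟩
      obtain ⟨h2, h3⟩ := Known.mem_uniTri.1 hs
      refine ⟨s.1 0 1, s.1 1 2, s.1 0 2, congrArg QuotientGroup.mk ?_⟩
      have e10 : s.1 1 0 = 0 := h2 (by decide)
      have e20 : s.1 2 0 = 0 := h2 (by decide)
      have e21 : s.1 2 1 = 0 := h2 (by decide)
      ext i j
      fin_cases i <;> fin_cases j <;> simp [ut3, h3, e10, e20, e21]
  refine ⟨le_top, h1 ▸ (Known.isPGroup_uniTri 2).map _, ?_⟩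
  rw [relIndex_top_right, h1]
  exact fun h => Known.not_dvd_index_uniTri 2
    (h.trans (index_map_dvd _ (QuotientGroup.mk'_surjective _)))

/-- A perfect central extension of `PSL₃(K)` by a four-group. -/
structure Cov (K : Type u) [Field K] (X : Type*) [Group X] where
  /-- the projection -/
  π : X →* Y3 K
  surj : Function.Surjective π
  cen : π.ker ≤ center X
  card : Nat.card π.ker = 4
  sq : ∀ z ∈ π.ker, z * z = 1
  perf : commutator X = ⊤

theorem exists_cov [Finite K] (hK : Nat.card K = 4) :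
    ∃ (X : Type u) (_ : Group X) (_ : Finite X), Nonempty (Cov K X) := by
  have := Fintype.ofFinite K
  obtain ⟨⟨Γ, _, _, σ, hσ, ⟨e⟩⟩, -⟩ := Agent.S2088.result (F := K) (Nat.card_eq_fintype_card.symm.trans hK)
  let c : ZMod 4 →+ ZMod 2 := (ZMod.castHom (by norm_num : 2 ∣ 4) (ZMod 2)).toAddMonoidHom
  let φ : Multiplicative (ZMod 3 × ZMod 4 × ZMod 4) →* Multiplicative (ZMod 2 × ZMod 2) :=
    AddMonoidHom.toMultiplicative ((c.prodMap c).comp (AddMonoidHom.snd _ _))
  have hφ : Function.Surjective φ := by decide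
  let ψ := φ.comp e.toMonoidHom
  let N : Subgroup Γ := ψ.ker.map σ.ker.subtype
  have hN : N ≤ σ.ker := map_subtype_le _
  have : N.Normal := ⟨fun n hn g => by
    rwa [mem_center_iff.1 (hσ.2.1 (hN hn)) g, mul_inv_cancel_right]⟩
  have hk : (QuotientGroup.lift N σ hN).ker = σ.ker.map (QuotientGroup.mk' N) :=
    QuotientGroup.ker_lift N σ hN
  have hp : commutator Γ = ⊤ := (Solv.isPerfect_of_stem ⟨commutator_Y3⟩ hσ).commutator_eq_top
  refine ⟨Γ ⧸ N, inferInstance, inferInstance, ⟨⟨QuotientGroup.lift N σ hN,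
    QuotientGroup.lift_surjective_of_surjective N σ hσ.1 hN, ?_, ?_, ?_, ?_⟩⟩⟩
  · rw [hk]
    rintro _ ⟨z, hz, rfl⟩
    refine mem_center_iff.2 fun g => ?_
    obtain ⟨g, rfl⟩ := QuotientGroup.mk'_surjective N g
    rw [← map_mul, ← map_mul, mem_center_iff.1 (hσ.2.1 hz) g]
  · rw [hk, ← relIndex_ker, QuotientGroup.ker_mk', relIndex, subgroupOf,
      comap_map_eq_self_of_injective (subtype_injective _), index_ker,
      MonoidHom.range_eq_top.2 (show Function.Surjective ψ from hφ.comp e.surjective), card_top]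
    simp
  · rw [hk]
    rintro _ ⟨z, hz, rfl⟩
    rw [← map_mul]
    refine (QuotientGroup.eq_one_iff _).2 ⟨⟨z, hz⟩ * ⟨z, hz⟩, ?_, rfl⟩
    rw [SetLike.mem_coe, MonoidHom.mem_ker, map_mul]
    generalize ψ ⟨z, hz⟩ = w
    revert w
    decide
  · have h := map_commutator (⊤ : Subgroup Γ) ⊤ (QuotientGroup.mk' N)
    rw [← _root_.commutator_def, hp, map_top_of_surjective _ (QuotientGroup.mk'_surjective _)] at h
    exact h.symm

namespace Cov

variable {X : Type*} [Group X] (C : Cov K X)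

theorem comm {z : X} (hz : C.π z = 1) (x : X) : x * z = z * x := mem_center_iff.1 (C.cen hz) x

theorem stem : IsStemExtension C.π := ⟨C.surj, C.cen, C.perf ▸ le_top⟩

/-- The preimages of the two maximal elementary abelian subgroups are elementary abelian. -/
theorem sq_AB [Finite K] (hK : Nat.card K = 4) :
    (∀ x a c, C.π x = uu a 0 c → x * x = 1) ∧ ∀ x b c, C.π x = uu 0 b c → x * x = 1 := by
  have := Fintype.ofFinite K
  have hF : Fintype.card K = 4 := Nat.card_eq_fintype_card.symm.trans hK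
  have := charP_four hF
  have k := hs_uu (K := K)
  have hS : IsSylowIn 2 k.S ⊤ := isSylowIn_uu
  have hS₀ : IsSylowIn 2 k.symm.S ⊤ := by rw [Hs.S, k.symm_sub]; exact hS
  have hm := hs_mov_of_psl hF (MulEquiv.refl _) k.symm hS₀
  have hm' := hs_mov_of_psl hF (MulEquiv.refl _) k hS
  rw [Hs.A, Hs.B, k.symm_sub, k.symm_sub] at hm
  have h1 := Agent.S3154.sq_comap hF C.surj C.cen C.sq k (hs_hasPar hF k hS hm)
  have h2 := Agent.S3154.sq_comap hF C.surj C.cen C.sq k.symm
    (hs_hasPar hF k.symm hS₀ (by rwa [Hs.A, Hs.B, k.symm_sub, k.symm_sub]))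
  rw [Hs.A, k.symm_sub] at h2
  exact ⟨fun x a c e => h1 x (k.mem_A.2 ⟨a, c, e.symm⟩), fun x b c e => h2 x (k.mem_B.2 ⟨b, c, e.symm⟩)⟩

end Cov

end Cfsg.Lib.Sp4F
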