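import Cfsg.Agent.Class.FusHeis

/-! Fusion systems over a Sylow subgroup of `Sp₄(q)` in the defining characteristic: definitions. -/

set_option autoImplicit false

namespace Cfsg.Lib.Sp4F

open Cfsg Cfsg.FusionSystem Subgroup Equiv Cfsg.Lib.Fus

variable {K : Type*} [Field K]

/-- The unipotent transformation of the symmetric square. -/
def u3 (t : K) : Perm (K × K × K) where
  toFun v := (v.1, v.2.1 + t * v.1, v.2.2 + 2 * t * v.2.1 + t ^ 2 * v.1)
  invFun v := (v.1, v.2.1 - t * v.1, v.2.2 - 2 * t * v.2.1 + t ^ 2 * v.1)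
  left_inv v := by ext <;> simp only <;> ring
  right_inv v := by ext <;> simp only <;> ring

theorem u3_apply (t x y z : K) : u3 t (x, y, z) = (x, y + t * x, z + 2 * t * y + t ^ 2 * x) := rfl

theorem u3_add (s t : K) : u3 (s + t) = u3 s * u3 t := Equiv.ext fun ⟨x, y, z⟩ => by
  simp only [Perm.mul_apply, u3_apply, Prod.mk.injEq]
  exact ⟨trivial, by ring, by ring⟩

theorem u3_zero : u3 (0 : K) = 1 := Equiv.ext fun ⟨x, y, z⟩ => by simp [u3_apply]

theorem u3_neg (t : K) : u3 (-t) = (u3 t)⁻¹ :=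
  eq_inv_of_mul_eq_one_left (by rw [← u3_add, neg_add_cancel, u3_zero])

/-- The group of the `u3 t`. -/
def UT (K : Type*) [Field K] : Subgroup (Perm (K × K × K)) where
  carrier := {g | ∃ t, g = u3 t}
  one_mem' := ⟨0, u3_zero.symm⟩
  mul_mem' := by
    rintro _ _ ⟨s, rfl⟩ ⟨t, rfl⟩
    exact ⟨_, (u3_add s t).symm⟩
  inv_mem' := by
    rintro _ ⟨s, rfl⟩
    exact ⟨_, (u3_neg s).symm⟩

theorem mem_UT {g : Perm (K × K × K)} : g ∈ UT K ↔ ∃ t, g = u3 t := Iff.rfl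

theorem u3_mem (t : K) : u3 t ∈ UT K := ⟨t, rfl⟩

section Lin

variable (G : Subgroup (Perm (K × K × K)))

/-- `G` consists of additive maps. -/
def Ad : Prop := ∀ g ∈ G, ∀ u v, g (u + v) = g u + g v

/-- `G` moves the plane `x = 0`. -/
def Mv : Prop := ∃ g ∈ G, ∃ y z, (g (0, y, z)).1 ≠ 0

/-- `G` preserves the line `x = y = 0`. -/
def Dv : Prop := ∀ g ∈ G, ∀ z, ∃ z', g (0, 0, z) = (0, 0, z')

/-- `G` preserves the line `x = z = 0`. -/
def Dw : Prop := ∀ g ∈ G, ∀ y, ∃ y', g (0, y, 0) = (0, y', 0)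

/-- `G` moves a point of the line `x = y = 0`. -/
def Full : Prop := ∃ g ∈ G, ∃ z, g (0, 0, z) ≠ (0, 0, z)

/-- Normal form of `G` in the coordinates shifted by `α`, `β`. -/
def Nm (α β : K → K) : Prop :=
  (∃ g ∈ G, ∀ x y z, g (x, y + α x, z + β x) = (x + y, y + α (x + y), z + β (x + y))) ∧
    ∀ g ∈ G, (∀ y z, (g (0, y, z)).1 = 0) ∨
      ∃ t, ∀ y z, (g (0, y, z)).2.1 = t * (g (0, y, z)).1 + α (g (0, y, z)).1

end Lin

/-- Coordinates on a group `S` isomorphic to a Sylow subgroup of `Sp₄(K)`. -/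
structure Par (K : Type*) [Field K] {Ω : Type*} [Group Ω] (S : Subgroup Ω) where
  /-- the root subgroup acting on the symmetric matrices -/
  a : K → Ω
  /-- the symmetric matrices -/
  n : K → K → K → Ω
  a_add : ∀ t t', a (t + t') = a t * a t'
  n_add : ∀ x y z x' y' z', n (x + x') (y + y') (z + z') = n x y z * n x' y' z'
  comm : ∀ t x y z, a t * n x y z = n x (y + t * x) (z + 2 * t * y + t ^ 2 * x) * a t
  inj : ∀ t x y z, n x y z * a t = 1 → t = 0 ∧ x = 0 ∧ y = 0 ∧ z = 0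
  mem : ∀ g, g ∈ S ↔ ∃ t x y z, g = n x y z * a t

variable {Ω : Type*} [Group Ω] {S : Subgroup Ω}

/-- A finite group `X` with the Sylow `2`-subgroup `S` in which the line `x = y = 0` is normal
and the centre of `S` is moved inside both elementary abelian subgroups of maximal order. -/
structure Mdl (P : Par K S) (full : Prop) : Prop where
  odd : ¬ 2 ∣ S.index
  nrm : ∀ g z, ∃ z', g * P.n 0 0 z * g⁻¹ = P.n 0 0 z'
  mvA : ∃ g, (∀ x y z, ∃ x' y' z', g * P.n x y z * g⁻¹ = P.n x' y' z') ∧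
    ∃ y z x' y' z', x' ≠ 0 ∧ g * P.n 0 y z * g⁻¹ = P.n x' y' z'
  mvB : ∃ g, (∀ t y z, ∃ t' y' z', g * (P.n 0 y z * P.a t) * g⁻¹ = P.n 0 y' z' * P.a t') ∧
    ∃ y z t' y' z', t' ≠ 0 ∧ g * P.n 0 y z * g⁻¹ = P.n 0 y' z' * P.a t'
  full : full ↔ ∃ g, (∀ x y z, ∃ x' y' z', g * P.n x y z * g⁻¹ = P.n x' y' z') ∧
    ∃ z, g * P.n 0 0 z * g⁻¹ ≠ P.n 0 0 z

namespace Par

variable (P : Par K S)

theorem a_zero : P.a 0 = 1 := by simpa using P.a_add 0 0

theorem n_zero : P.n 0 0 0 = 1 := by simpa using P.n_add 0 0 0 0 0 0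

/-- The general element. -/
def el (t x y z : K) : Ω := P.n x y z * P.a t

theorem el_mul (t x y z t' x' y' z' : K) : P.el t x y z * P.el t' x' y' z' =
    P.el (t + t') (x + x') (y + y' + t * x') (z + z' + 2 * t * y' + t ^ 2 * x') := by
  rw [el, el, el, mul_assoc, ← mul_assoc (P.a t), P.comm, ← mul_assoc, ← mul_assoc, ← P.n_add,
    mul_assoc, ← P.a_add]
  congr 2 <;> ring

theorem el_zero : P.el 0 0 0 0 = 1 := by rw [el, n_zero, a_zero, one_mul]

theorem el_inv (t x y z : K) :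
    (P.el t x y z)⁻¹ = P.el (-t) (-x) (t * x - y) (2 * t * y - t ^ 2 * x - z) :=
  inv_eq_of_mul_eq_one_right (by rw [el_mul, ← P.el_zero]; congr 1 <;> ring)

theorem el_inj {t x y z t' x' y' z' : K} :
    P.el t x y z = P.el t' x' y' z' ↔ t = t' ∧ x = x' ∧ y = y' ∧ z = z' := by
  refine ⟨fun h => ?_, by rintro ⟨rfl, rfl, rfl, rfl⟩; rfl⟩
  rw [← mul_inv_eq_one, el_inv, el_mul] at h
  obtain ⟨h1, h2, h3, h4⟩ := P.inj _ _ _ _ h
  obtain rfl : t = t' := by linear_combination h1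
  obtain rfl : x = x' := by linear_combination h2
  obtain rfl : y = y' := by linear_combination h3
  exact ⟨rfl, rfl, rfl, by linear_combination h4⟩

theorem n_eq (x y z : K) : P.n x y z = P.el 0 x y z := by rw [el, a_zero, mul_one]

theorem a_eq (t : K) : P.a t = P.el t 0 0 0 := by rw [el, n_zero, one_mul]

theorem n_inj {x y z x' y' z' : K} : P.n x y z = P.n x' y' z' ↔ x = x' ∧ y = y' ∧ z = z' := by
  simp only [n_eq, el_inj, true_and]

theorem mem_iff {g : Ω} : g ∈ S ↔ ∃ t x y z, g = P.el t x y z := P.mem g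

theorem el_mem (t x y z : K) : P.el t x y z ∈ S := P.mem_iff.2 ⟨_, _, _, _, rfl⟩

/-- The abelian subgroup `t = 0`. -/
def A : Subgroup Ω where
  carrier := {g | ∃ x y z, g = P.n x y z}
  one_mem' := ⟨0, 0, 0, P.n_zero.symm⟩
  mul_mem' := by
    rintro _ _ ⟨_, _, _, rfl⟩ ⟨_, _, _, rfl⟩
    exact ⟨_, _, _, (P.n_add ..).symm⟩
  inv_mem' := by
    rintro _ ⟨x, y, z, rfl⟩
    exact ⟨-x, -y, -z, inv_eq_of_mul_eq_one_right (by rw [← P.n_add, ← P.n_zero]; simp)⟩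

theorem mem_A {g : Ω} : g ∈ P.A ↔ ∃ x y z, g = P.n x y z := Iff.rfl

theorem n_mem (x y z : K) : P.n x y z ∈ P.A := ⟨_, _, _, rfl⟩

theorem el_mem_A {t x y z : K} : P.el t x y z ∈ P.A ↔ t = 0 := by
  simp only [mem_A, n_eq, el_inj]
  exact ⟨fun ⟨_, _, _, h, _⟩ => h, fun h => ⟨_, _, _, h, rfl, rfl, rfl⟩⟩

theorem A_le : P.A ≤ S := by
  rintro _ ⟨x, y, z, rfl⟩
  exact P.n_eq x y z ▸ P.el_mem ..

/-- The element of `A` with the coordinates `v`. -/
def nv (v : K × K × K) : Ω := P.n v.1 v.2.1 v.2.2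

theorem nv_add (u v : K × K × K) : P.nv (u + v) = P.nv u * P.nv v := P.n_add ..

theorem nv_inj : Function.Injective P.nv := fun _ _ h =>
  have := P.n_inj.1 h
  Prod.ext this.1 (Prod.ext this.2.1 this.2.2)

theorem nv_mem (v : K × K × K) : P.nv v ∈ P.A := P.n_mem ..

theorem exists_nv {g : Ω} (h : g ∈ P.A) : ∃ v, g = P.nv v :=
  let ⟨x, y, z, e⟩ := h
  ⟨(x, y, z), e⟩

/-- The automiser of `A` read in coordinates. -/
def aut (F : FusionSystem S) : Subgroup (Perm (K × K × K)) where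
  carrier := {φ | ∃ f, PIso F f P.A P.A ∧ ∀ v, f (P.nv v) = P.nv (φ v)}
  one_mem' := ⟨1, PIso.refl F P.A_le, fun _ => rfl⟩
  mul_mem' := by
    rintro φ ψ ⟨f, hf, e⟩ ⟨g, hg, e'⟩
    exact ⟨f * g, hg.trans hf, fun v => by rw [Perm.mul_apply, e', e, Perm.mul_apply]⟩
  inv_mem' := by
    rintro φ ⟨f, hf, e⟩
    exact ⟨f⁻¹, hf.symm, fun v => by rw [Perm.inv_eq_iff_eq, e, perm_apply_inv]⟩

theorem mem_aut {F : FusionSystem S} {φ : Perm (K × K × K)} :
    φ ∈ P.aut F ↔ ∃ f, PIso F f P.A P.A ∧ ∀ v, f (P.nv v) = P.nv (φ v) := Iff.rfl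

theorem ad_aut (F : FusionSystem S) : Ad (P.aut F) := by
  rintro φ ⟨f, hf, e⟩ u v
  apply P.nv_inj
  rw [← e, nv_add, nv_add, hf.mor.map_mul (P.nv_mem u) (P.nv_mem v), e, e]

end Par

end Cfsg.Lib.Sp4F
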