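import Cfsg.Agent.Sp4F.Defs
import Cfsg.Agent.Trans.Conj

/-! Groups acting on the symmetric square of a plane with the full unipotent group as a Sylow
subgroup: facts about one Sylow subgroup. -/

set_option autoImplicit false

namespace Cfsg.Lib.Sp4F.LA

open Subgroup Cfsg.Lib.Fus Cfsg.Lib.Trans

variable {K : Type*} [Field K] {Γ V : Type*} [Group Γ] [AddCommGroup V] [DistribMulAction Γ V]

/-- The fixed points of `P`. -/
def Zs (V : Type*) [AddCommGroup V] [DistribMulAction Γ V] (P : Subgroup Γ) : AddSubgroup V where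
  carrier := {v | ∀ s ∈ P, s • v = v}
  zero_mem' := fun s _ => smul_zero s
  add_mem' := fun ha hb s hs => by rw [smul_add, ha s hs, hb s hs]
  neg_mem' := fun ha s hs => by rw [smul_neg, ha s hs]

/-- The fixed points of `P` modulo `Zs P`. -/
def Z2 (V : Type*) [AddCommGroup V] [DistribMulAction Γ V] (P : Subgroup Γ) : AddSubgroup V where
  carrier := {v | ∀ s ∈ P, s • v - v ∈ Zs V P}
  zero_mem' := fun s _ => by simp
  add_mem' := fun ha hb s hs => by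
    rw [smul_add, add_sub_add_comm]; exact add_mem (ha s hs) (hb s hs)
  neg_mem' := fun ha s hs => by
    rw [smul_neg, neg_sub_neg, ← neg_sub]; exact neg_mem (ha s hs)

/-- `w` acts as `1, -1, 1` on the factors of the chain defined by `P`. -/
structure Inv (V : Type*) [AddCommGroup V] [DistribMulAction Γ V] (P : Subgroup Γ) (w : Γ) :
    Prop where
  z : ∀ v ∈ Zs V P, w • v = v
  y : ∀ v ∈ Z2 V P, w • v + v ∈ Zs V P
  x : ∀ v : V, w • v - v ∈ Z2 V P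

variable {P P' : Subgroup Γ} {g w w' s n : Γ} {v : V}

theorem Zs_le : Zs V P ≤ Z2 V P := fun v hv s hs => by rw [hv s hs, sub_self]; exact zero_mem _

theorem Zs_cj : g • v ∈ Zs V (cj g P) ↔ v ∈ Zs V P :=
  ⟨fun h s hs => by
    have := h _ (conj_mem_cj.2 hs)
    rwa [mul_smul, inv_smul_smul, mul_smul, smul_left_cancel_iff] at this,
   fun h s hs => by
    have := h _ (mem_cj.1 hs)
    rwa [mul_smul, mul_smul, inv_smul_eq_iff] at this⟩

theorem Z2_cj : g • v ∈ Z2 V (cj g P) ↔ v ∈ Z2 V P :=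
  ⟨fun h s hs => by
    have := h _ (conj_mem_cj.2 hs)
    rwa [mul_smul, inv_smul_smul, mul_smul, ← smul_sub, Zs_cj] at this,
   fun h s hs => by
    have := (Zs_cj (g := g)).2 (h _ (mem_cj.1 hs))
    rwa [smul_sub, mul_smul, mul_smul, smul_inv_smul] at this⟩

theorem Zs_norm (hg : cj g P = P) : g • v ∈ Zs V P ↔ v ∈ Zs V P := by
  conv_lhs => rw [← hg, Zs_cj]

theorem Z2_norm (hg : cj g P = P) : g • v ∈ Z2 V P ↔ v ∈ Z2 V P := by
  conv_lhs => rw [← hg, Z2_cj]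

theorem Inv.cj (h : Inv V P w) (g : Γ) : Inv V (cj g P) (g * w * g⁻¹) := by
  refine ⟨fun v hv => ?_, fun v hv => ?_, fun v => ?_⟩ <;>
    obtain ⟨v, rfl⟩ := MulAction.surjective g v <;> rw [mul_smul, inv_smul_smul, mul_smul]
  · rw [h.z v (Zs_cj.1 hv)]
  · rw [← smul_add, Zs_cj]; exact h.y v (Z2_cj.1 hv)
  · rw [← smul_sub, Z2_cj]; exact h.x v

theorem inv_smul_mem [Finite Γ] {A : AddSubgroup V} (h : ∀ v ∈ A, g • v ∈ A) (hv : v ∈ A) :
    g⁻¹ • v ∈ A := by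
  have : ∀ k : ℕ, g ^ k • v ∈ A := fun k => by
    induction k with
    | zero => simpa using hv
    | succ k ih => rw [pow_succ', mul_smul]; exact h _ ih
  obtain ⟨k, hk⟩ := (mem_powers_iff_mem_zpowers.2 (inv_mem (mem_zpowers g)))
  exact hk ▸ this k

theorem pow_smul_sub {A B : AddSubgroup V} (h1 : g • v - v ∈ A) (h2 : ∀ u ∈ A, g • u - u ∈ B)
    (h3 : ∀ u ∈ B, g • u ∈ B) (k : ℕ) : g ^ k • v - v - k • (g • v - v) ∈ B := by
  induction k with
  | zero => simp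
  | succ k ih =>
    have := add_mem (h3 _ ih) (nsmul_mem (h2 _ h1) k)
    convert this using 1
    simp only [pow_succ', mul_smul, smul_sub, smul_comm g k, add_smul, one_smul]
    abel

/-- `h` acts as `1, a, a²` on the factors of the chain. -/
structure Sc (X Y : V →+ K) (h : Γ) (a : K) : Prop where
  z : ∀ v, X v = 0 → Y v = 0 → h • v = v
  y : ∀ v, X v = 0 → Y (h • v) = a * Y v
  x : ∀ v, X (h • v) = a ^ 2 * X v

/-- Coordinates adapted to the Sylow subgroup `P`. -/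
structure Co (p : ℕ) (P : Subgroup Γ) (X Y W : V →+ K) (σ : K → Γ) : Prop where
  syl : SylIn p P ⊤
  mem : ∀ s, s ∈ P ↔ ∃ t, s = σ t
  ext : ∀ v, X v = 0 → Y v = 0 → W v = 0 → v = 0
  surj : ∀ x y z, ∃ v, X v = x ∧ Y v = y ∧ W v = z
  aX : ∀ t v, X (σ t • v) = X v
  aY : ∀ t v, Y (σ t • v) = Y v + t * X v
  aW : ∀ t v, W (σ t • v) = W v + 2 * t * Y v + t ^ 2 * X v
  hh : ∀ a : K, a ≠ 0 → ∃ h : Γ, Sc X Y h a
  two : (2 : K) ≠ 0

variable {p : ℕ} {X Y W : V →+ K} {σ : K → Γ} {a b : K}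

theorem Sc.mul (h : Sc X Y g a) (h' : Sc X Y n b) : Sc X Y (g * n) (a * b) :=
  ⟨fun v h1 h2 => by rw [mul_smul, h'.z v h1 h2, h.z v h1 h2],
   fun v h1 => by rw [mul_smul, h.y _ (by rw [h'.x, h1, mul_zero]), h'.y v h1, mul_assoc],
   fun v => by rw [mul_smul, h.x, h'.x]; ring⟩

theorem Sc.inv (h : Sc X Y g a) (ha : a ≠ 0) : Sc X Y g⁻¹ a⁻¹ := by
  have e : ∀ v, X (g⁻¹ • v) = a⁻¹ ^ 2 * X v := fun v => by
    rw [← smul_inv_smul g v, h.x, inv_smul_smul]; field_simp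
  refine ⟨fun v h1 h2 => by rw [inv_smul_eq_iff, h.z v h1 h2], fun v h1 => ?_, e⟩
  conv_rhs => rw [← smul_inv_smul g v, h.y _ (by rw [e, h1, mul_zero])]
  field_simp

namespace Co

theorem cj (h : Co p P X Y W σ) (g : Γ) :
    Co p (cj g P) (X.comp (DistribSMul.toAddMonoidHom V g⁻¹))
      (Y.comp (DistribSMul.toAddMonoidHom V g⁻¹)) (W.comp (DistribSMul.toAddMonoidHom V g⁻¹))
      fun t => g * σ t * g⁻¹ where
  syl := h.syl.conj (by rw [normalizer_eq_top]; trivial)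
  mem s := by
    rw [mem_cj, h.mem]
    exact exists_congr fun t => ⟨fun e => by rw [← e]; group, fun e => by rw [e]; group⟩
  ext v h1 h2 h3 := (smul_eq_zero_iff_eq g⁻¹).1 (h.ext _ h1 h2 h3)
  surj x y z := by
    obtain ⟨v, hv⟩ := h.surj x y z
    exact ⟨g • v, by simpa using hv⟩
  aX t v := by simp [mul_smul, h.aX]
  aY t v := by simp [mul_smul, h.aY]
  aW t v := by simp [mul_smul, h.aW]
  hh a ha := by
    obtain ⟨k, hk⟩ := h.hh a ha
    refine ⟨g * k * g⁻¹, fun v h1 h2 => ?_, fun v h1 => ?_, fun v => ?_⟩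
    · rw [mul_smul, mul_smul, hk.z (g⁻¹ • v) h1 h2, smul_inv_smul]
    · simpa [mul_smul] using hk.y _ h1
    · simpa [mul_smul] using hk.x _
  two := h.two

variable (h : Co p P X Y W σ)
include h

theorem ext' {u v : V} (h1 : X u = X v) (h2 : Y u = Y v) (h3 : W u = W v) : u = v :=
  sub_eq_zero.1 (h.ext _ (by simp [h1]) (by simp [h2]) (by simp [h3]))

theorem σ_mem (t : K) : σ t ∈ P := (h.mem _).2 ⟨t, rfl⟩

theorem fix_iff {t : K} (ht : t ≠ 0) : σ t • v = v ↔ X v = 0 ∧ Y v = 0 := by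
  refine ⟨fun e => ?_, fun ⟨h1, h2⟩ => h.ext' (h.aX ..) (by simp [h.aY, h1]) (by simp [h.aW, h1, h2])⟩
  have h1 := h.aY t v
  have h2 := h.aW t v
  rw [e] at h1 h2
  have h3 : X v = 0 := by simpa [ht] using h1
  exact ⟨h3, by simpa [h3, ht, h.two] using h2⟩

theorem σ_zero_smul (v : V) : σ 0 • v = v := h.ext' (h.aX ..) (by simp [h.aY]) (by simp [h.aW])

theorem mem_Zs : v ∈ Zs V P ↔ X v = 0 ∧ Y v = 0 := by
  refine ⟨fun e => (h.fix_iff one_ne_zero).1 (e _ (h.σ_mem 1)), fun e s hs => ?_⟩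
  obtain ⟨t, rfl⟩ := (h.mem s).1 hs
  by_cases ht : t = 0
  · rw [ht, h.σ_zero_smul]
  · exact (h.fix_iff ht).2 e

theorem mem_Z2 : v ∈ Z2 V P ↔ X v = 0 := by
  refine ⟨fun e => ?_, fun e s hs => ?_⟩
  · simpa [h.aY] using (h.mem_Zs.1 (e _ (h.σ_mem 1))).2
  · obtain ⟨t, rfl⟩ := (h.mem s).1 hs
    simp [h.mem_Zs, h.aX, h.aY, e]

theorem sub_mem (hs : s ∈ P) (v : V) : s • v - v ∈ Z2 V P := by
  obtain ⟨t, rfl⟩ := (h.mem s).1 hs
  simp [h.mem_Z2, h.aX]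

theorem tr {y z : V} (hy : y ∈ Z2 V P) (hy' : y ∉ Zs V P) (hz : z ∈ Zs V P) :
    ∃ s ∈ P, s • y = y + z := by
  rw [h.mem_Z2] at hy
  rw [h.mem_Zs] at hy' hz
  have h0 : Y y ≠ 0 := fun e => hy' ⟨hy, e⟩
  have := h.two
  refine ⟨_, h.σ_mem (W z / (2 * Y y)), h.ext' (by simp [h.aX, hz.1]) (by simp [h.aY, hy, hz.2]) ?_⟩
  simp only [h.aW, hy, map_add]
  field_simp
  ring

theorem exists_Z2 : ∃ v ∈ Z2 V P, v ∉ Zs V P := by
  obtain ⟨v, h1, h2, -⟩ := h.surj 0 1 0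
  exact ⟨v, h.mem_Z2.2 h1, fun e => by simpa [h2] using (h.mem_Zs.1 e).2⟩

theorem inv_iff : Inv V P w ↔ Sc X Y w (-1) := by
  refine ⟨fun e => ⟨fun v h1 h2 => e.z v (h.mem_Zs.2 ⟨h1, h2⟩), fun v h1 => ?_, fun v => ?_⟩,
    fun e => ⟨fun v hv => e.z v (h.mem_Zs.1 hv).1 (h.mem_Zs.1 hv).2, fun v hv => ?_, fun v => ?_⟩⟩
  · have := (h.mem_Zs.1 (e.y v (h.mem_Z2.2 h1))).2
    rw [map_add] at this
    linear_combination this
  · simpa [sub_eq_zero] using h.mem_Z2.1 (e.x v)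
  · rw [h.mem_Z2] at hv
    simp [h.mem_Zs, e.x, e.y v hv, hv]
  · simp [h.mem_Z2, e.x]

theorem sc_σ (t : K) : Sc X Y (σ t) 1 :=
  ⟨fun v h1 h2 => h.mem_Zs.2 ⟨h1, h2⟩ _ (h.σ_mem t), fun v h1 => by simp [h.aY, h1],
    fun v => by simp [h.aX]⟩

theorem sc_mem (hs : s ∈ P) : Sc X Y s 1 := by
  obtain ⟨t, rfl⟩ := (h.mem s).1 hs
  exact h.sc_σ t

theorem card_Zs : Nat.card (Zs V P) = Nat.card K :=
  Nat.card_eq_of_bijective (fun v : Zs V P => W v)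
    ⟨fun u v e => Subtype.ext (h.ext' ((h.mem_Zs.1 u.2).1.trans (h.mem_Zs.1 v.2).1.symm)
      ((h.mem_Zs.1 u.2).2.trans (h.mem_Zs.1 v.2).2.symm) e), fun z => by
      obtain ⟨v, h1, h2, h3⟩ := h.surj 0 0 z
      exact ⟨⟨v, h.mem_Zs.2 ⟨h1, h2⟩⟩, h3⟩⟩

theorem p_smul [CharP K p] (v : V) : p • v = 0 := h.ext _ (by simp) (by simp) (by simp)

theorem half [CharP K p] [hp : Fact p.Prime] {A : AddSubgroup V} (hv : v + v ∈ A) : v ∈ A := by
  obtain ⟨k, hk⟩ := hp.out.odd_of_ne_two fun e => h.two (by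
    exact_mod_cast (e ▸ CharP.cast_eq_zero K p : ((2 : ℕ) : K) = 0))
  have := nsmul_mem hv (k + 1)
  rwa [← two_nsmul, ← mul_nsmul, show 2 * (k + 1) = p + 1 by omega, succ_nsmul, h.p_smul,
    zero_add] at this

variable [FaithfulSMul Γ V]

theorem σ_zero : σ 0 = 1 := eq_of_smul_eq_smul fun v : V => by rw [h.σ_zero_smul, one_smul]

theorem σ_add (s t : K) : σ (s + t) = σ s * σ t := eq_of_smul_eq_smul fun v : V =>
  h.ext' (by simp [mul_smul, h.aX]) (by simp only [mul_smul, h.aX, h.aY]; ring)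
    (by simp only [mul_smul, h.aX, h.aY, h.aW]; ring)

theorem σ_neg (t : K) : σ (-t) = (σ t)⁻¹ :=
  eq_inv_of_mul_eq_one_left (by rw [← h.σ_add, neg_add_cancel, h.σ_zero])

theorem comm {s' : Γ} (hs : s ∈ P) (hs' : s' ∈ P) : s * s' = s' * s := by
  obtain ⟨t, rfl⟩ := (h.mem s).1 hs
  obtain ⟨t', rfl⟩ := (h.mem s').1 hs'
  rw [← h.σ_add, add_comm, h.σ_add]

theorem fix (hs : s ∈ P) (h1 : s ≠ 1) (e : s • v = v) : v ∈ Zs V P := by
  obtain ⟨t, rfl⟩ := (h.mem s).1 hs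
  exact h.mem_Zs.2 ((h.fix_iff fun ht : t = 0 => h1 (by rw [ht, h.σ_zero])).1 e)

theorem eq_one_of_sq (hs : s ∈ P) (e : s * s = 1) : s = 1 := by
  obtain ⟨t, rfl⟩ := (h.mem s).1 hs
  obtain ⟨v, h1, -, -⟩ := h.surj 1 0 0
  have := h.aY (t + t) v
  rw [h.σ_add, e, one_smul, h1, ← two_mul] at this
  have ht : t = 0 := by simpa [h.two] using this
  rw [ht, h.σ_zero]

variable [Finite Γ] [CharP K p]

theorem mem_of_sc (e : Sc X Y g 1) : g ∈ P := by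
  let U : Subgroup Γ := subgroupOfFinite {g | Sc X Y g 1} (h.sc_mem P.one_mem)
    fun a b ha hb => by simpa using Sc.mul ha hb
  have key : ∀ g ∈ U, ∀ v : V, g • v - v ∈ Z2 V P ∧ (v ∈ Z2 V P → g • v - v ∈ Zs V P) ∧
      (v ∈ Zs V P → g • v = v) := fun g hg v =>
    have hg : Sc X Y g 1 := hg
    ⟨by simp [h.mem_Z2, hg.x], fun hv => by
      simp [h.mem_Zs, hg.x, hg.y v (h.mem_Z2.1 hv)],
      fun hv => hg.z v (h.mem_Zs.1 hv).1 (h.mem_Zs.1 hv).2⟩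
  refine (h.syl.max U (fun s hs => h.sc_mem hs) le_top fun g => ⟨2, Subtype.ext ?_⟩).le e
  refine eq_of_smul_eq_smul fun v : V => ?_
  have h1 := pow_smul_sub (key _ g.2 v).1 (fun u hu => (key _ g.2 u).2.1 hu)
    (fun u hu => by rwa [(key _ g.2 u).2.2 hu]) p
  rw [h.p_smul, sub_zero] at h1
  have h2 := pow_smul_sub (B := ⊥) h1
    (fun u hu => by rw [(key _ (pow_mem g.2 p) u).2.2 hu, sub_self]; exact zero_mem _)
    (fun u hu => by rw [AddSubgroup.mem_bot.1 hu, smul_zero]; exact zero_mem _) p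
  rw [h.p_smul, sub_zero, AddSubgroup.mem_bot, sub_eq_zero, ← pow_mul, ← sq] at h2
  simpa using h2

theorem norm (h2 : ∀ v ∈ Z2 V P, g • v ∈ Z2 V P) (h1 : ∀ v ∈ Zs V P, g • v ∈ Zs V P) :
    Trans.cj g P = P := by
  refine cj_eq_self_iff.2 (mem_normalizer_fintype fun s hs => h.mem_of_sc
    ⟨fun v e1 e2 => ?_, fun v e1 => ?_, fun v => ?_⟩)
  · rw [mul_smul, mul_smul, inv_smul_mem h1 (h.mem_Zs.2 ⟨e1, e2⟩) s hs, smul_inv_smul]
  · have := (h.mem_Zs.1 (h1 _ (inv_smul_mem h2 (h.mem_Z2.2 e1) s hs))).2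
    simpa [smul_sub, sub_eq_zero, mul_smul] using this
  · have := h.mem_Z2.1 (h2 _ (h.sub_mem hs (g⁻¹ • v)))
    simpa [smul_sub, sub_eq_zero, mul_smul] using this

theorem norm_sc (e : Sc X Y g a) : Trans.cj g P = P :=
  h.norm (fun v hv => h.mem_Z2.2 (by rw [e.x, h.mem_Z2.1 hv, mul_zero]))
    fun v hv => by rwa [e.z v (h.mem_Zs.1 hv).1 (h.mem_Zs.1 hv).2]

theorem cent (hs : s ∈ P) (h1 : s ≠ 1) (e : g * s = s * g) : Trans.cj g P = P := by
  refine h.norm (fun v hv => ?_) fun v hv => h.fix hs h1 (by rw [← mul_smul, ← e, mul_smul, hv s hs])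
  obtain ⟨t, rfl⟩ := (h.mem s).1 hs
  have ht : t ≠ 0 := fun ht => h1 (by rw [ht, h.σ_zero])
  have := h.two
  obtain ⟨u, u1, u2, u3⟩ := h.surj (Y v / t) ((W v - t * Y v) / (2 * t)) 0
  have : v = σ t • u - u := h.ext' (by simp [h.aX, h.mem_Z2.1 hv])
    (by simp only [map_sub, h.aY, u1]; field_simp; ring)
    (by simp only [map_sub, h.aW, u1, u2]; field_simp; ring)
  rw [this, smul_sub, ← mul_smul, e, mul_smul]
  exact h.sub_mem hs _

omit [Finite Γ] [CharP K p] [FaithfulSMul Γ V] in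
theorem exists_conj (hn : Trans.cj n P = P) (t : K) : ∃ t', ∀ v : V, σ t' • n • v = n • σ t • v := by
  obtain ⟨t', e⟩ := (h.mem _).1 (hn.le (conj_mem_cj.2 (h.σ_mem t)))
  exact ⟨t', fun v => by rw [← e, mul_smul, inv_smul_smul, mul_smul]⟩

omit [Finite Γ] [CharP K p] [FaithfulSMul Γ V] in
theorem exists_sc (hn : Trans.cj n P = P) (hz : ∀ v ∈ Zs V P, n • v = v) :
    ∃ b, b ≠ 0 ∧ Sc X Y n b := by
  have k1 : ∀ t, ∃ t', (∀ v, X v = 0 → t' * Y (n • v) = t * Y v) ∧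
      ∀ v, t' * X (n • v) = Y (n • (σ t • v - v)) := fun t => by
    obtain ⟨t', e⟩ := h.exists_conj hn t
    refine ⟨t', fun v hv => ?_, fun v => by rw [smul_sub, ← e, map_sub, h.aY]; ring⟩
    have h1 := congrArg W (hz _ (h.mem_Z2.2 hv _ (h.σ_mem t)))
    rw [smul_sub, ← e, map_sub, map_sub, h.aW, h.aW, hv,
      h.mem_Z2.1 ((Z2_norm hn).2 (h.mem_Z2.2 hv))] at h1
    exact mul_left_cancel₀ h.two (by linear_combination h1)
  obtain ⟨c, c1, c2⟩ := k1 1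
  obtain ⟨v, v1, v2, -⟩ := h.surj 0 1 0
  have hc : c ≠ 0 := fun e => by simpa [e, v2] using c1 v v1
  have hy : ∀ v, X v = 0 → Y (n • v) = c⁻¹ * Y v := fun v hv => by
    rw [eq_inv_mul_iff_mul_eq₀ hc, c1 v hv, one_mul]
  refine ⟨c⁻¹, inv_ne_zero hc, fun v h1 h2 => hz v (h.mem_Zs.2 ⟨h1, h2⟩), hy, fun v => ?_⟩
  have := c2 v
  rw [hy _ (by simp [h.aX]), map_sub, h.aY] at this
  field_simp at this ⊢
  linear_combination this

omit [Finite Γ] [CharP K p] [FaithfulSMul Γ V] in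
theorem cent_of_scal (hn : Trans.cj n P = P) {k : ℤ} (hy : ∀ v ∈ Z2 V P, n • v - k • v ∈ Zs V P)
    {d : V} (hd : d ∈ Zs V P) (hd0 : d ≠ 0) (e : n • d = d) : ∀ v ∈ Zs V P, n • v = v := by
  obtain ⟨c, hc⟩ := h.exists_conj hn 1
  have key : ∀ v ∈ Zs V P, W (n • v) = c * k * W v := fun v hv => by
    have := h.two
    obtain ⟨u, u1, u2, -⟩ := h.surj 0 (W v / 2) 0
    have e1 : v = σ 1 • u - u := h.ext' (by simp [h.aX, (h.mem_Zs.1 hv).1])
      (by simp [h.aY, u1, (h.mem_Zs.1 hv).2]) (by simp only [map_sub, h.aW, u1, u2]; field_simp; ring)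
    have e2 := (h.mem_Zs.1 (hy u (h.mem_Z2.2 u1))).2
    rw [map_sub, map_zsmul, zsmul_eq_mul, sub_eq_zero, u2] at e2
    conv_lhs => rw [e1, smul_sub, ← hc, map_sub, h.aW, e2,
      h.mem_Z2.1 ((Z2_norm hn).2 (h.mem_Z2.2 u1))]
    field_simp
    ring
  have h1 : c * k = 1 := by
    have := key d hd
    rw [e] at this
    exact mul_right_cancel₀ (fun e => hd0 (h.ext _ (h.mem_Zs.1 hd).1 (h.mem_Zs.1 hd).2 e))
      (by rw [← this, one_mul])
  intro v hv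
  have h2 := h.mem_Zs.1 ((Zs_norm hn).2 hv)
  exact h.ext' (h2.1.trans (h.mem_Zs.1 hv).1.symm) (h2.2.trans (h.mem_Zs.1 hv).2.symm)
    (by rw [key v hv, h1, one_mul])

theorem inv_norm (hw : Inv V P w) : Trans.cj w P = P := h.norm_sc (h.inv_iff.1 hw)

theorem inv_conj (hw : Inv V P w) (hs : s ∈ P) : w * s = s⁻¹ * w := by
  obtain ⟨t, rfl⟩ := (h.mem s).1 hs
  obtain ⟨t', e⟩ := h.exists_conj (h.inv_norm hw) t
  obtain ⟨v, v1, -, -⟩ := h.surj 1 0 0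
  have e1 := (h.inv_iff.1 hw).y _ (h.mem_Z2.1 (h.sub_mem hs v))
  rw [smul_sub, ← e, map_sub, map_sub, h.aY, h.aY, (h.inv_iff.1 hw).x, v1] at e1
  obtain rfl : t' = -t := by linear_combination e1
  exact eq_of_smul_eq_smul fun v : V => by rw [mul_smul, mul_smul, ← e, h.σ_neg]

theorem inv_mul_mem (hw : Inv V P w) (hw' : Inv V P w') : w⁻¹ * w' ∈ P :=
  h.mem_of_sc (by simpa using ((h.inv_iff.1 hw).inv (by simp)).mul (h.inv_iff.1 hw'))

theorem inv_sq (hw : Inv V P w) : w * w = 1 := by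
  have h1 : w * w ∈ P := h.mem_of_sc (by simpa using (h.inv_iff.1 hw).mul (h.inv_iff.1 hw))
  refine h.eq_one_of_sq h1 ?_
  have := h.inv_conj hw h1
  rw [eq_inv_mul_iff_mul_eq] at this
  exact mul_right_cancel (b := w) (by rw [one_mul]; simpa only [mul_assoc] using this)

theorem exists_inv_conj (hw : Inv V P w) (hw' : Inv V P w') : ∃ r ∈ P, w' = r * w * r⁻¹ := by
  obtain ⟨t, e⟩ := (h.mem _).1 (h.inv_mul_mem hw hw')
  have := h.two
  refine ⟨_, h.σ_mem (-(t / 2)), ?_⟩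
  rw [h.σ_neg, inv_inv, ← h.inv_conj hw (h.σ_mem _), mul_assoc, ← h.σ_add,
    show t / 2 + t / 2 = t by field_simp; ring, ← e, mul_inv_cancel_left]

theorem exists_inv_fix [Fact p.Prime] {u : V} (hu : u ∉ Z2 V P) : ∃ w, Inv V P w ∧ w • u = u := by
  obtain ⟨w, hw⟩ := h.hh (-1) (by simp)
  rw [h.mem_Z2] at hu
  have h1 : Inv V P (σ ((Y u - Y (w • u)) / X u) * w) :=
    h.inv_iff.2 (by simpa using (h.sc_σ _).mul hw)
  refine ⟨_, h1, ?_⟩
  have h2 : (σ ((Y u - Y (w • u)) / X u) * w) • u - u ∈ Zs V P := h.mem_Zs.2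
    ⟨h.mem_Z2.1 (h1.x u), by simp only [map_sub, mul_smul, h.aY, hw.x]; field_simp; ring⟩
  have h3 := h1.z _ h2
  rw [smul_sub, ← mul_smul, h.inv_sq h1, one_smul] at h3
  refine sub_eq_zero.1 (AddSubgroup.mem_bot.1 (h.half ?_))
  nth_rw 1 [← h3]
  simp

theorem inv_or (hn : Trans.cj n P = P) (hz : ∀ v ∈ Zs V P, n • v = v) (h2 : n * n = 1) :
    n = 1 ∨ Inv V P n := by
  obtain ⟨b, -, hb⟩ := h.exists_sc hn hz
  obtain ⟨v, v1, v2, -⟩ := h.surj 0 1 0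
  have := (hb.mul hb).y v v1
  rw [h2, one_smul, v2, mul_one, eq_comm, mul_self_eq_one_iff] at this
  rcases this with rfl | rfl
  · exact Or.inl (h.eq_one_of_sq (h.mem_of_sc hb) h2)
  · exact Or.inr (h.inv_iff.2 hb)

omit [Finite Γ] [FaithfulSMul Γ V] [CharP K p] in
theorem inv_ne (hw : Inv V P w) : w ≠ 1 := by
  rintro rfl
  obtain ⟨v, v1, v2, -⟩ := h.surj 0 1 0
  have := (h.inv_iff.1 hw).y v v1
  rw [one_smul, v2] at this
  exact h.two (by linear_combination this)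

end Co

end Cfsg.Lib.Sp4F.LA
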